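import Groth.Agent.EssEt6.FibreTransfer
import Groth.Agent.HenselLib.HullProps
import Groth.Agent.HenselLib.LocalHens

/-!
# The normalization of a strict henselization
-/

set_option autoImplicit false
set_option linter.style.haveILetI false
set_option maxSynthPendingDepth 6

universe u

open nonZeroDivisors IsLocalRing
open scoped TensorProduct

namespace Groth.Agent.EssEt6

variable {A S : Type u} [CommRing A] [IsLocalRing A] [CommRing S] [IsLocalRing S] [Algebra A S]
  [IsLocalHom (algebraMap A S)] [Hensel.IsStrictHenselization A S]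

theorem isUnit_strict {a : A} (ha : a ∈ A⁰) : IsUnit (algebraMap A (FractionRing S) a) := by
  haveI := flat_strict (A := A) S
  rw [IsScalarTower.algebraMap_apply A S (FractionRing S)]
  refine IsLocalization.map_units (M := S⁰) (FractionRing S) (⟨algebraMap A S a, ?_⟩ : S⁰)
  rw [mem_nonZeroDivisors_iff_right]
  intro x hx
  refine Module.Flat.isSMulRegular_of_nonZeroDivisors ha (M := S) ?_
  show a • x = a • (0 : S)
  rw [smul_zero, Algebra.smul_def, mul_comm]
  exact hx

theorem isLocalHom_stage {E : Subalgebra A S} [IsLocalRing E] (hE : EGA4loc.IsEssentiallyEtale A E) :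
    IsLocalHom (algebraMap E S) :=
  ((local_hom_TFAE (algebraMap E S)).out 2 0).mp (by
    rw [← map_maximalIdeal hE, Ideal.map_map, ← IsScalarTower.algebraMap_eq]
    exact ((local_hom_TFAE (algebraMap A S)).out 0 2).mp ‹_›)

theorem exists_stage_fractions [IsReduced A] [IsNoetherianRing A] {E : Subalgebra A S} [IsLocalRing E]
    (hE : EGA4loc.IsEssentiallyEtale A E) :
    ∃ Φ : FractionRing E →ₐ[A] FractionRing S, Function.Injective Φ ∧
      ∀ e : E, Φ (algebraMap E (FractionRing E) e) = algebraMap S (FractionRing S) (e : S) := by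
  haveI := flat_strict (A := A) S
  haveI := isLocalHom_stage hE
  haveI : IsLocalHom E.val.toRingHom := ‹IsLocalHom (algebraMap E S)›
  obtain ⟨Φ, hΦ⟩ := exists_fractions_hom hE E.val
  exact ⟨Φ, injective_fractions Φ E.val Subtype.val_injective hΦ, hΦ⟩

omit [IsLocalRing A] [IsLocalRing S] [IsLocalHom (algebraMap A S)] [Hensel.IsStrictHenselization A S] in
theorem map_mem_normalization {E : Subalgebra A S} {Φ : FractionRing E →ₐ[A] FractionRing S}
    (hΦ : ∀ e : E, Φ (algebraMap E (FractionRing E) e) = algebraMap S (FractionRing S) (e : S))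
    {D₀ : Subalgebra A E} {D : Subalgebra A S} (hD : ∀ d ∈ D₀, (d : S) ∈ D)
    {x : FractionRing E} (hx : x ∈ normalization D₀) : Φ x ∈ normalization D := by
  obtain ⟨⟨a, ha, d, hd, hax⟩, hint⟩ := hx
  refine ⟨⟨a, ha, d, hD d hd, ?_⟩, ?_⟩
  · rw [← Φ.commutes, ← map_mul, hax]
    exact hΦ d
  · exact (show IsIntegral D₀ x from hint).map_of_comp_eq (S := FractionRing E)
      ((E.val.comp D₀.val).codRestrict D fun d => hD d d.2).toRingHom Φ.toRingHom
      (RingHom.ext fun d => (hΦ d).symm)

variable [IsReduced A] [IsNoetherianRing A]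

/-- Elements of the normalization of a subalgebra come from finite stages. -/
theorem exists_preimage (D : Subalgebra A S) {z : FractionRing S} (hz : z ∈ normalization D) :
    ∃ s : Finset S, (s : Set S) ⊆ D ∧ ∀ (E : Subalgebra A S) [IsLocalRing E],
      EGA4loc.IsEssentiallyEtale A E → (s : Set S) ⊆ E →
      ∀ Φ : FractionRing E →ₐ[A] FractionRing S, Function.Injective Φ →
      (∀ e : E, Φ (algebraMap E (FractionRing E) e) = algebraMap S (FractionRing S) (e : S)) →
      ∃ x ∈ normalization (D.comap E.val), Φ x = z := by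
  classical
  obtain ⟨⟨a, ha, d, hd, hax⟩, hint⟩ := hz
  obtain ⟨p, hp, hpz⟩ := (show IsIntegral D z from hint)
  refine ⟨insert d (p.support.image fun i => ((p.coeff i : D) : S)), ?_, ?_⟩
  · intro e he
    rcases Finset.mem_insert.mp he with rfl | h
    · exact hd
    · obtain ⟨i, -, rfl⟩ := Finset.mem_image.mp h
      exact (p.coeff i).2
  intro E _ hE hs Φ hΦi hΦ
  let D₀ : Subalgebra A E := D.comap E.val
  have hdE : d ∈ E := hs (Finset.mem_insert_self _ _)
  obtain ⟨w, hw⟩ := ((isUnit_saturation hE D₀ a ha).map (saturation D₀).val).exists_left_inv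
  let x : FractionRing E := w * algebraMap E _ ⟨d, hdE⟩
  have hx : algebraMap A (FractionRing E) a * x = algebraMap E _ ⟨d, hdE⟩ := by
    rw [mul_left_comm, ← mul_assoc, show w * algebraMap A (FractionRing E) a = 1 from hw, one_mul]
  have hΦx : Φ x = z := by
    refine (isUnit_strict ha).mul_left_cancel ?_
    rw [hax, ← Φ.commutes, ← map_mul, hx]
    exact hΦ _
  refine ⟨x, ⟨⟨a, ha, ⟨d, hdE⟩, hd, hx⟩, ?_⟩, hΦx⟩
  letI : Algebra D₀ (FractionRing S) :=
    ((Φ.toRingHom.comp (algebraMap E (FractionRing E))).comp (algebraMap D₀ E)).toAlgebra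
  let Φ' : FractionRing E →ₐ[D₀] FractionRing S := { Φ.toRingHom with commutes' := fun _ => rfl }
  refine (isIntegral_algHom_iff Φ' hΦi).mp ?_
  rw [show Φ' x = z from hΦx]
  have hp' : p.map (algebraMap D S) ∈ Polynomial.lifts ((algebraMap E S).comp (algebraMap D₀ E)) := by
    rw [Polynomial.lifts_iff_coeff_lifts]
    intro i
    rw [Polynomial.coeff_map]
    by_cases h0 : p.coeff i = 0
    · exact ⟨0, by rw [h0, map_zero, map_zero]⟩
    · exact ⟨⟨⟨_, hs (Finset.mem_insert_of_mem (Finset.mem_image_of_mem _
        (Polynomial.mem_support_iff.mpr h0)))⟩, (p.coeff i).2⟩, rfl⟩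
  obtain ⟨q, hq, -, hqm⟩ := Polynomial.lifts_and_natDegree_eq_and_monic hp' (hp.map _)
  refine ⟨q, hqm, ?_⟩
  have hcomp : algebraMap D₀ (FractionRing S) =
      (algebraMap S (FractionRing S)).comp ((algebraMap E S).comp (algebraMap D₀ E)) :=
    RingHom.ext fun e => hΦ e
  rw [hcomp, ← Polynomial.eval₂_map, hq, Polynomial.eval₂_map]
  exact hpz

theorem normalization_top_strict :
    normalization (⊤ : Subalgebra A S) = (integralClosure S (FractionRing S)).restrictScalars A := by
  refine le_antisymm (fun x hx => isIntegral_ambient hx.2) fun x hx => ⟨?_, ?_⟩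
  · classical
    obtain ⟨⟨b, n⟩, hbn⟩ := IsLocalization.surj S⁰ x
    obtain ⟨E, hsE, _, -, hE⟩ := exists_subalgebra (A := A) S {b, (n : S)}
    obtain ⟨Φ, hΦi, hΦ⟩ := exists_stage_fractions hE
    have hfin := minimalPrimes.finite_of_isNoetherianRing A
    haveI := isLocalization_fractionRing hfin hE
    let n' : E := ⟨n, hsE (by simp)⟩
    let b' : E := ⟨b, hsE (by simp)⟩
    have hn : n' ∈ E⁰ := by
      rw [mem_nonZeroDivisors_iff_right]
      intro e he
      exact Subtype.ext ((mem_nonZeroDivisors_iff_right.mp n.2) _ (congrArg (fun w : E => (w : S)) he))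
    obtain ⟨w, hw⟩ := (IsLocalization.map_units (FractionRing E) (⟨n', hn⟩ : E⁰)).exists_left_inv
    obtain ⟨⟨e, m⟩, hem⟩ := IsLocalization.surj ((A⁰).map (algebraMap A E)) (w * algebraMap E _ b')
    obtain ⟨a, ha, ham⟩ := m.2
    have hxw : Φ (w * algebraMap E _ b') = x := by
      refine (IsLocalization.map_units (FractionRing S) n).mul_right_cancel ?_
      rw [hbn, show algebraMap S (FractionRing S) (n : S) = Φ (algebraMap E _ n') from (hΦ n').symm,
        ← map_mul, mul_right_comm, show w * algebraMap E (FractionRing E) n' = 1 from hw, one_mul]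
      exact hΦ b'
    refine ⟨a, ha, (e : S), Algebra.mem_top, ?_⟩
    rw [← Φ.commutes, ← hxw, ← map_mul, mul_comm, IsScalarTower.algebraMap_apply A E (FractionRing E), ham,
      hem]
    exact hΦ e
  · exact (show IsIntegral S x from hx).map_of_comp_eq (S := FractionRing S)
      (Subalgebra.topEquiv (R := A) (A := S)).symm.toRingEquiv.toRingHom (RingHom.id _) rfl

/-- The normalization of the strict henselization is generated by the normalization of the base. -/
theorem bijective_prodTop_strict : Function.Bijective (prodTop (A := A) (E := S)) := by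
  haveI := flat_strict (A := A) S
  have hfin := minimalPrimes.finite_of_isNoetherianRing A
  let F := FractionRing S
  refine ⟨fun x y hxy => ?_, fun z => ?_⟩
  · have key : ∀ ζ : baseNorm A S ⊗[A] S, ∃ a ∈ A⁰, ∃ e : S,
        algebraMap A (baseNorm A S ⊗[A] S) a * ζ = 1 ⊗ₜ e := by
      intro ζ
      induction ζ using TensorProduct.induction_on with
      | zero => exact ⟨1, one_mem _, 0, by rw [mul_zero, TensorProduct.tmul_zero]⟩
      | tmul r e =>
        obtain ⟨a, ha, d, hd, hr⟩ := r.2.1
        obtain ⟨b, hb⟩ := Algebra.mem_bot.mp hd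
        have hrb : algebraMap A (baseNorm A S) a * r = algebraMap A (baseNorm A S) b := Subtype.ext (by
          show algebraMap A F a * (r : F) = algebraMap A F b
          rw [hr, ← hb, ← IsScalarTower.algebraMap_apply])
        refine ⟨a, ha, b • e, ?_⟩
        rw [TensorProduct.tmul_smul, TensorProduct.smul_tmul', Algebra.TensorProduct.algebraMap_apply,
          Algebra.TensorProduct.tmul_mul_tmul, one_mul, hrb, Algebra.algebraMap_eq_smul_one]
      | add x y hx hy =>
        obtain ⟨a, ha, e, hae⟩ := hx
        obtain ⟨b, hb, e', hbe⟩ := hy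
        refine ⟨a * b, mul_mem ha hb, b • e + a • e', ?_⟩
        rw [TensorProduct.tmul_add, TensorProduct.tmul_smul, TensorProduct.tmul_smul, ← hae, ← hbe,
          map_mul, mul_add, mul_assoc, mul_assoc]
        refine congr (congrArg HAdd.hAdd ?_) ?_
        · exact (mul_left_comm _ _ _).trans (Algebra.smul_def b _).symm
        · exact (Algebra.smul_def a _).symm
    have hinj : ∀ ζ : baseNorm A S ⊗[A] S, prodTop ζ = 0 → ζ = 0 := by
      intro ζ hζ
      obtain ⟨a, ha, e, hae⟩ := key ζ
      have h1 : prodTop (algebraMap A (baseNorm A S ⊗[A] S) a * ζ) = 0 := by rw [map_mul, hζ, mul_zero]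
      rw [hae] at h1
      have h2 : algebraMap S F e = 0 := by
        have h3 : tensorToFractions (⊥ : Subalgebra A S) ((1 : baseNorm A S) ⊗ₜ e) = 0 :=
          congrArg Subtype.val h1
        rwa [tensorToFractions_tmul, OneMemClass.coe_one, one_mul] at h3
      rw [IsFractionRing.injective S F (h2.trans (map_zero _).symm), TensorProduct.tmul_zero] at hae
      let μ : baseNorm A S →ₗ[A] baseNorm A S := a • LinearMap.id
      have hμ : Function.Injective μ := fun r s h => Subtype.ext <| by
        have h' : a • (r : F) = a • (s : F) := congrArg Subtype.val h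
        rw [Algebra.smul_def, Algebra.smul_def] at h'
        exact (isUnit_strict ha).mul_left_cancel h'
      refine (Module.Flat.rTensor_preserves_injective_linearMap (M := S) μ hμ) ?_
      rw [map_zero, show μ.rTensor S = a • LinearMap.id by rw [LinearMap.rTensor_smul, LinearMap.rTensor_id]]
      show a • ζ = 0
      exact (Algebra.smul_def a ζ).trans hae
    exact sub_eq_zero.mp (hinj _ (by rw [map_sub, hxy, sub_self]))
  · obtain ⟨s, -, hs⟩ := exists_preimage (⊤ : Subalgebra A S) (z := (z : F))
      (by rw [normalization_top_strict]; exact z.2)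
    obtain ⟨E, hsE, _, -, hE⟩ := exists_subalgebra (A := A) S s
    obtain ⟨Φ, hΦi, hΦ⟩ := exists_stage_fractions hE
    obtain ⟨x, hx, hxz⟩ := hs E hE hsE Φ hΦi hΦ
    obtain ⟨ζ, hζ⟩ := exists_tensorToFractions_eq hfin hE (⊥ : Subalgebra A E) (isIntegral_ambient hx.2)
    let g : baseNorm A E →ₐ[A] baseNorm A S := (Φ.comp (baseNorm A E).val).codRestrict _ fun r =>
      map_mem_normalization hΦ (D := ⊥) (fun d hd => by
        obtain ⟨c, hc⟩ := Algebra.mem_bot.mp hd
        exact Algebra.mem_bot.mpr ⟨c, congrArg Subtype.val hc⟩) r.2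
    have hcomm : (tensorToFractions (⊥ : Subalgebra A S)).comp (Algebra.TensorProduct.map g E.val) =
        Φ.comp (tensorToFractions (⊥ : Subalgebra A E)) :=
      Algebra.TensorProduct.ext' fun r e => by
        show (g r : F) * algebraMap S F (e : S) = Φ ((r : FractionRing E) * algebraMap E _ e)
        rw [map_mul, hΦ]
        rfl
    refine ⟨Algebra.TensorProduct.map g E.val ζ, Subtype.ext ?_⟩
    exact (DFunLike.congr_fun hcomm ζ).trans ((congrArg Φ hζ).trans hxz)

theorem finite_baseNorm (hA : CAlg.IsNagata A) : Module.Finite A (baseNorm A S) := by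
  obtain ⟨E, -, _, -, hE⟩ := exists_subalgebra (A := A) S ∅
  obtain ⟨Φ, hΦi, hΦ⟩ := exists_stage_fractions hE
  haveI := isLocalHom hE
  haveI := flat hE
  haveI : Module.FaithfullyFlat A E := Module.FaithfullyFlat.of_flat_of_isLocalHom
  haveI : FaithfulSMul A E := Module.FaithfullyFlat.faithfulSMul
  haveI : FaithfulSMul A S := (faithfulSMul_iff_algebraMap_injective A S).mpr fun a b h =>
    FaithfulSMul.algebraMap_injective A E (Subtype.ext h)
  let eE := Algebra.botEquivOfInjective (FaithfulSMul.algebraMap_injective A E)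
  let eS := Algebra.botEquivOfInjective (FaithfulSMul.algebraMap_injective A S)
  obtain ⟨ψ, -⟩ := exists_normalization_equiv hE (⊥ : Subalgebra A E) Φ hΦi
    (eE.trans eS.symm).toRingEquiv
    (fun d => by
      obtain ⟨a, rfl⟩ := eE.symm.surjective d
      show Φ _ = algebraMap S (FractionRing S) ((eS.symm (eE (eE.symm a)) : (⊥ : Subalgebra A S)) : S)
      rw [eE.apply_symm_apply, hΦ]
      exact congrArg (algebraMap S (FractionRing S))
        ((congrArg (fun w : E => (w : S)) (congrArg Subtype.val (eE.symm.commutes a))).trans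
          (congrArg Subtype.val (eS.symm.commutes a)).symm))
    (baseNorm A S) (fun x => ⟨fun ⟨⟨a, ha, d, hd, h⟩, hi⟩ => ⟨hi, a, ha, ⟨d, hd⟩, h⟩,
      fun ⟨hi, a, ha, r, h⟩ => ⟨⟨a, ha, r, r.2, h⟩, hi⟩⟩)
  haveI : Algebra.EssFiniteType A (⊥ : Subalgebra A E) :=
    Algebra.EssFiniteType.of_surjective (Algebra.ofId A (⊥ : Subalgebra A E)) fun z => by
      obtain ⟨a, ha⟩ := Algebra.mem_bot.mp z.2
      exact ⟨a, Subtype.ext ha⟩
  haveI : Module.Finite A (baseNorm A E) := by
    have h1 : (algebraMap A (⊥ : Subalgebra A E)).Finite :=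
      RingHom.Finite.of_surjective _ fun z => by
        obtain ⟨a, ha⟩ := Algebra.mem_bot.mp z.2
        exact ⟨a, Subtype.ext ha⟩
    have h2 : (algebraMap A (baseNorm A E)).Finite := by
      rw [show algebraMap A (baseNorm A E) = (toNormalization (⊥ : Subalgebra A E)).comp
        (algebraMap A (⊥ : Subalgebra A E)) from
        RingHom.ext fun a => Subtype.ext (IsScalarTower.algebraMap_apply A E (FractionRing E) a)]
      exact (finite_toNormalization hA hE (⊥ : Subalgebra A E)).comp h1
    exact RingHom.finite_algebraMap.mp h2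
  exact Module.Finite.equiv ψ.toLinearEquiv

omit [IsReduced A] [IsNoetherianRing A] in
theorem isNoetherianRing_strict : IsNoetherianRing A → IsNoetherianRing S := fun _ => by
  obtain ⟨e⟩ := HenselLib.exists_equiv_localSH (R := A) S
  haveI := HenselLib.isNoetherianRing_localSH (R := A)
  exact isNoetherianRing_of_ringEquiv _ e.toRingEquiv

theorem finite_integralClosure_strict (hA : CAlg.IsNagata A) :
    Module.Finite S (integralClosure S (FractionRing S)) := by
  haveI := finite_baseNorm (S := S) hA
  let φ : S ⊗[A] baseNorm A S →ₐ[S] integralClosure S (FractionRing S) :=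
    Algebra.TensorProduct.lift (Algebra.ofId S _)
      ({ toAmbient (⊥ : Subalgebra A S) with commutes' := fun a => Subtype.ext rfl } :
        baseNorm A S →ₐ[A] integralClosure S (FractionRing S)) fun _ _ => Commute.all _ _
  have hφ : Function.Surjective φ := fun z => by
    obtain ⟨ζ, hζ⟩ := (bijective_prodTop_strict (A := A) (S := S)).2 z
    refine ⟨Algebra.TensorProduct.comm A _ _ ζ, ?_⟩
    rw [← hζ]
    clear hζ
    induction ζ using TensorProduct.induction_on with
    | zero => rw [map_zero, map_zero, map_zero]; rfl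
    | tmul r e =>
      refine Subtype.ext ?_
      show algebraMap S (FractionRing S) e * (r : FractionRing S) = (r : FractionRing S) * _
      rw [mul_comm]
      rfl
    | add x y hx hy => rw [map_add, map_add, map_add, hx, hy]; rfl
  exact Module.Finite.of_surjective φ.toLinearMap hφ

theorem finite_maximal_strict (hA : CAlg.IsNagata A) :
    {Q : Ideal (integralClosure S (FractionRing S)) | Q.IsMaximal}.Finite := by
  haveI := finite_integralClosure_strict (S := S) hA
  refine (Algebra.QuasiFinite.finite_primesOver (S := integralClosure S (FractionRing S))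
    (maximalIdeal S)).subset fun N hN => ?_
  haveI : N.IsMaximal := hN
  exact ⟨inferInstance, ⟨(IsLocalRing.eq_maximalIdeal
    (Ideal.isMaximal_comap_of_isIntegral_of_isMaximal (R := S) N)).symm⟩⟩

omit [IsNoetherianRing A] [IsReduced A] in
/-- The fibre ideal descends along a local inclusion. -/
theorem fibreIdeal_le_comap_strict {D : Subalgebra A S} [IsLocalRing D] [IsLocalHom (algebraMap D S)] :
    (fibreIdeal A S S).comap (Algebra.TensorProduct.map (AlgHom.id A (baseNorm A S)) D.val) ≤
      fibreIdeal A S D := by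
  haveI : IsLocalHom D.val.toRingHom := ‹IsLocalHom (algebraMap D S)›
  haveI : IsLocalHom (algebraMap A D) :=
    ⟨fun a ha => IsUnit.of_map (algebraMap A S) a (ha.map (algebraMap D S))⟩
  let Ā := baseNorm A S ⧸ Ideal.jacobson (⊥ : Ideal (baseNorm A S))
  let qr : ResidueField D →+* ResidueField S := ResidueField.map D.val.toRingHom
  let qk : ResidueField D →ₗ[ResidueField A] ResidueField S :=
    { toFun := qr
      map_add' := map_add qr
      map_smul' := fun c x => by
        rw [Algebra.smul_def, Algebra.smul_def, map_mul, RingHom.id_apply]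
        congr 1
        obtain ⟨a, rfl⟩ := IsLocalRing.residue_surjective c
        rfl }
  obtain ⟨l, hl⟩ := qk.exists_leftInverse_of_injective (LinearMap.ker_eq_bot.mpr qr.injective)
  intro ζ hζ
  rw [← ker_fibreMap] at hζ ⊢
  rw [RingHom.mem_ker]
  let L := LinearMap.lTensor Ā (qk.restrictScalars A)
  have hsq : ∀ ζ : baseNorm A S ⊗[A] D,
      L (fibreMap A S D ζ) = fibreMap A S S (Algebra.TensorProduct.map (AlgHom.id A _) D.val ζ) := by
    intro ζ
    induction ζ using TensorProduct.induction_on with
    | zero => simp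
    | tmul r d => rfl
    | add x y hx hy => simp only [map_add, hx, hy]
  have h0 : L (fibreMap A S D ζ) = 0 := (hsq ζ).trans hζ
  have h1 := congrArg (LinearMap.lTensor Ā (l.restrictScalars A)) h0
  rw [map_zero, ← LinearMap.comp_apply, ← LinearMap.lTensor_comp] at h1
  rwa [show (l.restrictScalars A).comp (qk.restrictScalars A) = LinearMap.id from
    LinearMap.ext fun x => LinearMap.congr_fun hl x, LinearMap.lTensor_id, LinearMap.id_apply] at h1

/-- The radical of the base change of the normalization is the fibre ideal. -/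
theorem mem_fibreIdeal_of_forall (hA : CAlg.IsNagata A) {ζ : baseNorm A S ⊗[A] S}
    (h : ∀ Q : Ideal (integralClosure S (FractionRing S)), Q.IsMaximal →
      (⟨(prodTop ζ : FractionRing S), (prodTop ζ).2⟩ : integralClosure S (FractionRing S)) ∈ Q) :
    ζ ∈ fibreIdeal A S S := by
  classical
  let R := baseNorm A S
  let e := (AlgEquiv.ofBijective (prodTop (A := A) (E := S)) bijective_prodTop_strict).toRingEquiv
  have hjac : ζ ∈ Ideal.jacobson (⊥ : Ideal (R ⊗[A] S)) := mem_jacobson_bot_iff_forall.mpr fun M hM => by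
    haveI := hM
    let Q : Ideal (integralClosure S (FractionRing S)) := M.comap e.symm.toRingHom
    haveI hQ : Q.IsMaximal := Ideal.comap_isMaximal_of_surjective e.symm.toRingHom e.symm.surjective
    have h1 : e.symm (e ζ) ∈ M := h Q hQ
    rwa [e.symm_apply_apply] at h1
  haveI := finite_baseNorm (S := S) hA
  haveI : Algebra.IsIntegral A R := inferInstance
  have hfinmax : {N : Ideal R | N.IsMaximal}.Finite := by
    refine (Algebra.QuasiFinite.finite_primesOver (S := R) (maximalIdeal A)).subset fun N hN => ?_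
    haveI : N.IsMaximal := hN
    exact ⟨inferInstance, ⟨(IsLocalRing.eq_maximalIdeal
      (Ideal.isMaximal_comap_of_isIntegral_of_isMaximal (R := A) N)).symm⟩⟩
  haveI := hfinmax.to_subtype
  let f : {N : Ideal R | N.IsMaximal} → Ideal R := fun N => N.1
  have hcop : Pairwise (fun P Q => IsCoprime (f P) (f Q)) := fun P Q hne => by
    show IsCoprime (f P) (f Q)
    rw [Ideal.isCoprime_iff_sup_eq]
    exact P.2.coprime_of_ne Q.2 fun h => hne (Subtype.ext h)
  have hJ : Ideal.jacobson (⊥ : Ideal R) = ⨅ N, f N := by
    rw [Ideal.jacobson, show {J : Ideal R | ⊥ ≤ J ∧ J.IsMaximal} = {N | N.IsMaximal} by simp,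
      sInf_eq_iInf']
  let g : (R ⧸ Ideal.jacobson (⊥ : Ideal R)) ≃ₐ[A] ((N : {N : Ideal R | N.IsMaximal}) → R ⧸ f N) :=
    AlgEquiv.ofRingEquiv (f := (Ideal.quotEquivOfEq hJ).trans (Ideal.quotientInfRingEquivPiQuotient f hcop))
      fun a => funext fun N => rfl
  haveI : IsArtinianRing (R ⧸ Ideal.jacobson (⊥ : Ideal R)) := isArtinianRing_quotient_jacobson hfinmax
  let k := ResidueField S
  let Q := (R ⧸ Ideal.jacobson (⊥ : Ideal R)) ⊗[A] k
  haveI hsep : IsSepClosure (ResidueField A) k := Hensel.IsStrictHenselization.isSepClosure (R := A) (S := S)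
  haveI : Algebra.IsSeparable (ResidueField A) k := hsep.separable
  -- the fibre ring is reduced
  haveI : IsReduced Q := ⟨fun x hx => by
    obtain ⟨T, hT⟩ := TensorProduct.exists_finset x
    let L := IntermediateField.adjoin (ResidueField A) ((T.image Prod.snd : Finset k) : Set k)
    obtain ⟨l, hl⟩ := (L.val.toLinearMap).exists_leftInverse_of_injective
      (LinearMap.ker_eq_bot.mpr Subtype.val_injective)
    haveI : Algebra.IsSeparable (ResidueField A) L := Algebra.isSeparable_tower_bot_of_isSeparable _ _ k
    haveI : FiniteDimensional (ResidueField A) L :=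
      IntermediateField.finiteDimensional_adjoin fun z _ => Algebra.IsIntegral.isIntegral z
    haveI : Algebra.EssFiniteType A (ResidueField A) :=
      Algebra.EssFiniteType.of_surjective (Algebra.ofId A (ResidueField A)) residue_surjective
    haveI : Algebra.EssFiniteType A L := Algebra.EssFiniteType.comp A (ResidueField A) L
    haveI : Algebra.FormallyUnramified (ResidueField A) L := Algebra.FormallyUnramified.of_isSeparable _ _
    haveI : Algebra.FormallyUnramified A (ResidueField A) :=
      Algebra.FormallyUnramified.of_surjective (Algebra.ofId A (ResidueField A)) residue_surjective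
    haveI : Algebra.FormallyUnramified A L := Algebra.FormallyUnramified.comp A (ResidueField A) L
    let Ā := R ⧸ Ideal.jacobson (⊥ : Ideal R)
    obtain ⟨h1, h2⟩ := @isReduced_pi_fields_tensor A L _ _ _ _ _ {N : Ideal R | N.IsMaximal} _
      (fun N => R ⧸ f N) (fun N => by
        haveI : (f N).IsMaximal := N.2
        exact Ideal.Quotient.field (f N)) (fun N => Ideal.instAlgebraQuotient A (f N))
    haveI := h1
    let eg := Algebra.TensorProduct.congr g (AlgEquiv.refl : L ≃ₐ[A] L)
    haveI : IsReduced (Ā ⊗[A] L) := isReduced_of_injective eg.toAlgHom eg.injective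
    let ι : Ā ⊗[A] L →ₐ[A] Q := Algebra.TensorProduct.map (AlgHom.id A Ā) (L.val.restrictScalars A)
    have hι : Function.Injective ι :=
      Function.LeftInverse.injective (g := LinearMap.lTensor Ā (l.restrictScalars A)) fun y => by
        induction y using TensorProduct.induction_on with
        | zero => simp
        | tmul a c =>
          show a ⊗ₜ[A] l (c : k) = a ⊗ₜ[A] c
          exact congrArg _ (LinearMap.congr_fun hl c)
        | add y z hy hz => rw [map_add, map_add, hy, hz]
    obtain ⟨y, rfl⟩ : x ∈ Set.range ι := by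
      refine ⟨∑ i ∈ T.attach, i.1.1 ⊗ₜ[A] (⟨i.1.2, IntermediateField.subset_adjoin _ _
        (Finset.mem_image_of_mem _ i.2)⟩ : L), ?_⟩
      rw [map_sum, hT, ← Finset.sum_attach T]
      rfl
    obtain ⟨n, hn⟩ := hx
    rw [← map_pow] at hn
    rw [(IsNilpotent.eq_zero ⟨n, hι (hn.trans (map_zero ι).symm)⟩ : y = 0), map_zero]⟩
  -- and zero-dimensional
  haveI : Algebra.IsIntegral (ResidueField A) k := ⟨fun z => Algebra.IsSeparable.isIntegral _ z⟩
  haveI : Algebra.IsIntegral A (ResidueField A) :=
    ⟨fun z => by obtain ⟨a, rfl⟩ := IsLocalRing.residue_surjective z; exact isIntegral_algebraMap⟩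
  haveI : Algebra.IsIntegral A k := Algebra.IsIntegral.trans (ResidueField A)
  have hQ0 : ∀ y ∈ Ideal.jacobson (⊥ : Ideal Q), y = 0 := fun y hy => by
    refine IsNilpotent.eq_zero (nilpotent_iff_mem_prime.mpr fun P hP => ?_)
    haveI := hP
    haveI : P.IsMaximal := Ideal.isMaximal_of_isIntegral_of_isMaximal_comap
      (R := R ⧸ Ideal.jacobson (⊥ : Ideal R)) P
      (IsArtinianRing.isMaximal_of_isPrime _)
    exact mem_jacobson_bot_iff_forall.mp hy P ‹_›
  rw [← ker_fibreMap, RingHom.mem_ker]
  refine hQ0 _ (mem_jacobson_bot_iff_forall.mpr fun M hM => ?_)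
  haveI := hM
  exact mem_jacobson_bot_iff_forall.mp hjac _
    (Ideal.comap_isMaximal_of_surjective (fibreMap A S S).toRingHom (surjective_fibreMap S))

end Groth.Agent.EssEt6
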