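import Groth.Agent.EssEt6.Basic
import Groth.Agent.HenselLib.HullProps
import Groth.Agent.HenselLib.HullFlat
import Groth.Agent.HenselLib.LocalEtale
import Mathlib.RingTheory.Flat.FaithfullyFlat.Algebra
import Mathlib.RingTheory.Flat.Localization

/-!
# Essentially étale local algebras inside a strict henselization
-/

set_option autoImplicit false
set_option linter.style.haveILetI false

universe u

open IsLocalRing Function

namespace Groth.Agent.EssEt6

variable {A B : Type u} [CommRing A] [IsLocalRing A] [CommRing B] [Algebra A B]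

theorem of_algEquiv {B' : Type u} [CommRing B'] [Algebra A B'] (h : EGA4loc.IsEssentiallyEtale A B)
    (e : B ≃ₐ[A] B') : EGA4loc.IsEssentiallyEtale A B' := by
  obtain ⟨C, i₁, i₂, q, i₃, hC, hq, ⟨e'⟩⟩ := h
  exact ⟨C, i₁, i₂, q, i₃, hC, hq, ⟨e.symm.trans e'⟩⟩

/-- An essentially etale local algebra, presented with an algebra structure over its etale model. -/
theorem exists_localization (h : EGA4loc.IsEssentiallyEtale A B) :
    ∃ (C : Type u) (_ : CommRing C) (_ : Algebra A C) (_ : Algebra C B) (_ : IsScalarTower A C B)
      (q : Ideal C) (_ : q.IsPrime),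
      Algebra.Etale A C ∧ IsLocalization.AtPrime B q ∧
        q.comap (algebraMap A C) = maximalIdeal A := by
  obtain ⟨C, i₁, i₂, q, i₃, hC, hq, ⟨e⟩⟩ := h
  let φ : C →ₐ[A] B := e.symm.toAlgHom.comp (IsScalarTower.toAlgHom A C (Localization.AtPrime q))
  letI : Algebra C B := φ.toRingHom.toAlgebra
  haveI : IsScalarTower A C B := IsScalarTower.of_algebraMap_eq fun a => (φ.commutes a).symm
  let eC : Localization.AtPrime q ≃ₐ[C] B :=
    AlgEquiv.ofRingEquiv (f := e.symm.toRingEquiv) fun c => rfl
  exact ⟨C, i₁, i₂, _, inferInstance, q, i₃, hC,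
    IsLocalization.isLocalization_of_algEquiv q.primeCompl eC, hq⟩

theorem isLocalRing (h : EGA4loc.IsEssentiallyEtale A B) : IsLocalRing B := by
  obtain ⟨C, _, _, q, _, _, -, ⟨e⟩⟩ := h
  exact e.symm.toRingEquiv.isLocalRing

theorem flat (h : EGA4loc.IsEssentiallyEtale A B) : Module.Flat A B := by
  obtain ⟨C, _, _, _, _, q, _, hC, _, -⟩ := exists_localization h
  haveI := hC
  haveI : Module.Flat C B := IsLocalization.flat B q.primeCompl
  haveI : Module.Flat A C := Algebra.Smooth.flat A C
  exact Module.Flat.trans A C B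

/-- A local map from an essentially etale local algebra to an algebra flat over the base is
faithfully flat. -/
theorem faithfullyFlat (h : EGA4loc.IsEssentiallyEtale A B) (T : Type u) [CommRing T] [Algebra A T]
    [Algebra B T] [IsScalarTower A B T] [IsLocalRing B] [IsLocalRing T] [IsLocalHom (algebraMap B T)]
    [Module.Flat A T] : Module.FaithfullyFlat B T := by
  obtain ⟨C, _, _, _, _, q, _, hC, _, -⟩ := exists_localization h
  haveI := hC
  letI : Algebra C T := ((algebraMap B T).comp (algebraMap C B)).toAlgebra
  haveI : IsScalarTower C B T := IsScalarTower.of_algebraMap_eq fun _ => rfl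
  haveI : IsScalarTower A C T := IsScalarTower.of_algebraMap_eq fun a => by
    show algebraMap A T a = algebraMap B T (algebraMap C B (algebraMap A C a))
    rw [← IsScalarTower.algebraMap_apply A C B, ← IsScalarTower.algebraMap_apply A B T]
  haveI : Module.Flat C T := HenselLib.flat_of_flat_of_etale (R := A)
  haveI : Module.Flat B T := (Module.flat_iff_of_isLocalization B q.primeCompl T).mpr ‹_›
  exact Module.FaithfullyFlat.of_flat_of_isLocalHom

/-- An unramified essentially finite type local algebra embedded locally into an algebra flat over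
the base is essentially etale. -/
theorem of_unramified [IsLocalRing B] [IsLocalHom (algebraMap A B)] [Algebra.EssFiniteType A B]
    [Algebra.FormallyUnramified A B] {T : Type u} [CommRing T] [IsLocalRing T] [Algebra A T]
    [Module.Flat A T] (ι : B →ₐ[A] T) (hι : Injective ι) [IsLocalHom ι.toRingHom] :
    EGA4loc.IsEssentiallyEtale A B := by
  obtain ⟨P, q, hqp, G, hG⟩ := HenselLib.LocalEtale.exists_standardEtale_surjective A B
  haveI : IsLocalHom G.toRingHom := IsLocalHom.of_surjective G.toRingHom hG
  have hq : q.comap (algebraMap A P.Ring) = maximalIdeal A := by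
    ext a
    rw [Ideal.mem_comap, mem_maximalIdeal, mem_nonunits_iff,
      ← isUnit_map_iff (algebraMap A B), ← G.commutes,
      show G (algebraMap A (Localization.AtPrime q) a) = G.toRingHom (algebraMap A _ a) from rfl,
      isUnit_map_iff G.toRingHom, IsScalarTower.algebraMap_apply A P.Ring (Localization.AtPrime q),
      IsLocalization.AtPrime.isUnit_to_map_iff (Localization.AtPrime q) q]
    exact not_not.symm
  have hess : EGA4loc.IsEssentiallyEtale A (Localization.AtPrime q) :=
    ⟨P.Ring, _, _, q, hqp, inferInstance, hq, ⟨AlgEquiv.refl⟩⟩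
  let f : Localization.AtPrime q →ₐ[A] T := ι.comp G
  letI : Algebra (Localization.AtPrime q) T := f.toRingHom.toAlgebra
  haveI : IsScalarTower A (Localization.AtPrime q) T :=
    IsScalarTower.of_algebraMap_eq fun a => (f.commutes a).symm
  haveI : IsLocalHom (algebraMap (Localization.AtPrime q) T) :=
    RingHom.isLocalHom_comp ι.toRingHom G.toRingHom
  haveI := faithfullyFlat hess T
  have hinj : Injective f := FaithfulSMul.algebraMap_injective (Localization.AtPrime q) T
  refine of_algEquiv hess (AlgEquiv.ofBijective G ⟨?_, hG⟩)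
  exact Injective.of_comp (f := ι) hinj

/-- A flat unramified essentially finite type local algebra is essentially etale. -/
theorem of_flat [IsLocalRing B] [IsLocalHom (algebraMap A B)] [Algebra.EssFiniteType A B]
    [Algebra.FormallyUnramified A B] [Module.Flat A B] : EGA4loc.IsEssentiallyEtale A B := by
  haveI : IsLocalHom (AlgHom.id A B).toRingHom := ⟨fun _ h => h⟩
  exact of_unramified (AlgHom.id A B) injective_id

section Strict

variable (S : Type u) [CommRing S] [IsLocalRing S] [Algebra A S] [IsLocalHom (algebraMap A S)]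
  [Hensel.IsStrictHenselization A S]

theorem flat_strict : Module.Flat A S := by
  obtain ⟨e⟩ := HenselLib.exists_equiv_localSH (R := A) S
  exact Module.Flat.of_linearEquiv e.symm.toLinearEquiv

/-- Every finite subset of a strict henselization lies in an essentially etale local subalgebra. -/
theorem exists_subalgebra (s : Finset S) :
    ∃ E : Subalgebra A S, (s : Set S) ⊆ E ∧ ∃ _ : IsLocalRing E,
      IsLocalHom (algebraMap E S) ∧ EGA4loc.IsEssentiallyEtale A E := by
  obtain ⟨e⟩ := HenselLib.exists_equiv_localSH (R := A) S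
  obtain ⟨P, x, hx⟩ := HenselLib.exists_rep_finset s e.symm
  let q : Ideal P.Ring := RingHom.ker P.pt
  haveI : q.IsPrime := RingHom.ker_isPrime _
  let ψ : P.Ring →ₐ[A] S := e.toAlgHom.comp (HenselLib.ι P)
  have hu : ∀ y : q.primeCompl, IsUnit (ψ y) := fun y =>
    (HenselLib.isUnit_of_isUnit_hullPt (h := HenselLib.ι P (y : P.Ring))
      ((HenselLib.hullPt_ι P (y : P.Ring)).symm ▸ Ne.isUnit y.2)).map e
  let φ : Localization.AtPrime q →ₐ[A] S := IsLocalization.liftAlgHom (M := q.primeCompl) (f := ψ) hu
  have hφ : ∀ p, φ (algebraMap P.Ring _ p) = ψ p := fun p => IsLocalization.lift_eq _ p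
  haveI hloc : IsLocalHom φ.toRingHom := ⟨fun z hz => by
    obtain ⟨p, t, rfl⟩ := IsLocalization.exists_mk'_eq q.primeCompl z
    rw [IsLocalization.AtPrime.isUnit_mk'_iff (Localization.AtPrime q) q]
    intro hp
    have h1 : IsUnit (ψ p) := by
      rw [← hφ, ← IsLocalization.mk'_spec (Localization.AtPrime q) p t, map_mul]
      exact hz.mul ((IsLocalization.map_units (Localization.AtPrime q) t).map φ)
    have h2 : IsUnit (HenselLib.hullPt A (HenselLib.SepRes A) (HenselLib.ι P p)) := by
      refine IsUnit.map _ ?_
      simpa [ψ] using h1.map e.symm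
    rw [HenselLib.hullPt_ι] at h2
    exact h2.ne_zero hp⟩
  have hq : q.comap (algebraMap A P.Ring) = maximalIdeal A := by
    ext a
    rw [Ideal.mem_comap, RingHom.mem_ker, P.pt.commutes, mem_maximalIdeal, mem_nonunits_iff,
      ← isUnit_map_iff (algebraMap A (HenselLib.SepRes A)), isUnit_iff_ne_zero, not_not]
  have hess : EGA4loc.IsEssentiallyEtale A (Localization.AtPrime q) :=
    ⟨P.Ring, _, _, q, inferInstance, inferInstance, hq, ⟨AlgEquiv.refl⟩⟩
  haveI := flat_strict (A := A) S
  letI : Algebra (Localization.AtPrime q) S := φ.toRingHom.toAlgebra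
  haveI : IsScalarTower A (Localization.AtPrime q) S :=
    IsScalarTower.of_algebraMap_eq fun a => (φ.commutes a).symm
  haveI : IsLocalHom (algebraMap (Localization.AtPrime q) S) := hloc
  haveI := faithfullyFlat hess S
  haveI : FaithfulSMul (Localization.AtPrime q) S :=
    Module.FaithfullyFlat.faithfulSMul (A := Localization.AtPrime q) (B := S)
  have hinj : Injective φ := FaithfulSMul.algebraMap_injective (Localization.AtPrime q) S
  let eφ : Localization.AtPrime q ≃ₐ[A] φ.range := AlgEquiv.ofInjective φ hinj
  refine ⟨φ.range, fun a ha => ⟨algebraMap P.Ring _ (x a), ?_⟩,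
    eφ.toRingEquiv.isLocalRing, ⟨fun z hz => ?_⟩, of_algEquiv hess eφ⟩
  · show φ (algebraMap P.Ring _ (x a)) = a
    rw [hφ]
    show e (HenselLib.ι P (x a)) = a
    rw [hx a ha, e.apply_symm_apply]
  · obtain ⟨w, rfl⟩ := eφ.surjective z
    exact (IsUnit.of_map φ.toRingHom w hz).map eφ

end Strict

end Groth.Agent.EssEt6
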