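import Groth.Prelude.Def_EssEt
import Mathlib.RingTheory.Unramified.LocalRing
import Mathlib.RingTheory.Unramified.Finite
import Mathlib.RingTheory.Etale.Basic

/-! Essentially étale local algebras: first properties. -/

universe u

namespace Groth.Agent.EssEt6

variable {A B : Type u} [CommRing A] [IsLocalRing A] [CommRing B] [Algebra A B]

theorem formallyUnramified (h : EGA4loc.IsEssentiallyEtale A B) : Algebra.FormallyUnramified A B := by
  obtain ⟨C, _, _, q, _, _, -, ⟨e⟩⟩ := h
  haveI : Algebra.FormallyUnramified C (Localization.AtPrime q) :=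
    .of_isLocalization q.primeCompl
  haveI : Algebra.FormallyUnramified A (Localization.AtPrime q) := .comp A C _
  exact .of_equiv e.symm

theorem essFiniteType (h : EGA4loc.IsEssentiallyEtale A B) : Algebra.EssFiniteType A B := by
  obtain ⟨C, _, _, q, _, _, -, ⟨e⟩⟩ := h
  haveI : Algebra.EssFiniteType C (Localization.AtPrime q) := .of_isLocalization _ q.primeCompl
  haveI : Algebra.EssFiniteType A (Localization.AtPrime q) := .comp A C _
  exact Algebra.EssFiniteType.of_surjective e.symm.toAlgHom e.symm.surjective

theorem isLocalHom [IsLocalRing B] (h : EGA4loc.IsEssentiallyEtale A B) : IsLocalHom (algebraMap A B) := by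
  obtain ⟨C, _, _, q, _, _, hq, ⟨e⟩⟩ := h
  refine ⟨fun a ha => ?_⟩
  have hu : IsUnit (algebraMap C (Localization.AtPrime q) (algebraMap A C a)) := by
    rw [← IsScalarTower.algebraMap_apply, ← e.commutes]
    exact ha.map e
  rw [IsLocalization.AtPrime.isUnit_to_map_iff (Localization.AtPrime q) q] at hu
  by_contra hna
  exact hu (show a ∈ q.comap (algebraMap A C) by rw [hq]; exact hna)

theorem map_maximalIdeal [IsLocalRing B] (h : EGA4loc.IsEssentiallyEtale A B) :
    (IsLocalRing.maximalIdeal A).map (algebraMap A B) = IsLocalRing.maximalIdeal B := by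
  haveI := formallyUnramified h
  haveI := essFiniteType h
  haveI := isLocalHom h
  exact Algebra.FormallyUnramified.map_maximalIdeal

open TensorProduct in
theorem eq_of_residue_eq (h : EGA4loc.IsEssentiallyEtale A B) {C : Type u} [CommRing C] [IsLocalRing C]
    [Algebra A C] (u v : B →ₐ[A] C) (huv : ∀ b, IsLocalRing.residue C (u b) = IsLocalRing.residue C (v b)) :
    u = v := by
  haveI := formallyUnramified h
  haveI := essFiniteType h
  let Φ : B ⊗[A] B →ₐ[A] C := Algebra.TensorProduct.productMap u v
  let t := Algebra.FormallyUnramified.elem A B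
  have hres : ∀ z, IsLocalRing.residue C (Φ z) = IsLocalRing.residue C (u (Algebra.TensorProduct.lmul' A z)) := by
    intro z
    induction z using TensorProduct.induction_on with
    | zero => simp
    | tmul x y => simp [Φ, huv]
    | add x y hx hy => simp [map_add, hx, hy]
  have hunit : IsUnit (Φ t) := by
    rw [← IsLocalRing.residue_ne_zero_iff_isUnit, hres, Algebra.FormallyUnramified.lmul_elem, map_one, map_one]
    exact one_ne_zero
  refine AlgHom.ext fun b => ?_
  have h1 := congrArg Φ (Algebra.FormallyUnramified.one_tmul_sub_tmul_one_mul_elem (R := A) (S := B) b)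
  simp only [map_mul, map_sub, map_zero] at h1
  rw [hunit.mul_left_eq_zero, sub_eq_zero] at h1
  simpa [Φ] using h1.symm

end Groth.Agent.EssEt6
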