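import Groth.Agent.EssEt6.LocalSub

/-!
# Subalgebras of a strict henselization with trivial closed fibre
-/

set_option autoImplicit false
set_option linter.style.haveILetI false

universe u

open IsLocalRing

namespace Groth.Agent.EssEt6

variable {A S : Type u} [CommRing A] [IsLocalRing A] [CommRing S] [Algebra A S]
  [IsLocalHom (algebraMap A S)]

theorem isLocalHom_algebraMap (D : Subalgebra A S) : IsLocalHom (algebraMap A D) :=
  ⟨fun a ha => IsUnit.of_map (algebraMap A S) a (ha.map (algebraMap D S))⟩

theorem isLocalHom_inclusion {D E : Subalgebra A S} (h : D ≤ E) [IsLocalHom (algebraMap D S)] :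
    IsLocalHom (Subalgebra.inclusion h).toRingHom :=
  ⟨fun d hd => IsUnit.of_map (algebraMap D S) d (hd.map (algebraMap E S))⟩

/-- The residue field extension of a subalgebra of an essentially etale local algebra is separable. -/
theorem isSeparable_of_le {D E : Subalgebra A S} [IsLocalRing D] [IsLocalRing E]
    [IsLocalHom (algebraMap A D)] [IsLocalHom (algebraMap D S)] (h : D ≤ E)
    (hE : EGA4loc.IsEssentiallyEtale A E) :
    Algebra.IsSeparable (ResidueField A) (ResidueField D) := by
  haveI := formallyUnramified hE
  haveI := essFiniteType hE
  haveI := isLocalHom hE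
  haveI : IsLocalHom (Subalgebra.inclusion h).toRingHom := isLocalHom_inclusion h
  let f : ResidueField D →ₐ[ResidueField A] ResidueField E :=
    { ResidueField.map (Subalgebra.inclusion h).toRingHom with
      commutes' := fun x => by
        obtain ⟨a, rfl⟩ := IsLocalRing.residue_surjective x
        rfl }
  exact Algebra.IsSeparable.of_algHom (ResidueField A) (ResidueField E) f

theorem formallyUnramified_of_le {D E : Subalgebra A S} [IsLocalRing D] [IsLocalRing E]
    [IsLocalHom (algebraMap D S)] [Algebra.EssFiniteType A D] (h : D ≤ E)
    (hE : EGA4loc.IsEssentiallyEtale A E)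
    (hm : (maximalIdeal A).map (algebraMap A D) = maximalIdeal D) :
    Algebra.FormallyUnramified A D := by
  haveI := isLocalHom_algebraMap (A := A) D
  haveI := isSeparable_of_le h hE
  exact Algebra.FormallyUnramified.of_map_maximalIdeal hm

/-- Condition (m D = m_D) characterizes essentially etale subalgebras essentially of finite type. -/
theorem isEssentiallyEtale_of_map_eq [IsLocalRing S] [Hensel.IsStrictHenselization A S]
    (D : Subalgebra A S) [IsLocalRing D] [IsLocalHom (algebraMap D S)] [Algebra.EssFiniteType A D]
    (hm : (maximalIdeal A).map (algebraMap A D) = maximalIdeal D) :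
    EGA4loc.IsEssentiallyEtale A D := by
  obtain ⟨s, -, hs⟩ := exists_finset_forall_le D
  obtain ⟨E, hsE, _, hlh, hE⟩ := exists_subalgebra (A := A) S s
  haveI := isLocalHom_algebraMap (A := A) D
  haveI := formallyUnramified_of_le (hs E hlh hsE) hE hm
  haveI := flat_strict (A := A) S
  haveI : IsLocalHom D.val.toRingHom := ‹IsLocalHom (algebraMap D S)›
  exact of_unramified D.val Subtype.val_injective

end Groth.Agent.EssEt6
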