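import Groth.Agent.CAlgH3.MoriFamily
import Mathlib.RingTheory.Localization.FractionRing
import Mathlib.RingTheory.Ideal.GoingUp

/-!
# Maximal ideals of the integral closure of a reduced Noetherian local ring
-/

set_option autoImplicit false
set_option linter.style.haveILetI false

universe u

open nonZeroDivisors

namespace Groth.Agent.EssEt6

/-- The integral closure of a reduced Noetherian local ring in its total ring of fractions has
finitely many maximal ideals. -/
theorem finite_maximal_integralClosure (E : Type u) [CommRing E] [IsLocalRing E] [IsNoetherianRing E]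
    [IsReduced E] :
    {M : Ideal (integralClosure E (FractionRing E)) | M.IsMaximal}.Finite := by
  classical
  let F := FractionRing E
  let C := integralClosure E F
  have hfin := minimalPrimes.finite_of_isNoetherianRing E
  have key : ∀ P ∈ minimalPrimes E, ∃ (J : Ideal C), {M : Ideal C | M.IsMaximal ∧ J ≤ M}.Finite ∧
      ∀ (x : C) (e : E) (n : E⁰), x ∈ J →
        (x : F) * algebraMap E F n = algebraMap E F e → e ∈ P := by
    intro P hP
    haveI : P.IsPrime := hP.1.1
    haveI : IsLocalRing (E ⧸ P) :=
      IsLocalRing.of_surjective' (Ideal.Quotient.mk P) Ideal.Quotient.mk_surjective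
    let L := FractionRing (E ⧸ P)
    let g : E →ₐ[E] L := Algebra.ofId E L
    have hu : ∀ n : E⁰, IsUnit (g n) := fun n => Ne.isUnit fun h0 => by
      have h1 : Ideal.Quotient.mk P (n : E) = 0 := IsFractionRing.injective (E ⧸ P) L (by
        rw [map_zero]; exact h0)
      exact Set.disjoint_left.mp (Ideal.disjoint_nonZeroDivisors_of_mem_minimalPrimes hP)
        (Ideal.Quotient.eq_zero_iff_mem.mp h1) n.2
    let f : F →ₐ[E] L := IsLocalization.liftAlgHom (M := E⁰) (f := g) hu
    let CP := integralClosure (E ⧸ P) L
    let φ : C →+* CP := (f.toRingHom.comp C.val.toRingHom).codRestrict CP fun x =>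
      IsIntegral.tower_top ((x.2 : IsIntegral E (x : F)).map f)
    have hint : φ.IsIntegral := by
      intro z
      have h1 : IsIntegral E (z : L) := isIntegral_trans (R := E) (A := E ⧸ P) (z : L) z.2
      have h2 : IsIntegral E z := (isIntegral_algHom_iff (CP.val.restrictScalars E) Subtype.val_injective).mp h1
      have h3 : (φ.comp (algebraMap E C)) = algebraMap E CP := RingHom.ext fun r =>
        Subtype.ext (f.commutes r)
      exact RingHom.IsIntegralElem.of_comp (f := algebraMap E C) (g := φ) (h3.symm ▸ h2)
    refine ⟨RingHom.ker φ, ?_, fun x e n hx hxe => ?_⟩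
    · refine Set.Finite.subset ((Groth.Agent.CAlgH3.Mori.finite_maximal_ideals (E ⧸ P) L).image
        (Ideal.comap φ)) fun M hM => ?_
      letI : Algebra C CP := φ.toAlgebra
      haveI : Algebra.IsIntegral C CP := ⟨hint⟩
      haveI := hM.1
      obtain ⟨Q, hQ, hQM⟩ := Ideal.exists_ideal_over_maximal_of_isIntegral (S := CP) M hM.2
      exact ⟨Q, hQ, hQM⟩
    · have h1 : f (x : F) = 0 := congrArg Subtype.val (RingHom.mem_ker.mp hx)
      have h2 : f ((x : F) * algebraMap E F n) = f (algebraMap E F e) := congrArg f hxe
      rw [map_mul, h1, zero_mul, f.commutes] at h2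
      refine Ideal.Quotient.eq_zero_iff_mem.mp (IsFractionRing.injective (E ⧸ P) L ?_)
      rw [map_zero]
      exact h2.symm
  choose J hJfin hJ using key
  let T := hfin.toFinset.attach
  let J' : {P // P ∈ hfin.toFinset} → Ideal C := fun P => J P.1 (hfin.mem_toFinset.mp P.2)
  refine Set.Finite.subset (T.finite_toSet.biUnion fun P _ =>
    hJfin P.1 (hfin.mem_toFinset.mp P.2)) fun M hM => ?_
  have hM' : M.IsMaximal := hM
  have hbot : T.inf J' ≤ M := by
    refine le_trans (fun x hx => ?_) bot_le
    rw [Submodule.mem_finsetInf] at hx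
    obtain ⟨⟨e, n⟩, hxe⟩ := IsLocalization.surj E⁰ (x : F)
    have he : e ∈ nilradical E := by
      rw [nilradical, ← Ideal.sInf_minimalPrimes, Submodule.mem_sInf]
      intro (P : Ideal E) hP
      exact hJ P hP x e n (hx ⟨P, hfin.mem_toFinset.mpr hP⟩ (Finset.mem_attach _ _)) hxe
    rw [(mem_nilradical.mp he).eq_zero, map_zero] at hxe
    exact Subtype.ext ((IsLocalization.map_units F n).mul_left_eq_zero.mp hxe)
  obtain ⟨P, hP, hPM⟩ := (Ideal.IsPrime.inf_le' hM'.isPrime).mp hbot
  exact Set.mem_biUnion hP ⟨hM', hPM⟩

end Groth.Agent.EssEt6
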