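import Groth.Agent.EssEt6.Between
import Groth.Agent.FEtFF.UnramifiedGeomUnibranch
import Groth.Agent.FEtFF.NormalGeomUnibranch
import Groth.Agent.CAlgH.NagataFiniteType
import Groth.Agent.CAlgH.NagataIC
import Mathlib.RingTheory.IntegralClosure.IntegrallyClosed
import Mathlib.RingTheory.Localization.Integral

/-!
# Normal subalgebras of a strict henselization
-/

set_option autoImplicit false
set_option linter.style.haveILetI false

universe u

open IsLocalRing

namespace Groth.Agent.EssEt6

variable {A : Type u} [CommRing A] [IsLocalRing A]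

/-- An unramified essentially finite type local extension of a normal local domain is faithfully
flat. -/
theorem faithfullyFlat_of_normal {D E : Type u} [CommRing D] [IsLocalRing D] [IsDomain D]
    [IsIntegrallyClosed D] [CommRing E] [IsLocalRing E] [Algebra D E] [IsLocalHom (algebraMap D E)]
    [Algebra.EssFiniteType D E] [Algebra.FormallyUnramified D E]
    (hinj : Function.Injective (algebraMap D E)) : Module.FaithfullyFlat D E := by
  obtain ⟨C, _, _⟩ := HenselLib.LocalEtale.exists_model D E
  haveI := HenselLib.LocalEtale.isUnramifiedAt_model (A := D) (B := E) (C := C)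
  haveI : IsLocalization.AtPrime D (maximalIdeal D) :=
    IsLocalization.self (fun x hx => show IsUnit x by simpa using hx)
  haveI : Module.Flat D E := FEtFF.flat_atPrime_of_unramified_of_injective (T := E) (maximalIdeal D)
    (FEtFF.isGeomUnibranch_of_normal D) ((maximalIdeal E).comap (algebraMap C E)) (by
      rw [Ideal.comap_comap, ← IsScalarTower.algebraMap_eq]
      exact ((local_hom_TFAE (algebraMap D E)).out 0 4).mp ‹_›) hinj
  exact Module.FaithfullyFlat.of_flat_of_isLocalHom

variable {S : Type u} [CommRing S] [IsLocalRing S] [Algebra A S] [IsLocalHom (algebraMap A S)]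
  [Hensel.IsStrictHenselization A S]

/-- A normal subalgebra essentially of finite type is essentially etale. -/
theorem isEssentiallyEtale_of_normal (D : Subalgebra A S) [IsLocalRing D]
    [IsLocalHom (algebraMap D S)] [Algebra.EssFiniteType A D] [IsDomain D] [IsIntegrallyClosed D] :
    EGA4loc.IsEssentiallyEtale A D := by
  refine isEssentiallyEtale_of_map_eq D ?_
  obtain ⟨s, -, hs⟩ := exists_finset_forall_le D
  obtain ⟨E, hsE, _, hlh, hE⟩ := exists_subalgebra (A := A) S s
  have h := hs E hlh hsE
  letI : Algebra D E := (Subalgebra.inclusion h).toRingHom.toAlgebra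
  haveI : IsLocalHom (algebraMap D E) := isLocalHom_inclusion h
  haveI : IsScalarTower A D E := IsScalarTower.of_algebraMap_eq fun a => rfl
  haveI := formallyUnramified hE
  haveI := essFiniteType hE
  haveI : Algebra.FormallyUnramified D E := Algebra.FormallyUnramified.of_restrictScalars A D E
  haveI : Algebra.EssFiniteType D E := Algebra.EssFiniteType.of_comp A D E
  haveI := isLocalHom hE
  haveI := faithfullyFlat_of_normal (D := D) (E := E) (Subalgebra.inclusion_injective h)
  rw [← Ideal.comap_map_eq_self_of_faithfullyFlat (B := E) ((maximalIdeal A).map (algebraMap A D)),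
    Ideal.map_map, ← IsScalarTower.algebraMap_eq, map_maximalIdeal hE]
  exact ((local_hom_TFAE (algebraMap D E)).out 0 4).mp ‹_›

/-- A normal dominated subalgebra is a directed union of essentially etale ones. -/
theorem exists_normal (hA : CAlg.IsNagata A) (D : Subalgebra A S) [IsLocalRing D]
    [IsLocalHom (algebraMap D S)] [IsDomain D] [IsIntegrallyClosed D] (s : Finset S)
    (hs : (s : Set S) ⊆ D) :
    ∃ D₁ : Subalgebra A S, D₁ ≤ D ∧ (s : Set S) ⊆ D₁ ∧
      ∃ _ : IsLocalRing D₁, IsLocalHom (algebraMap D₁ S) ∧ EGA4loc.IsEssentiallyEtale A D₁ := by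
  classical
  let t : Finset D := s.attach.image fun x => ⟨x.1, hs x.2⟩
  let C₀ : Subalgebra A D := Algebra.adjoin A (t : Set D)
  haveI : Algebra.FiniteType A C₀ := ⟨C₀.fg_top.2 ⟨t, rfl⟩⟩
  have hN : CAlg.IsNagata C₀ := CAlgH.isNagata_of_finiteType hA C₀
  haveI := hN.1
  let K := FractionRing C₀
  haveI : Module.Finite C₀ (integralClosure C₀ K) := by
    have h2 : CAlg.IsN2 C₀ := CAlgH.isN2_of_ringEquiv (RingEquiv.quotientBot C₀) (hN.2 ⊥)
    exact CAlgH.isN2_apply h2 K K
  let C' := integralClosure C₀ K
  haveI : Algebra.FiniteType A C' :=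
    Algebra.FiniteType.trans (S := C₀) inferInstance inferInstance
  haveI : IsIntegrallyClosed C' := integralClosure.isIntegrallyClosedOfFiniteExtension K
  let F := FractionRing D
  let f : K →ₐ[C₀] F := IsLocalization.liftAlgHom (M := nonZeroDivisors C₀)
    (f := Algebra.ofId C₀ F) fun y => Ne.isUnit fun h0 => nonZeroDivisors.ne_zero y.2 <| by
      apply Subtype.val_injective
      apply IsFractionRing.injective D F
      simpa [Algebra.ofId_apply] using h0
  have hmem : ∀ z : C', ((f.restrictScalars A).comp ((IsScalarTower.toAlgHom A C' K))) z ∈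
      (IsScalarTower.toAlgHom A D F).range := fun z => by
    have hi : IsIntegral D (f (z : K)) := IsIntegral.tower_top ((z.2 : IsIntegral C₀ (z : K)).map f)
    obtain ⟨d, hd⟩ := IsIntegrallyClosed.isIntegral_iff.mp hi
    exact ⟨d, hd⟩
  let eD := AlgEquiv.ofInjective (IsScalarTower.toAlgHom A D F) (IsFractionRing.injective D F)
  let g : C' →ₐ[A] D := eD.symm.toAlgHom.comp (AlgHom.codRestrict _ _ hmem)
  have hg : ∀ z : C', algebraMap D F (g z) = f (z : K) := fun z =>
    congrArg Subtype.val (eD.apply_symm_apply (AlgHom.codRestrict _ _ hmem z))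
  have hginj : Function.Injective g := fun a b hab => by
    have := congrArg (algebraMap D F) hab
    rw [hg, hg] at this
    exact Subtype.ext (f.toRingHom.injective this)
  let h : C' →ₐ[A] S := D.val.comp g
  let e : C' ≃ₐ[A] h.range := AlgEquiv.ofInjective h (Subtype.val_injective.comp hginj)
  haveI : Algebra.FiniteType A h.range := Algebra.FiniteType.equiv inferInstance e
  haveI : IsDomain h.range := e.symm.injective.isDomain e.symm.toRingEquiv.toRingHom
  haveI : IsIntegrallyClosed h.range := IsIntegrallyClosed.of_equiv e.toRingEquiv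
  have hle : h.range ≤ D := by
    rintro _ ⟨z, rfl⟩
    exact (g z).2
  let D₁ := localSub h.range
  have hD₁ : D₁ ≤ D := localSub_le hle
  haveI := essFiniteType_localSub h.range
  haveI : IsDomain D₁ := (Subalgebra.inclusion_injective hD₁).isDomain (Subalgebra.inclusion hD₁).toRingHom
  haveI : IsIntegrallyClosed D₁ := by
    letI := (Subalgebra.inclusion (le_localSub h.range)).toRingHom.toAlgebra
    haveI := isLocalization_localSub h.range
    refine isIntegrallyClosed_of_isLocalization (R := h.range) D₁
      ((IsUnit.submonoid S).comap (algebraMap h.range S)) fun x hx => ?_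
    exact mem_nonZeroDivisors_of_ne_zero fun h0 => (show IsUnit (x : S) from hx).ne_zero (by simp [h0])
  refine ⟨D₁, hD₁, fun x hx => le_localSub _ ?_, inferInstance, inferInstance,
    isEssentiallyEtale_of_normal D₁⟩
  have hxC : (⟨x, hs hx⟩ : D) ∈ C₀ :=
    Algebra.subset_adjoin (Finset.mem_image.mpr ⟨⟨x, hx⟩, Finset.mem_attach _ _, rfl⟩)
  refine ⟨algebraMap C₀ C' ⟨_, hxC⟩, ?_⟩
  have hgx : g (algebraMap C₀ C' ⟨_, hxC⟩) = ⟨x, hs hx⟩ := by
    apply IsFractionRing.injective D F
    rw [hg]
    exact f.commutes ⟨_, hxC⟩
  exact congrArg Subtype.val hgx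

end Groth.Agent.EssEt6
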