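import Groth.Agent.EssEt6.TotalFractions
import Groth.Agent.EssEt6.Normal
import Groth.Agent.EssEt6.NormClosure
import Groth.Agent.S7652
import Groth.Agent.S4710
import Groth.Agent.Et18.EtaleNormal

/-!
# Birational subalgebras of essentially etale algebras
-/

set_option autoImplicit false
set_option linter.style.haveILetI false

universe u

open nonZeroDivisors IsLocalRing
open scoped TensorProduct

namespace Groth.Agent.EssEt6

theorem isNagata_of_essFiniteType {A B : Type u} [CommRing A] [CommRing B] [Algebra A B]
    [Algebra.EssFiniteType A B] (hA : CAlg.IsNagata A) : CAlg.IsNagata B := by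
  let C := Algebra.EssFiniteType.subalgebra A B
  have hC : CAlg.IsNagata C := CAlgH.isNagata_of_finiteType hA C
  exact CAlgH.isNagata_of_ringEquiv
    (IsLocalization.algEquiv (Algebra.EssFiniteType.submonoid A B) (Localization _) B).toRingEquiv
    (S4710.result C hC (Algebra.EssFiniteType.submonoid A B))

/-- The integral closure of a Nagata ring in a reduced artinian algebra of fractions is finite. -/
theorem finite_ic_artinian {D L : Type u} [CommRing D] (hD : CAlg.IsNagata D) [CommRing L]
    [IsArtinianRing L] [IsReduced L] [Algebra D L]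
    (hfrac : ∀ z : L, ∃ s d : D, IsUnit (algebraMap D L s) ∧ z * algebraMap D L s = algebraMap D L d) :
    Module.Finite D (integralClosure D L) := by
  classical
  haveI := hD.1
  have hP : ∀ P : MaximalSpectrum L, Module.Finite D (integralClosure D (L ⧸ P.asIdeal)) := by
    intro P
    haveI := P.isMaximal
    letI := Ideal.Quotient.field P.asIdeal
    let K := L ⧸ P.asIdeal
    let q := RingHom.ker (algebraMap D K)
    haveI : q.IsPrime := RingHom.ker_isPrime _
    letI : Algebra (D ⧸ q) K := (RingHom.kerLift (algebraMap D K)).toAlgebra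
    haveI : IsScalarTower D (D ⧸ q) K := IsScalarTower.of_algebraMap_eq fun _ => rfl
    haveI : FaithfulSMul (D ⧸ q) K := (faithfulSMul_iff_algebraMap_injective _ _).mpr
      (RingHom.kerLift_injective (algebraMap D K))
    haveI : IsFractionRing (D ⧸ q) K := IsFractionRing.of_field (D ⧸ q) K fun z => by
      obtain ⟨w, rfl⟩ := Ideal.Quotient.mk_surjective z
      obtain ⟨s, d, hs, h⟩ := hfrac w
      refine ⟨Ideal.Quotient.mk q d, Ideal.Quotient.mk q s, ?_⟩
      have hs0 : algebraMap D K s ≠ 0 := (hs.map (Ideal.Quotient.mk P.asIdeal)).ne_zero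
      show _ = algebraMap D K d / algebraMap D K s
      rw [eq_div_iff hs0]
      exact ((map_mul (Ideal.Quotient.mk P.asIdeal) _ _).symm.trans
        (congrArg (Ideal.Quotient.mk P.asIdeal) h))
    exact CAlgH.fin_ic_of_finite_base (B := D ⧸ q) (CAlgH.isN2_apply (hD.2 q) K K)
  let π : integralClosure D L →ₗ[D] ((P : MaximalSpectrum L) → integralClosure D (L ⧸ P.asIdeal)) :=
    LinearMap.pi fun P =>
      { toFun := fun a => ⟨Ideal.Quotient.mk P.asIdeal a.1,
          (a.2 : IsIntegral D a.1).map (Ideal.Quotient.mkₐ D P.asIdeal)⟩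
        map_add' := fun a b => Subtype.ext (map_add _ a.1 b.1)
        map_smul' := fun r a => Subtype.ext (map_smul (Ideal.Quotient.mkₐ D P.asIdeal) r a.1) }
  haveI := hP
  refine Module.Finite.of_injective π fun a b hab => Subtype.ext ?_
  apply (IsArtinianRing.equivPi L).injective
  funext P
  exact congrArg Subtype.val (congrFun hab P)

variable {A E : Type u} [CommRing A] [IsLocalRing A] [CommRing E] [Algebra A E]

/-- The normalization of a subalgebra inside the total ring of fractions of the ambient algebra. -/
noncomputable def normalization (D : Subalgebra A E) : Subalgebra A (FractionRing E) :=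
  saturation D ⊓ (integralClosure D (FractionRing E)).restrictScalars A

theorem mem_normalization {D : Subalgebra A E} {x : FractionRing E} :
    x ∈ normalization D ↔ x ∈ saturation D ∧ IsIntegral D x := Iff.rfl

theorem algebraMap_mem_normalization {D : Subalgebra A E} {d : E} (hd : d ∈ D) :
    algebraMap E (FractionRing E) d ∈ normalization D :=
  ⟨algebraMap_mem_saturation hd,
    show IsIntegral D (algebraMap D (FractionRing E) ⟨d, hd⟩) from isIntegral_algebraMap⟩

theorem isIntegral_ambient {D : Subalgebra A E} {x : FractionRing E} (hx : IsIntegral D x) :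
    IsIntegral E x :=
  hx.map_of_comp_eq (S := FractionRing E) (algebraMap D E) (RingHom.id _) rfl

theorem mem_normalization_of_isIntegral {D : Subalgebra A E} {x : FractionRing E}
    (hx : x ∈ saturation D) (hxi : IsIntegral (normalization D) x) : x ∈ normalization D := by
  have h1 : IsIntegral (integralClosure D (FractionRing E)) x :=
    hxi.map_of_comp_eq (S := FractionRing E) (R := normalization D)
      (Subalgebra.inclusion (show normalization D ≤
        (integralClosure D (FractionRing E)).restrictScalars A from inf_le_right)).toRingHom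
      (RingHom.id _) rfl
  exact ⟨hx, show IsIntegral D x from isIntegral_trans x h1⟩

theorem saturation_mono {D₁ D₂ : Subalgebra A E} (h : D₁ ≤ D₂) :
    saturation D₁ ≤ saturation D₂ :=
  fun _ ⟨a, ha, d, hd, e⟩ => ⟨a, ha, d, h hd, e⟩

theorem normalization_mono {D₁ D₂ : Subalgebra A E} (h : D₁ ≤ D₂) :
    normalization D₁ ≤ normalization D₂ :=
  fun _ ⟨hs, hi⟩ => ⟨saturation_mono h hs, show IsIntegral D₂ _ from
    (show IsIntegral D₁ _ from hi).map_of_comp_eq (S := FractionRing E)
      (Subalgebra.inclusion h).toRingHom (RingHom.id _) rfl⟩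

variable [IsLocalRing E] [IsReduced A]

omit [IsLocalRing A] [IsLocalRing E] [IsReduced A] in
/-- Over a ring integrally closed in a reduced artinian ring, an unramified algebra with the same
denominators is locally normal, and integral elements descend. -/
theorem exists_mul_mem {R₀ L B F : Type u} [CommRing R₀] [CommRing L] [IsArtinianRing L] [IsReduced L]
    [CommRing B] [CommRing F] [Algebra R₀ L] [Algebra R₀ B] [Algebra R₀ F] [Algebra B F] [Algebra L F]
    [IsScalarTower R₀ B F] [IsScalarTower R₀ L F]
    (hinjL : Function.Injective (algebraMap R₀ L))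
    (hic : ∀ w : L, IsIntegral R₀ w → w ∈ Set.range (algebraMap R₀ L))
    (hinjB : Function.Injective (algebraMap B F))
    [Algebra.FormallyUnramified R₀ B] [Algebra.EssFiniteType R₀ B]
    (N : Submonoid R₀) [IsLocalization (N.map (algebraMap R₀ B)) F]
    (P : Ideal B) [P.IsPrime] {x : F} (hxi : IsIntegral B x) {a d : R₀} (ha : a ∈ N)
    (had : algebraMap R₀ F a * x = algebraMap R₀ F d) :
    ∃ s r : R₀, algebraMap R₀ B s ∉ P ∧ algebraMap R₀ F s * x = algebraMap R₀ F r := by
  let n : Ideal R₀ := P.comap (algebraMap R₀ B)
  haveI : n.IsPrime := Ideal.comap_isPrime _ _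
  let R := Localization.AtPrime n
  let T := Localization.AtPrime P
  haveI : IsDomain R := S7652.isDomain_atPrime (C := R₀) (F := L) (L := R) hinjL hic n
  haveI : IsIntegrallyClosed R :=
    S7652.isIntegrallyClosed_atPrime (C := R₀) (F := L) (L := R) (K := FractionRing R) hinjL hic n
  letI : Algebra R T := (Localization.localRingHom n P (algebraMap R₀ B) rfl).toAlgebra
  haveI : IsScalarTower R₀ R T := IsScalarTower.of_algebraMap_eq fun r => by
    show _ = Localization.localRingHom n P (algebraMap R₀ B) rfl (algebraMap R₀ R r)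
    rw [Localization.localRingHom_to_map, ← IsScalarTower.algebraMap_apply]
  haveI : IsLocalHom (algebraMap R T) := Localization.isLocalHom_localRingHom n P (algebraMap R₀ B) rfl
  haveI : Algebra.FormallyUnramified B T := Algebra.FormallyUnramified.of_isLocalization P.primeCompl
  haveI : Algebra.EssFiniteType B T := Algebra.EssFiniteType.of_isLocalization T P.primeCompl
  haveI : Algebra.FormallyUnramified R₀ T := Algebra.FormallyUnramified.comp R₀ B T
  haveI : Algebra.EssFiniteType R₀ T := Algebra.EssFiniteType.comp R₀ B T
  haveI : Algebra.FormallyUnramified R T := Algebra.FormallyUnramified.of_restrictScalars R₀ R T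
  haveI : Algebra.EssFiniteType R T := Algebra.EssFiniteType.of_comp R₀ R T
  have hinj : Function.Injective (algebraMap R T) := by
    rw [injective_iff_map_eq_zero]
    intro t ht
    obtain ⟨r, s, rfl⟩ := IsLocalization.exists_mk'_eq n.primeCompl t
    by_contra h0
    have hr : algebraMap R₀ R r ≠ 0 := fun h => h0 (by
      rw [IsLocalization.mk'_eq_mul_mk'_one, h, zero_mul])
    obtain ⟨e, y, he, -, hey⟩ := S7652.exists_idem_inverse hinjL hic n r hr
    have h1 : algebraMap R₀ T r = 0 := by
      rw [IsScalarTower.algebraMap_apply R₀ R T, ← IsLocalization.mk'_spec R r s, map_mul, ht, zero_mul]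
    rw [IsScalarTower.algebraMap_apply R₀ B T, IsLocalization.map_eq_zero_iff P.primeCompl] at h1
    obtain ⟨u, hu⟩ := h1
    have hue : (u : B) * algebraMap R₀ B e = 0 := hinjB (by
      have h2 := congrArg (algebraMap B F) hu
      rw [map_mul, map_zero, ← IsScalarTower.algebraMap_apply] at h2
      rw [map_mul, map_zero, ← IsScalarTower.algebraMap_apply, IsScalarTower.algebraMap_apply R₀ L F,
        hey, map_mul, ← IsScalarTower.algebraMap_apply, ← mul_assoc, h2, zero_mul])
    exact ((Ideal.IsPrime.mem_or_mem ‹P.IsPrime› (hue.symm ▸ P.zero_mem)).elim u.2 he)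
  haveI := faithfullyFlat_of_normal (D := R) (E := T) hinj
  have hT : EGA4loc.IsEssentiallyEtale R T := of_flat
  obtain ⟨C, _, _, _, _, q, _, hC, _, -⟩ := exists_localization hT
  haveI := hC
  let e := (IsLocalization.algEquiv q.primeCompl (Localization.AtPrime q) T).toRingEquiv
  haveI := (Et18.normal_localization_of_etale R C q).1
  haveI := (Et18.normal_localization_of_etale R C q).2
  haveI : IsDomain T := e.symm.injective.isDomain e.symm.toRingHom
  haveI : IsIntegrallyClosed T := IsIntegrallyClosed.of_equiv e
  -- the generic fibre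
  let K := FractionRing T
  have haT : ∀ c ∈ N, algebraMap R₀ T c ≠ 0 := fun c hc h => by
    rw [IsScalarTower.algebraMap_apply R₀ B T, IsLocalization.map_eq_zero_iff P.primeCompl] at h
    obtain ⟨u, hu⟩ := h
    have h2 : algebraMap B F u = 0 := by
      refine (IsLocalization.map_units F (⟨_, Submonoid.mem_map_of_mem _ hc⟩ : N.map (algebraMap R₀ B))).mul_left_eq_zero.mp ?_
      rw [← map_mul]
      exact (congrArg (algebraMap B F) hu).trans (map_zero _)
    exact u.2 ((hinjB (h2.trans (map_zero _).symm)).symm ▸ P.zero_mem)
  let θ : F →+* K := IsLocalization.lift (M := N.map (algebraMap R₀ B))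
    (g := (algebraMap T K).comp (algebraMap B T)) fun y => by
      obtain ⟨c, hc, h⟩ := y.2
      rw [← h, RingHom.comp_apply, ← IsScalarTower.algebraMap_apply R₀ B T]
      exact Ne.isUnit ((map_ne_zero_iff _ (IsFractionRing.injective T K)).mpr (haT c hc))
  have hθ : ∀ b : B, θ (algebraMap B F b) = algebraMap T K (algebraMap B T b) := fun b =>
    IsLocalization.lift_eq _ b
  have hθi : IsIntegral T (θ x) :=
    hxi.map_of_comp_eq (S := F) (algebraMap B T) θ (RingHom.ext fun b => (hθ b).symm)
  obtain ⟨t, ht⟩ := IsIntegrallyClosed.isIntegral_iff.mp hθi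
  have h1 : algebraMap R₀ T d = algebraMap R₀ T a * t := by
    refine IsFractionRing.injective T K ?_
    rw [map_mul, ht, IsScalarTower.algebraMap_apply R₀ B T, IsScalarTower.algebraMap_apply R₀ B T,
      ← hθ, ← hθ, ← map_mul, ← IsScalarTower.algebraMap_apply, ← IsScalarTower.algebraMap_apply, had]
  have h2 : algebraMap R₀ R d ∈ Ideal.span {algebraMap R₀ R a} := by
    rw [← Ideal.comap_map_eq_self_of_faithfullyFlat (B := T) (Ideal.span _), Ideal.mem_comap,
      Ideal.map_span, Set.image_singleton, Ideal.mem_span_singleton,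
      ← IsScalarTower.algebraMap_apply, ← IsScalarTower.algebraMap_apply]
    exact ⟨t, h1⟩
  obtain ⟨z, hz⟩ := Ideal.mem_span_singleton.mp h2
  obtain ⟨r, s, rfl⟩ := IsLocalization.exists_mk'_eq n.primeCompl z
  have h3 : algebraMap R₀ R ((s : R₀) * d) = algebraMap R₀ R (a * r) := by
    rw [map_mul, map_mul, hz, ← IsLocalization.mk'_spec R r s]
    ring
  obtain ⟨w, hw⟩ := (IsLocalization.eq_iff_exists n.primeCompl R).mp h3
  refine ⟨(w : R₀) * (s : R₀), (w : R₀) * r,
    fun h => ((Ideal.IsPrime.mem_or_mem ‹n.IsPrime› h).elim w.2 s.2), ?_⟩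
  have hu : IsUnit (algebraMap R₀ F a) := by
    rw [IsScalarTower.algebraMap_apply R₀ B F]
    exact IsLocalization.map_units F (⟨_, Submonoid.mem_map_of_mem _ ha⟩ : N.map (algebraMap R₀ B))
  refine hu.mul_left_cancel ?_
  have h4 := congrArg (algebraMap R₀ F) hw
  rw [map_mul, map_mul, map_mul, map_mul] at h4
  rw [map_mul, map_mul]
  linear_combination h4 + algebraMap R₀ F w * algebraMap R₀ F s * had

/-- Elements integral over the ambient algebra are locally in the normalization of a birational
subalgebra. -/
theorem exists_conductor_notMem (hfin : (minimalPrimes A).Finite)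
    (hE : EGA4loc.IsEssentiallyEtale A E) (D : Subalgebra A E) {x : FractionRing E}
    (hx : x ∈ saturation D) (hxi : IsIntegral E x)
    (M : Ideal (integralClosure E (FractionRing E))) [M.IsPrime] :
    ∃ s : integralClosure E (FractionRing E), s ∉ M ∧ (s : FractionRing E) ∈ normalization D ∧
      (s : FractionRing E) * x ∈ normalization D := by
  let F := FractionRing E
  let R₀ := normalization D
  let L := saturation D
  haveI := isLocalization_fractionRing hfin hE
  haveI := isReduced hE
  haveI : IsReduced F := isReduced_localizationPreserves E⁰ F inferInstance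
  haveI := (isArtinianRing_of_injective hfin hE L (isUnit_saturation hE D) L.val
    Subtype.val_injective).1
  haveI : IsReduced L := isReduced_of_injective L.val Subtype.val_injective
  letI : Algebra R₀ L := (Subalgebra.inclusion (show R₀ ≤ L from inf_le_left)).toRingHom.toAlgebra
  haveI : IsScalarTower R₀ L F := IsScalarTower.of_algebraMap_eq fun _ => rfl
  have hic : ∀ w : L, IsIntegral R₀ w → w ∈ Set.range (algebraMap R₀ L) := fun w hw =>
    ⟨⟨(w : F), mem_normalization_of_isIntegral w.2 (hw.map (IsScalarTower.toAlgHom R₀ L F))⟩,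
      Subtype.ext rfl⟩
  -- the algebra generated by `E` and the normalization
  let Φ : R₀ ⊗[A] E →ₐ[R₀] F := Algebra.TensorProduct.lift (Algebra.ofId R₀ F)
    (IsScalarTower.toAlgHom A E F) fun _ _ => Commute.all _ _
  let B := Φ.range
  have hEB : ∀ e : E, algebraMap E F e ∈ B := fun e => ⟨1 ⊗ₜ e, by simp [Φ]⟩
  have hBint : ∀ b : B, IsIntegral E (b : F) := by
    rintro ⟨_, z, rfl⟩
    induction z using TensorProduct.induction_on with
    | zero =>
      show IsIntegral E (Φ 0)
      rw [map_zero]; exact isIntegral_zero
    | tmul r e =>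
      show IsIntegral E (Φ (r ⊗ₜ e))
      rw [show Φ (r ⊗ₜ e) = (r : F) * algebraMap E F e by simp [Φ]; rfl]
      exact (isIntegral_ambient r.2.2).mul isIntegral_algebraMap
    | add a b ha hb =>
      show IsIntegral E (Φ (a + b))
      rw [map_add]; exact IsIntegral.add ha hb
  let ψ : B →+* integralClosure E (FractionRing E) := (B.val.toRingHom).codRestrict _ hBint
  let P : Ideal B := M.comap ψ
  haveI : P.IsPrime := Ideal.comap_isPrime _ _
  haveI : Algebra.FormallyUnramified A E := formallyUnramified hE
  haveI : Algebra.EssFiniteType A E := essFiniteType hE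
  haveI : Algebra.FormallyUnramified R₀ B :=
    Algebra.FormallyUnramified.of_surjective (R := R₀) (A := R₀ ⊗[A] E) (B := B)
      Φ.rangeRestrict Φ.rangeRestrict_surjective
  haveI : Algebra.EssFiniteType R₀ B :=
    Algebra.EssFiniteType.of_surjective (R := R₀) (S := R₀ ⊗[A] E) (T := B)
      Φ.rangeRestrict Φ.rangeRestrict_surjective
  have hunitA : ∀ a ∈ A⁰, IsUnit (algebraMap A F a) := fun a ha => by
    rw [IsScalarTower.algebraMap_apply A E F]
    exact IsLocalization.map_units F (⟨_, map_mem_nonZeroDivisors hE ha⟩ : E⁰)
  haveI : IsLocalization ((A⁰.map (algebraMap A R₀)).map (algebraMap R₀ B)) F := by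
    refine ⟨?_, fun z => ?_, fun {x y} h => ⟨1, by rw [Subtype.ext h]⟩⟩
    · rintro ⟨_, _, ⟨a, ha, rfl⟩, rfl⟩
      exact hunitA a ha
    · obtain ⟨⟨e', m⟩, hz⟩ := IsLocalization.surj (A⁰.map (algebraMap A E)) z
      obtain ⟨a, ha, ham⟩ := m.2
      refine ⟨(⟨_, hEB e'⟩, ⟨_, Submonoid.mem_map_of_mem _ (Submonoid.mem_map_of_mem _ ha)⟩), ?_⟩
      show z * algebraMap A F a = algebraMap E F e'
      rw [IsScalarTower.algebraMap_apply A E F, ham]
      exact hz
  have hxB : IsIntegral B x :=
    hxi.map_of_comp_eq (S := F) ((algebraMap E F).codRestrict B hEB) (RingHom.id F) (RingHom.ext fun _ => rfl)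
  obtain ⟨a, ha, d, hd, had⟩ := hx
  obtain ⟨s, r, hs, hsr⟩ := exists_mul_mem (R₀ := R₀) (L := L) (B := B) (F := F)
    (Subalgebra.inclusion_injective _) hic Subtype.val_injective (A⁰.map (algebraMap A R₀))
    P hxB (a := algebraMap A R₀ a) (d := ⟨algebraMap E F d, algebraMap_mem_normalization hd⟩)
    (Submonoid.mem_map_of_mem _ ha) had
  exact ⟨⟨(s : F), isIntegral_ambient s.2.2⟩, fun h => hs h, s.2,
    (show (s : F) * x = (r : F) from hsr).symm ▸ r.2⟩

omit [IsLocalRing E] [IsReduced A] in
/-- Prime avoidance for the maximal ideals of a semilocal target. -/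
theorem exists_mem_forall_notMem {R T : Type u} [CommRing R] [CommRing T] (j : R →+* T)
    (hfin : {M : Ideal T | M.IsMaximal}.Finite) (I : Ideal R)
    (hI : ∀ M : Ideal T, M.IsMaximal → ¬ I ≤ M.comap j) :
    ∃ s ∈ I, ∀ M : Ideal T, M.IsMaximal → j s ∉ M := by
  classical
  by_contra hnot
  push Not at hnot
  have hsubU : (I : Set R) ⊆ ⋃ M ∈ hfin.toFinset, ((M.comap j : Ideal R) : Set R) := fun c hc => by
    obtain ⟨M, hM, hcM⟩ := hnot c hc
    exact Set.mem_biUnion (hfin.mem_toFinset.mpr hM) hcM
  obtain ⟨M, hM, hle⟩ := (Ideal.subset_union_prime (f := fun M : Ideal T => (M.comap j : Ideal R))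
    ⊥ ⊥ fun M hM _ _ => by
      haveI := (hfin.mem_toFinset.mp hM).isPrime
      exact Ideal.comap_isPrime _ _).mp hsubU
  exact hI M (hfin.mem_toFinset.mp hM) hle

/-- The inclusion of a subalgebra into its normalization. -/
noncomputable def toNormalization (D : Subalgebra A E) : D →+* normalization D :=
  ((algebraMap E (FractionRing E)).comp (algebraMap D E)).codRestrict _
    fun d => algebraMap_mem_normalization d.2

omit [IsLocalRing E] [IsReduced A] in
theorem isIntegral_toNormalization (D : Subalgebra A E) : (toNormalization D).IsIntegral := fun z => by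
  letI : Algebra D (normalization D) := (toNormalization D).toAlgebra
  haveI : IsScalarTower D (normalization D) (FractionRing E) := IsScalarTower.of_algebraMap_eq fun _ => rfl
  exact (isIntegral_algHom_iff (IsScalarTower.toAlgHom D (normalization D) (FractionRing E))
    Subtype.val_injective).mp z.2.2

/-- The normalization in the integral closure of the ambient algebra. -/
noncomputable def toAmbient (D : Subalgebra A E) :
    normalization D →+* integralClosure E (FractionRing E) :=
  (normalization D).val.toRingHom.codRestrict _ fun z => isIntegral_ambient z.2.2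

omit [IsLocalRing E] in
theorem finite_toNormalization [IsNoetherianRing A] (hA : CAlg.IsNagata A)
    (hE : EGA4loc.IsEssentiallyEtale A E) (D : Subalgebra A E) [Algebra.EssFiniteType A D] :
    (toNormalization D).Finite := by
  let F := FractionRing E
  let L := saturation D
  have hfin := minimalPrimes.finite_of_isNoetherianRing A
  haveI := isReduced hE
  haveI : IsReduced F := isReduced_localizationPreserves E⁰ F inferInstance
  haveI := (isArtinianRing_of_injective hfin hE L (isUnit_saturation hE D) L.val
    Subtype.val_injective).1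
  haveI : IsReduced L := isReduced_of_injective L.val Subtype.val_injective
  have hN : CAlg.IsNagata D := isNagata_of_essFiniteType hA
  haveI := hN.1
  let g : D →+* L :=
    ((algebraMap E F).comp (algebraMap D E)).codRestrict L fun d => algebraMap_mem_saturation d.2
  letI : Algebra D L := g.toAlgebra
  haveI : IsScalarTower D L F := IsScalarTower.of_algebraMap_eq fun _ => rfl
  haveI : Module.Finite D (integralClosure D L) := by
    refine finite_ic_artinian hN fun z => ?_
    obtain ⟨a, ha, d, hd, hz⟩ := z.2
    refine ⟨algebraMap A D a, ⟨d, hd⟩, ?_, Subtype.ext ?_⟩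
    · have : algebraMap D L (algebraMap A D a) = algebraMap A L a :=
        Subtype.ext ((IsScalarTower.algebraMap_apply A E F a).symm)
      rw [this]; exact isUnit_saturation hE D a ha
    · show (z : F) * algebraMap E F (algebraMap A E a) = algebraMap E F d
      rw [← IsScalarTower.algebraMap_apply, ← hz, mul_comm]
  letI : Algebra D (normalization D) := (toNormalization D).toAlgebra
  let η : integralClosure D L →ₗ[D] normalization D :=
    { toFun := fun z => ⟨((z : L) : F), (z : L).2,
        show IsIntegral D ((z : L) : F) from (z.2 : IsIntegral D (z : L)).map (IsScalarTower.toAlgHom D L F)⟩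
      map_add' := fun _ _ => rfl
      map_smul' := fun _ _ => Subtype.ext rfl }
  exact (Module.Finite.of_surjective η fun z =>
    ⟨⟨⟨(z : F), z.2.1⟩,
      (isIntegral_algHom_iff (IsScalarTower.toAlgHom D L F) Subtype.val_injective).mp z.2.2⟩,
      Subtype.ext rfl⟩ : Module.Finite D (normalization D))

omit [IsLocalRing E] in
theorem finite_maximal_normalization [IsNoetherianRing A] (hA : CAlg.IsNagata A)
    (hE : EGA4loc.IsEssentiallyEtale A E) (D : Subalgebra A E) [Algebra.EssFiniteType A D]
    [IsLocalRing D] : {N : Ideal (normalization D) | N.IsMaximal}.Finite := by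
  letI : Algebra D (normalization D) := (toNormalization D).toAlgebra
  haveI : Module.Finite D (normalization D) := finite_toNormalization hA hE D
  refine (Algebra.QuasiFinite.finite_primesOver (S := normalization D)
    (maximalIdeal D)).subset fun N hN => ?_
  haveI : N.IsMaximal := hN
  exact ⟨inferInstance, ⟨(IsLocalRing.eq_maximalIdeal
    (Ideal.isMaximal_comap_of_isIntegral_of_isMaximal (R := D) N)).symm⟩⟩

omit [IsLocalRing E] [IsReduced A] in
/-- Maximal ideals contract to maximal ideals between normalizations. -/
theorem isMaximal_comap_normalization {D₀ D₁ : Subalgebra A E} [IsLocalRing D₀] [IsLocalRing D₁]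
    [IsLocalHom (algebraMap D₀ E)] (h : D₀ ≤ D₁) (N : Ideal (normalization D₁)) [N.IsMaximal] :
    (N.comap (Subalgebra.inclusion (normalization_mono h)).toRingHom).IsMaximal := by
  haveI : (N.comap (Subalgebra.inclusion (normalization_mono h)).toRingHom).IsPrime :=
    Ideal.comap_isPrime _ _
  refine Ideal.isMaximal_of_isIntegral_of_isMaximal_comap' (toNormalization D₀)
    (isIntegral_toNormalization D₀) _ ?_
  have hn : (N.comap (Subalgebra.inclusion (normalization_mono h)).toRingHom).comap (toNormalization D₀) =
      (N.comap (toNormalization D₁)).comap (Subalgebra.inclusion h).toRingHom := by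
    rw [Ideal.comap_comap, Ideal.comap_comap]
    rfl
  rw [hn, IsLocalRing.eq_maximalIdeal
    (Ideal.isMaximal_comap_of_isIntegral_of_isMaximal' _ (isIntegral_toNormalization D₁) N)]
  have hl : IsLocalHom (Subalgebra.inclusion h).toRingHom :=
    ⟨fun d hd => IsUnit.of_map (algebraMap D₀ E) d (hd.map (algebraMap D₁ E))⟩
  have h4 : (maximalIdeal D₁).comap (Subalgebra.inclusion h).toRingHom = maximalIdeal D₀ :=
    ((local_hom_TFAE (Subalgebra.inclusion h).toRingHom).out 0 4).mp hl
  rw [h4]
  exact IsLocalRing.maximalIdeal.isMaximal _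

set_option maxHeartbeats 400000 in
/-- The key step: elements integral over a birational extension lie in a finite stage. -/
theorem normalization_le_of_inverse [IsNoetherianRing A]
    (hE : EGA4loc.IsEssentiallyEtale A E) {D D₀ D₁ : Subalgebra A E} [IsLocalRing D₀] [IsLocalRing D₁]
    [IsLocalHom (algebraMap D₀ E)] (h01 : D₀ ≤ D₁) (hsat : saturation D ≤ saturation D₀)
    (c : normalization D₀) (hcu : ∃ w ∈ normalization D₁, (c : FractionRing E) * w = 1)
    (hc : ∀ n : Ideal (normalization D₀), n.IsMaximal →
      (∀ M : Ideal (integralClosure E (FractionRing E)), M.IsMaximal → M.comap (toAmbient D₀) ≠ n) →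
      c ∈ n) :
    normalization D ≤ normalization D₁ := by
  intro x hx
  let j₀ := toAmbient D₀
  let j₁ := (Subalgebra.inclusion (normalization_mono h01)).toRingHom
  haveI := isReduced hE
  haveI := isNoetherianRing hE
  let I : Ideal (normalization D₀) :=
    { carrier := {s | (s : FractionRing E) * x ∈ normalization D₀}
      add_mem' := fun {s s'} h h' => by
        show ((s : FractionRing E) + (s' : FractionRing E)) * x ∈ normalization D₀
        rw [add_mul]; exact add_mem h h'
      zero_mem' := by
        show (0 : FractionRing E) * x ∈ normalization D₀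
        rw [zero_mul]; exact zero_mem _
      smul_mem' := fun r {s} h => by
        show (r : FractionRing E) * (s : FractionRing E) * x ∈ normalization D₀
        rw [mul_assoc]; exact mul_mem r.2 h }
  obtain ⟨s, hsI, hsM⟩ := exists_mem_forall_notMem j₀ (finite_maximal_integralClosure E) I
    fun M hM hle => by
      haveI := hM.isPrime
      obtain ⟨s, hsM, hs0, hsx⟩ := exists_conductor_notMem (minimalPrimes.finite_of_isNoetherianRing A)
        hE D₀ (hsat hx.1) (isIntegral_ambient hx.2) M
      exact hsM (hle (x := (⟨(s : FractionRing E), hs0⟩ : normalization D₀)) hsx)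
  have hsu : IsUnit (j₁ s) := by
    by_contra h
    obtain ⟨N, hN, hsN⟩ := exists_max_ideal_of_mem_nonunits h
    haveI := hN
    have hnmax := isMaximal_comap_normalization h01 N
    obtain ⟨w, hw, hcw⟩ := hcu
    have hcn : c ∉ N.comap j₁ := fun hc => hN.ne_top (Ideal.eq_top_of_isUnit_mem _ hc
      (IsUnit.of_mul_eq_one (⟨w, hw⟩ : normalization D₁) (Subtype.ext hcw)))
    refine hcn (hc _ hnmax fun M hM he => hsM M hM ?_)
    show s ∈ M.comap j₀
    rw [he]; exact hsN
  obtain ⟨v, hv⟩ := hsu.exists_left_inv
  have hv' : (v : FractionRing E) * (s : FractionRing E) = 1 := congrArg Subtype.val hv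
  have := mul_mem v.2 (normalization_mono h01 hsI)
  rwa [← mul_assoc, hv', one_mul] at this

/-- A subalgebra whose normalization contains the inverses of its elements invertible in the
normalization of the ambient algebra is essentially of finite type. -/
theorem essFiniteType_of_normalization [IsNoetherianRing A] (hA : CAlg.IsNagata A)
    (hE : EGA4loc.IsEssentiallyEtale A E) (D : Subalgebra A E) [IsLocalHom (algebraMap D E)]
    (hunit : ∀ z ∈ normalization D, ∀ w : FractionRing E, IsIntegral E w → z * w = 1 →
      w ∈ normalization D) :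
    Algebra.EssFiniteType A D := by
  classical
  let F := FractionRing E
  have hfin := minimalPrimes.finite_of_isNoetherianRing A
  haveI := isReduced hE
  haveI := isNoetherianRing hE
  haveI := isLocalization_fractionRing hfin hE
  haveI : IsReduced F := isReduced_localizationPreserves E⁰ F inferInstance
  obtain ⟨t, ht⟩ := (isArtinianRing_of_injective hfin hE (saturation D) (isUnit_saturation hE D)
    (saturation D).val Subtype.val_injective).2
  choose ad had nd hnd hzd using fun z : saturation D => z.2
  -- finite stages
  let stage : Finset E → Subalgebra A E := fun s => localSub (Algebra.adjoin A (s : Set E))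
  have hstage_le : ∀ s : Finset E, (s : Set E) ⊆ D → stage s ≤ D := fun s hs =>
    localSub_le (Algebra.adjoin_le hs)
  have hsub : ∀ s : Finset E, (s : Set E) ⊆ stage s := fun s =>
    Algebra.subset_adjoin.trans (le_localSub (Algebra.adjoin A (s : Set E)))
  let s₀ := t.image nd
  have hs₀ : (s₀ : Set E) ⊆ D := fun e he => by
    obtain ⟨z, -, rfl⟩ := Finset.mem_image.mp he
    exact hnd z
  have hsat : ∀ s : Finset E, s₀ ⊆ s → saturation D ≤ saturation (stage s) := by
    intro s hs x hx
    obtain ⟨a, ha, hax⟩ := ht ⟨x, hx⟩
    have h1 : ∀ v ∈ Submodule.span A (t : Set (saturation D)), (v : F) ∈ saturation (stage s) := by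
      intro v hv
      induction hv using Submodule.span_induction with
      | mem z hz =>
        exact ⟨ad z, had z, nd z, hsub s (hs (Finset.mem_image_of_mem _ hz)), hzd z⟩
      | zero => exact zero_mem _
      | add v w _ _ hv hw => exact add_mem hv hw
      | smul c v _ hv => exact Subalgebra.smul_mem _ hv c
    obtain ⟨w, hw⟩ := (isUnit_saturation hE (stage s) a ha).exists_left_inv
    have h2 := mul_mem w.2 (h1 _ hax)
    have hw' : (w : F) * algebraMap A F a = 1 := congrArg Subtype.val hw
    have h3 : (w : F) * (algebraMap A F a * x) = x := by rw [← mul_assoc, hw', one_mul]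
    exact h3 ▸ h2
  have hEFT : ∀ s : Finset E, Algebra.EssFiniteType A (stage s) := fun s => by
    haveI : Algebra.FiniteType A (Algebra.adjoin A (s : Set E)) :=
      ⟨(Algebra.adjoin A (s : Set E)).fg_top.2 ⟨s, rfl⟩⟩
    exact essFiniteType_localSub _
  let D₀ := stage s₀
  haveI := hEFT s₀
  let j₀ := toAmbient D₀
  have hME := finite_maximal_integralClosure E
  -- an element in all maximal ideals not under the normalization of `E`
  let bad : Set (Ideal (normalization D₀)) :=
    {N | N.IsMaximal ∧ ∀ M : Ideal (integralClosure E F), M.IsMaximal → M.comap j₀ ≠ N}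
  have hbad : bad.Finite := (finite_maximal_normalization hA hE D₀).subset fun N hN => hN.1
  obtain ⟨c, hcbad, hcgood⟩ := exists_mem_forall_notMem j₀ hME (hbad.toFinset.inf id) fun M hM hle => by
    obtain ⟨N, hN, hNM⟩ := (Ideal.IsPrime.inf_le' (Ideal.comap_isPrime j₀ M (H := hM.isPrime))).mp hle
    obtain ⟨hNmax, hNne⟩ := hbad.mem_toFinset.mp hN
    exact hNne M hM (hNmax.eq_of_le (Ideal.comap_isPrime j₀ M (H := hM.isPrime)).ne_top hNM).symm
  have hcu : IsUnit (j₀ c) := by
    by_contra h
    obtain ⟨M, hM, hcM⟩ := exists_max_ideal_of_mem_nonunits h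
    exact hcgood M hM hcM
  obtain ⟨w, hw⟩ := hcu.exists_right_inv
  have hw' : (c : F) * (w : F) = 1 := congrArg Subtype.val hw
  have hwD : (w : F) ∈ normalization D :=
    hunit _ (normalization_mono (hstage_le s₀ hs₀) c.2) _ w.2 hw'
  obtain ⟨p, hp, hpw⟩ := (show IsIntegral D (w : F) from hwD.2)
  let s₁ := s₀ ∪ p.support.image (fun i => ((p.coeff i : D) : E))
  have hs₁ : (s₁ : Set E) ⊆ D := fun e he => by
    rcases Finset.mem_union.mp he with h | h
    · exact hs₀ h
    · obtain ⟨i, -, rfl⟩ := Finset.mem_image.mp h
      exact (p.coeff i).2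
  let D₁ := stage s₁
  have hD01 : D₀ ≤ D₁ :=
    localSub_le ((Algebra.adjoin_mono (Finset.coe_subset.mpr Finset.subset_union_left)).trans (le_localSub _))
  have hwR₁ : (w : F) ∈ normalization D₁ := by
    refine ⟨hsat s₁ Finset.subset_union_left hwD.1, ?_⟩
    have hp' : p.map (algebraMap D E) ∈ Polynomial.lifts (algebraMap D₁ E) := by
      rw [Polynomial.lifts_iff_coeff_lifts]
      intro i
      rw [Polynomial.coeff_map]
      by_cases h0 : p.coeff i = 0
      · exact ⟨0, by rw [h0, map_zero, map_zero]⟩
      · exact ⟨⟨_, hsub s₁ (Finset.mem_union_right _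
          (Finset.mem_image_of_mem _ (Polynomial.mem_support_iff.mpr h0)))⟩, rfl⟩
    obtain ⟨q, hq, -, hqm⟩ := Polynomial.lifts_and_natDegree_eq_and_monic hp' (hp.map _)
    refine ⟨q, hqm, ?_⟩
    rw [IsScalarTower.algebraMap_eq D₁ E F, ← Polynomial.eval₂_map, hq, Polynomial.eval₂_map,
      ← IsScalarTower.algebraMap_eq]
    exact hpw
  have hle : normalization D ≤ normalization D₁ :=
    normalization_le_of_inverse hE hD01 (hsat s₀ subset_rfl) c ⟨w, hwR₁, hw'⟩ fun n hn hno =>
      (Finset.inf_le (f := id) (hbad.mem_toFinset.mpr ⟨hn, hno⟩)) hcbad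
  -- conclusion
  haveI := hEFT s₁
  haveI : IsNoetherianRing D₁ := Algebra.EssFiniteType.isNoetherianRing A D₁
  letI : Algebra D₁ (normalization D₁) := (toNormalization D₁).toAlgebra
  haveI : Module.Finite D₁ (normalization D₁) := finite_toNormalization hA hE D₁
  letI : Algebra D₁ D := (Subalgebra.inclusion (hstage_le s₁ hs₁)).toRingHom.toAlgebra
  haveI : IsScalarTower A D₁ D := IsScalarTower.of_algebraMap_eq fun _ => rfl
  let η : D →ₗ[D₁] normalization D₁ :=
    { toFun := fun d => ⟨algebraMap E F d, hle (algebraMap_mem_normalization d.2)⟩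
      map_add' := fun a b => Subtype.ext (map_add (algebraMap E F) (a : E) (b : E))
      map_smul' := fun a b => Subtype.ext (map_mul (algebraMap E F) (a : E) (b : E)) }
  haveI : Module.Finite D₁ D := Module.Finite.of_injective η fun a b h =>
    Subtype.ext (IsFractionRing.injective E F (congrArg Subtype.val h))
  exact Algebra.EssFiniteType.comp A D₁ D

end Groth.Agent.EssEt6
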