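import Groth.Agent.EssEt6.FibreRings
import Groth.Agent.HenselLib.EssEtMaps
import Mathlib.FieldTheory.IsSepClosed
import Mathlib.FieldTheory.Extension
import Mathlib.RingTheory.Filtration
import Mathlib.RingTheory.Flat.EquationalCriterion

/-!
# Descent of essential etaleness through residue rings of normalizations
-/

set_option autoImplicit false
set_option linter.style.haveILetI false
set_option maxSynthPendingDepth 6

universe u

open nonZeroDivisors IsLocalRing
open scoped TensorProduct

namespace Groth.Agent.EssEt6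

variable {A E : Type u} [CommRing A] [IsLocalRing A] [CommRing E] [Algebra A E] [IsLocalRing E]
  [IsReduced A] [IsNoetherianRing A]

theorem mem_jacobson_bot_iff_forall {R : Type u} [CommRing R] {x : R} :
    x ∈ Ideal.jacobson (⊥ : Ideal R) ↔ ∀ M : Ideal R, M.IsMaximal → x ∈ M := by
  rw [Ideal.jacobson, Submodule.mem_sInf]
  exact ⟨fun h M hM => h M ⟨bot_le, hM⟩, fun h M hM => h M hM.2⟩

omit [IsReduced A] [IsNoetherianRing A] in
/-- The residue field of a subalgebra of an essentially etale local algebra is separable. -/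
theorem isSeparable_residue (hE : EGA4loc.IsEssentiallyEtale A E) (D : Subalgebra A E) [IsLocalRing D]
    [IsLocalHom (algebraMap A D)] [IsLocalHom (algebraMap D E)] :
    Algebra.IsSeparable (ResidueField A) (ResidueField D) := by
  haveI := formallyUnramified hE
  haveI := essFiniteType hE
  haveI := isLocalHom hE
  let f : ResidueField D →ₐ[ResidueField A] ResidueField E :=
    { ResidueField.map (algebraMap D E) with
      commutes' := fun x => by
        obtain ⟨a, rfl⟩ := IsLocalRing.residue_surjective x
        rfl }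
  exact Algebra.IsSeparable.of_algHom (ResidueField A) (ResidueField E) f

theorem prodNorm_val (D : Subalgebra A E) (ζ : baseNorm A E ⊗[A] D) :
    ((prodNorm D ζ : normalization D) : FractionRing E) =
      tensorToFractions (⊥ : Subalgebra A E)
        (Algebra.TensorProduct.map (AlgHom.id A (baseNorm A E)) D.val ζ) := by
  induction ζ using TensorProduct.induction_on with
  | zero => simp
  | tmul r d => rfl
  | add x y hx hy => simp only [map_add, AddMemClass.coe_add, hx, hy]

/-- Residual injectivity: maximal ideals and units of the normalization of the subalgebra. -/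
theorem inverse_and_lies_over (hA : CAlg.IsNagata A) (hE : EGA4loc.IsEssentiallyEtale A E)
    (D : Subalgebra A E) [IsLocalRing D] [IsLocalHom (algebraMap D E)]
    (hfinD : {N : Ideal (normalization D) | N.IsMaximal}.Finite)
    (hsurj : Function.Surjective (resNorm D))
    (hker : fibreIdeal A E D ≤ RingHom.ker (resNorm D)) :
    (∀ z ∈ normalization D, ∀ w : FractionRing E, IsIntegral E w → z * w = 1 → w ∈ normalization D) ∧
    (∀ N : Ideal (normalization D), N.IsMaximal →
      ∃ M : Ideal (integralClosure E (FractionRing E)), M.IsMaximal ∧ M.comap (toAmbient D) = N) := by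
  classical
  let F := FractionRing E
  let D₁ := normalization D
  let E' := integralClosure E F
  let J := Ideal.jacobson (⊥ : Ideal D₁)
  have hrad : ∀ r ∈ J, toAmbient D r ∈ Ideal.jacobson (⊥ : Ideal E') := fun r hr =>
    mem_jacobson_bot_iff_forall.mpr fun M hM => by
      haveI := hM
      exact mem_jacobson_bot_iff_forall.mp hr _ (isMaximal_comap_toAmbient D M)
  have hinj : ∀ x : D₁, toAmbient D x ∈ Ideal.jacobson (⊥ : Ideal E') → x ∈ J := by
    intro x hx
    obtain ⟨ζ, hζ⟩ := hsurj (Ideal.Quotient.mkₐ A J x)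
    have hr : x - prodNorm D ζ ∈ J := Ideal.Quotient.eq.mp hζ.symm
    have h1 : toAmbient D (prodNorm D ζ) ∈ Ideal.jacobson (⊥ : Ideal E') := by
      have := sub_mem hx (hrad _ hr)
      rwa [← map_sub, sub_sub_cancel] at this
    let ζ' := Algebra.TensorProduct.map (AlgHom.id A (baseNorm A E)) D.val ζ
    have h3 : ζ' ∈ fibreIdeal A E E := by
      rw [← ker_prodTop hA hE]
      show prodTop (A := A) (E := E) ζ' ∈ Ideal.jacobson (⊥ : Ideal ((integralClosure E F).restrictScalars A))
      rw [show prodTop (A := A) (E := E) ζ' = ⟨_, (toAmbient D (prodNorm D ζ)).2⟩ from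
        Subtype.ext (prodNorm_val D ζ).symm]
      exact h1
    have h4 : prodNorm D ζ ∈ J := Ideal.Quotient.eq_zero_iff_mem.mp (hker (fibreIdeal_le_comap hA hE h3))
    simpa using add_mem hr h4
  haveI := isArtinianRing_quotient_jacobson hfinD
  refine ⟨fun z hz w hw hzw => ?_, fun N hN => ?_⟩
  · let z' : D₁ := ⟨z, hz⟩
    let w' : E' := ⟨w, hw⟩
    have hzw' : toAmbient D z' * w' = 1 := Subtype.ext hzw
    have hreg : Ideal.Quotient.mk J z' ∈ (D₁ ⧸ J)⁰ := by
      rw [mem_nonZeroDivisors_iff_right]
      intro y hy
      obtain ⟨y, rfl⟩ := Ideal.Quotient.mk_surjective y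
      rw [← map_mul, Ideal.Quotient.eq_zero_iff_mem] at hy
      rw [Ideal.Quotient.eq_zero_iff_mem]
      refine hinj y ?_
      have h1 := Ideal.mul_mem_right w' _ (hrad _ hy)
      rwa [map_mul, mul_assoc, hzw', mul_one] at h1
    obtain ⟨v, hv⟩ := (IsArtinianRing.isUnit_of_mem_nonZeroDivisors hreg).exists_right_inv
    obtain ⟨v, rfl⟩ := Ideal.Quotient.mk_surjective v
    rw [← map_mul, ← map_one (Ideal.Quotient.mk J), Ideal.Quotient.eq] at hv
    have hu := Ideal.mem_jacobson_bot.mp hv 1
    rw [mul_one, sub_add_cancel] at hu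
    obtain ⟨v', hv'⟩ := (isUnit_of_mul_isUnit_left hu).exists_right_inv
    have hz1 : z * (v' : F) = 1 := congrArg Subtype.val hv'
    exact ((IsUnit.of_mul_eq_one _ hzw).mul_left_cancel (hzw.trans hz1.symm)) ▸ v'.2
  · haveI := hN
    haveI := isReduced hE
    haveI := isNoetherianRing hE
    have hfinE := finite_maximal_integralClosure E
    have hle : hfinE.toFinset.inf (fun M => M.comap (toAmbient D)) ≤ N := fun x hx => by
      rw [Submodule.mem_finsetInf] at hx
      exact mem_jacobson_bot_iff_forall.mp (hinj x (mem_jacobson_bot_iff_forall.mpr fun M hM =>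
        hx M (hfinE.mem_toFinset.mpr hM))) N hN
    obtain ⟨M, hM, hMN⟩ := (Ideal.IsPrime.inf_le' hN.isPrime).mp hle
    haveI : M.IsMaximal := hfinE.mem_toFinset.mp hM
    exact ⟨M, inferInstance, (isMaximal_comap_toAmbient D M).eq_of_le hN.ne_top hMN⟩

/-- Locally at a maximal ideal of the ambient normalization, the maximal ideal of the normalization of
a subalgebra comes from the base. -/
theorem exists_mul_mem_map (hE : EGA4loc.IsEssentiallyEtale A E) (D : Subalgebra A E)
    (M : Ideal (integralClosure E (FractionRing E))) [M.IsPrime] {z : normalization D}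
    (hz : toAmbient D z ∈ M) :
    ∃ s, toAmbient D s ∉ M ∧ s * z ∈
      (M.comap (toAmbient (⊥ : Subalgebra A E))).map
        (Subalgebra.inclusion (normalization_mono (bot_le (a := D)))) := by
  have hfin := minimalPrimes.finite_of_isNoetherianRing A
  obtain ⟨u, hu, huz⟩ := (toAmbient_facts hfin hE (⊥ : Subalgebra A E) M).2 _ hz
  refine (toAmbient_facts hfin hE D M).1 _ z u hu ?_
  have hmm : ∀ I : Ideal (baseNorm A E), (I.map (Subalgebra.inclusion (normalization_mono (bot_le (a := D))))).map
      (toAmbient D) = I.map (toAmbient (⊥ : Subalgebra A E)) := fun I => Ideal.map_map _ _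
  rw [hmm]
  exact huz

/-- Artin-Rees: the topology of the ambient algebra is finer on the subalgebra. -/
theorem exists_pow_le_map (hA : CAlg.IsNagata A) (hE : EGA4loc.IsEssentiallyEtale A E)
    (D : Subalgebra A E) [Algebra.EssFiniteType A D]
    (hover : ∀ N : Ideal (normalization D), N.IsMaximal →
      ∃ M : Ideal (integralClosure E (FractionRing E)), M.IsMaximal ∧ M.comap (toAmbient D) = N) :
    ∃ c : ℕ, ∀ d : D, (d : E) ∈ (maximalIdeal A ^ (c + 1)).map (algebraMap A E) →
      d ∈ (maximalIdeal A).map (algebraMap A D) := by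
  let F := FractionRing E
  let D₁ := normalization D
  have hfin := minimalPrimes.finite_of_isNoetherianRing A
  haveI : IsNoetherianRing D := Algebra.EssFiniteType.isNoetherianRing A D
  letI : Algebra D D₁ := (toNormalization D).toAlgebra
  haveI : Module.Finite D D₁ := finite_toNormalization hA hE D
  haveI : IsScalarTower A D D₁ := IsScalarTower.of_algebraMap_eq fun a => Subtype.ext
    (IsScalarTower.algebraMap_apply A E F a)
  let I : Ideal D := (maximalIdeal A).map (algebraMap A D)
  let N : Submodule D D₁ := LinearMap.range (Algebra.linearMap D D₁)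
  obtain ⟨c, hc⟩ := Ideal.exists_pow_inf_eq_pow_smul I N
  refine ⟨c, fun d hd => ?_⟩
  let a : Ideal D₁ := (maximalIdeal A ^ (c + 1)).map (algebraMap A D₁)
  let x : D₁ := toNormalization D d
  have hx : x ∈ a := by
    have htop : Submodule.colon a (Ideal.span {x} : Ideal D₁) = ⊤ := by
      by_contra hne
      obtain ⟨N', hN', hle⟩ := Ideal.exists_le_maximal _ hne
      obtain ⟨M, hM, hMN⟩ := hover N' hN'
      haveI := hM.isPrime
      have h1 : (1 : integralClosure E F) * toAmbient D x ∈ a.map (toAmbient D) := by
        rw [one_mul, show toAmbient D x = algebraMap E (integralClosure E F) (d : E) from Subtype.ext rfl,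
          show a.map (toAmbient D) = ((maximalIdeal A ^ (c + 1)).map (algebraMap A E)).map
            (algebraMap E (integralClosure E F)) by
            rw [Ideal.map_map, Ideal.map_map]
            refine congrArg (fun f : A →+* integralClosure E F => Ideal.map f (maximalIdeal A ^ (c + 1))) ?_
            exact RingHom.ext fun r => Subtype.ext (IsScalarTower.algebraMap_apply A E F r)]
        exact Ideal.mem_map_of_mem _ hd
      obtain ⟨s, hs, hsx⟩ := (toAmbient_facts hfin hE D M).1 a x 1
        ((Ideal.ne_top_iff_one M).mp hM.ne_top) h1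
      refine hs ?_
      have h2 : s ∈ M.comap (toAmbient D) := hMN ▸ hle (Ideal.mem_colon_span_singleton.mpr hsx)
      exact h2
    simpa [Ideal.mem_colon_span_singleton] using
      (htop ▸ Submodule.mem_top : (1 : D₁) ∈ Submodule.colon a (Ideal.span {x} : Ideal D₁))
  have h3 : x ∈ I ^ (c + 1) • (⊤ : Submodule D D₁) ⊓ N := by
    refine ⟨?_, d, rfl⟩
    rw [Ideal.smul_top_eq_map, ← Ideal.map_pow, Ideal.map_map, ← IsScalarTower.algebraMap_eq]
    exact hx
  rw [hc (c + 1) (Nat.le_succ c), Nat.add_sub_cancel_left, pow_one] at h3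
  have h4 : x ∈ I • N := Submodule.smul_mono le_rfl inf_le_right h3
  rw [show N = (⊤ : Submodule D D).map (Algebra.linearMap D D₁) from (Submodule.map_top _).symm,
    ← Submodule.map_smul''] at h4
  obtain ⟨d', hd', he⟩ := h4
  have hdd : d' = d := Subtype.ext (IsFractionRing.injective E F (congrArg Subtype.val he))
  rw [← hdd]
  simpa [Ideal.mul_top] using hd'

section Strict

variable {S : Type u} [CommRing S] [IsLocalRing S] [Algebra A S] [Module.Flat A S]

/-- The extension of a local map to the total rings of fractions. -/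
theorem exists_fractions_hom (hE : EGA4loc.IsEssentiallyEtale A E) (φ : E →ₐ[A] S)
    [IsLocalHom φ.toRingHom] :
    ∃ Φ : FractionRing E →ₐ[A] FractionRing S,
      ∀ e, Φ (algebraMap E (FractionRing E) e) = algebraMap S (FractionRing S) (φ e) := by
  letI : Algebra E S := φ.toRingHom.toAlgebra
  haveI : IsScalarTower A E S := IsScalarTower.of_algebraMap_eq fun a => (φ.commutes a).symm
  haveI : IsLocalHom (algebraMap E S) := ‹IsLocalHom φ.toRingHom›
  haveI := faithfullyFlat hE S
  have hu : ∀ n : E⁰, IsUnit ((IsScalarTower.toAlgHom A S (FractionRing S)).comp φ n) := fun n => by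
    refine IsLocalization.map_units (M := S⁰) (FractionRing S) (⟨φ n, ?_⟩ : S⁰)
    rw [mem_nonZeroDivisors_iff_right]
    intro x hx
    refine Module.Flat.isSMulRegular_of_nonZeroDivisors n.2 (M := S) ?_
    show (n : E) • x = (n : E) • (0 : S)
    rw [smul_zero, Algebra.smul_def, mul_comm]
    exact hx
  exact ⟨IsLocalization.liftAlgHom (M := E⁰) hu, fun e => IsLocalization.lift_eq _ e⟩

/-- Two points of an essentially etale algebra agreeing residually on the subalgebra agree on it. -/
theorem eq_on_of_residue (hA : CAlg.IsNagata A) (hE : EGA4loc.IsEssentiallyEtale A E)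
    (D : Subalgebra A E) [IsLocalRing D] [IsLocalHom (algebraMap D E)] [Algebra.EssFiniteType A D]
    (hsurj : Function.Surjective (resNorm D))
    (σ τ : E →ₐ[A] S) [IsLocalHom σ.toRingHom] [IsLocalHom τ.toRingHom]
    (hres : ∀ d ∈ D, σ d - τ d ∈ maximalIdeal S) : ∀ d ∈ D, σ d = τ d := by
  classical
  let F := FractionRing E
  let K := FractionRing S
  let D₁ := normalization D
  let S' := integralClosure S K
  obtain ⟨Φ, hΦ⟩ := exists_fractions_hom hE σ
  obtain ⟨Ψ, hΨ⟩ := exists_fractions_hom hE τ
  let U : integralClosure E F →+* S' := (Φ.toRingHom.comp (integralClosure E F).val.toRingHom).codRestrict S'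
    fun x => (x.2 : IsIntegral E (x : F)).map_of_comp_eq (S := F) σ.toRingHom Φ.toRingHom
      (RingHom.ext fun e => (hΦ e).symm)
  let V : integralClosure E F →+* S' := (Ψ.toRingHom.comp (integralClosure E F).val.toRingHom).codRestrict S'
    fun x => (x.2 : IsIntegral E (x : F)).map_of_comp_eq (S := F) τ.toRingHom Ψ.toRingHom
      (RingHom.ext fun e => (hΨ e).symm)
  let u : D₁ →+* S' := U.comp (toAmbient D)
  let v : D₁ →+* S' := V.comp (toAmbient D)
  have huD : ∀ d : D, u (toNormalization D d) = algebraMap S S' (σ d) := fun d => Subtype.ext (hΦ _)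
  have hvD : ∀ d : D, v (toNormalization D d) = algebraMap S S' (τ d) := fun d => Subtype.ext (hΨ _)
  -- agreement on the normalization of the base
  let incl := Subalgebra.inclusion (normalization_mono (bot_le (a := D)))
  have hbase : ∀ a : baseNorm A E, u (incl a) = v (incl a) := fun a => by
    refine Subtype.ext ?_
    show Φ (a : F) = Ψ (a : F)
    obtain ⟨c, hc, b, hb, hcb⟩ := a.2.1
    obtain ⟨r, rfl⟩ := Algebra.mem_bot.mp hb
    rw [← IsScalarTower.algebraMap_apply] at hcb
    have hcu : IsUnit (algebraMap A K c) := by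
      rw [← Φ.commutes]
      exact ((isUnit_saturation hE (⊥ : Subalgebra A E) c hc).map (saturation _).val).map Φ
    refine hcu.mul_left_cancel ?_
    have h1 := congrArg Φ hcb
    have h2 := congrArg Ψ hcb
    rw [map_mul, Φ.commutes, Φ.commutes] at h1
    rw [map_mul, Ψ.commutes, Ψ.commutes] at h2
    rw [h1, h2]
  -- the ideal of differences
  obtain ⟨G, hG⟩ := (finite_toNormalization hA hE D : @Module.Finite D D₁ _ _
    (toNormalization D).toAlgebra.toModule).fg_top
  let gens : Finset D₁ := (Algebra.EssFiniteType.finset A D).image (toNormalization D) ∪ G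
  let J : Ideal S' := Ideal.span ((fun z => u z - v z) '' (gens : Set D₁))
  have hJfg : J.FG := ⟨gens.image (fun z => u z - v z), by rw [Finset.coe_image]⟩
  have hall : ∀ z, u z - v z ∈ J := by
    let q := Ideal.Quotient.mk J
    have hgen : ∀ z ∈ gens, q (u z) = q (v z) := fun z hz =>
      Ideal.Quotient.eq.mpr (Ideal.subset_span ⟨z, hz, rfl⟩)
    let f : D →ₐ[A] S' ⧸ J :=
      { (q.comp u).comp (toNormalization D) with
        commutes' := fun a => by
          show q (u (toNormalization D (algebraMap A D a))) = _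
          rw [huD]
          exact congrArg q (congrArg (algebraMap S S') (σ.commutes a)) |>.trans
            (congrArg q (IsScalarTower.algebraMap_apply A S S' a).symm) }
    let g : D →ₐ[A] S' ⧸ J :=
      { (q.comp v).comp (toNormalization D) with
        commutes' := fun a => by
          show q (v (toNormalization D (algebraMap A D a))) = _
          rw [hvD]
          exact congrArg q (congrArg (algebraMap S S') (τ.commutes a)) |>.trans
            (congrArg q (IsScalarTower.algebraMap_apply A S S' a).symm) }
    have hfg : f = g := Algebra.EssFiniteType.algHom_ext _ f g fun d hd =>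
      hgen _ (Finset.mem_union_left _ (Finset.mem_image_of_mem _ hd))
    intro z
    letI : Algebra D D₁ := (toNormalization D).toAlgebra
    have hz : z ∈ Submodule.span D (G : Set D₁) := hG.ge Submodule.mem_top
    refine Ideal.Quotient.eq.mp ?_
    induction hz using Submodule.span_induction with
    | mem z hz => exact hgen z (Finset.mem_union_right _ hz)
    | zero => simp only [map_zero]
    | add x y _ _ hx hy => simp only [map_add, hx, hy]
    | smul d x _ hx =>
      rw [show d • x = toNormalization D d * x from rfl]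
      simp only [map_mul, hx]
      exact congrArg (· * q (v x)) (DFunLike.congr_fun hfg d)
  -- the ideal of differences vanishes
  suffices hJ : J = ⊥ by
    intro d hd
    have h0 : u (toNormalization D ⟨d, hd⟩) - v (toNormalization D ⟨d, hd⟩) = 0 :=
      (Submodule.mem_bot S').mp (hJ ▸ hall _)
    rw [huD, hvD, sub_eq_zero] at h0
    exact IsFractionRing.injective S K (congrArg Subtype.val h0)
  by_contra hne
  obtain ⟨Q, hQ, hAnn⟩ := Ideal.exists_le_maximal J.annihilator (fun h => hne
    (Submodule.annihilator_eq_top_iff.mp h))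
  haveI := hQ
  have hQS : Q.comap (algebraMap S S') = maximalIdeal S :=
    IsLocalRing.eq_maximalIdeal (Ideal.isMaximal_comap_of_isIntegral_of_isMaximal (R := S) Q)
  -- pullbacks of `Q`
  have hmax : ∀ (φ : E →ₐ[A] S) (W : integralClosure E F →+* S'), IsLocalHom φ.toRingHom →
      (∀ e, W (algebraMap E _ e) = algebraMap S S' (φ e)) → (Q.comap W).IsMaximal := by
    intro φ W hφ hW
    haveI : (Q.comap W).IsPrime := Ideal.comap_isPrime _ _
    refine Ideal.isMaximal_of_isIntegral_of_isMaximal_comap (R := E) _ ?_
    have h1 : (Q.comap W).comap (algebraMap E _) = (Q.comap (algebraMap S S')).comap φ.toRingHom := by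
      rw [Ideal.comap_comap, Ideal.comap_comap]
      exact congrArg (fun f : E →+* S' => Ideal.comap f Q) (RingHom.ext hW)
    have h4 : (maximalIdeal S).comap φ.toRingHom = maximalIdeal E :=
      ((local_hom_TFAE φ.toRingHom).out 0 4).mp hφ
    rw [h1, hQS, h4]
    exact IsLocalRing.maximalIdeal.isMaximal _
  haveI hMU := hmax σ U ‹_› fun e => Subtype.ext (hΦ e)
  haveI hMV := hmax τ V ‹_› fun e => Subtype.ext (hΨ e)
  have hNU := isMaximal_comap_toAmbient D (Q.comap U)
  have hNV := isMaximal_comap_toAmbient D (Q.comap V)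
  have hmemQ : ∀ z, u z - v z ∈ Q := by
    intro z
    obtain ⟨ζ, hζ⟩ := hsurj (Ideal.Quotient.mkₐ A _ z)
    have hr : z - prodNorm D ζ ∈ Ideal.jacobson (⊥ : Ideal D₁) := Ideal.Quotient.eq.mp hζ.symm
    have h1 : u (z - prodNorm D ζ) ∈ Q := mem_jacobson_bot_iff_forall.mp hr _ hNU
    have h2 : v (z - prodNorm D ζ) ∈ Q := mem_jacobson_bot_iff_forall.mp hr _ hNV
    have h3 : ∀ ζ, u (prodNorm D ζ) - v (prodNorm D ζ) ∈ Q := by
      intro ζ
      induction ζ using TensorProduct.induction_on with
      | zero => simp
      | tmul a d =>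
        have he : prodNorm D (a ⊗ₜ d) = incl a * toNormalization D d := rfl
        rw [he, map_mul, map_mul, hbase, ← mul_sub, huD, hvD, ← map_sub]
        exact Q.mul_mem_left _ (hQS.ge (hres d d.2))
      | add x y hx hy =>
        rw [map_add, map_add, map_add, add_sub_add_comm]
        exact add_mem hx hy
    rw [show u z - v z = u (z - prodNorm D ζ) - v (z - prodNorm D ζ) +
      (u (prodNorm D ζ) - v (prodNorm D ζ)) by rw [map_sub, map_sub]; ring]
    exact add_mem (sub_mem h1 h2) (h3 ζ)
  have hJQ : J ≤ Q := Ideal.span_le.mpr (by rintro _ ⟨z, -, rfl⟩; exact hmemQ z)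
  -- elements killed to first order
  let Good : D₁ → Prop := fun z => ∃ t, t ∉ Q ∧ t * (u z - v z) ∈ Q * J
  have hadd : ∀ x y, Good x → Good y → Good (x + y) := by
    rintro x y ⟨s, hs, hsx⟩ ⟨t, ht, hty⟩
    refine ⟨s * t, fun h => (hQ.isPrime.mem_or_mem h).elim hs ht, ?_⟩
    rw [map_add, map_add, show s * t * (u x + u y - (v x + v y)) =
      t * (s * (u x - v x)) + s * (t * (u y - v y)) by ring]
    exact add_mem (Ideal.mul_mem_left _ _ hsx) (Ideal.mul_mem_left _ _ hty)
  have hmul : ∀ x y, Good x → Good y → Good (x * y) := by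
    rintro x y ⟨s, hs, hsx⟩ ⟨t, ht, hty⟩
    refine ⟨s * t, fun h => (hQ.isPrime.mem_or_mem h).elim hs ht, ?_⟩
    rw [map_mul, map_mul, show s * t * (u x * u y - v x * v y) =
      t * u y * (s * (u x - v x)) + s * v x * (t * (u y - v y)) by ring]
    exact add_mem (Ideal.mul_mem_left _ _ hsx) (Ideal.mul_mem_left _ _ hty)
  have hgoodN : ∀ z, u z ∈ Q → Good z := by
    intro z hz
    obtain ⟨s, hs, hsz⟩ := exists_mul_mem_map hE D (Q.comap U) (z := z) hz
    have key : ∀ x ∈ ((Q.comap U).comap (toAmbient (⊥ : Subalgebra A E))).map incl,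
        u x - v x ∈ Q * J := by
      intro x hx
      refine Submodule.span_induction ?_ ?_ ?_ ?_ hx
      · rintro _ ⟨a, -, rfl⟩
        rw [hbase, sub_self]; exact zero_mem _
      · simp
      · intro x y _ _ hx hy
        rw [map_add, map_add, add_sub_add_comm]; exact add_mem hx hy
      · intro y x hx' hx
        rw [smul_eq_mul, map_mul, map_mul, show u y * u x - v y * v x =
          u x * (u y - v y) + v y * (u x - v x) by ring]
        refine add_mem (Ideal.mul_mem_mul ?_ (hall y)) (Ideal.mul_mem_left _ _ hx)
        have hN : x ∈ Q.comap u := by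
          refine (Ideal.map_le_iff_le_comap.mpr fun a ha => ?_ :
            ((Q.comap U).comap (toAmbient (⊥ : Subalgebra A E))).map incl ≤ Q.comap u) hx'
          exact ha
        exact hN
    refine ⟨u s, hs, ?_⟩
    have h1 := key _ hsz
    rw [map_mul, map_mul] at h1
    rw [show u s * (u z - v z) = (u s * u z - v s * v z) - v z * (u s - v s) by ring]
    refine sub_mem h1 (Ideal.mul_mem_mul ?_ (hall s))
    have := sub_mem hz (hmemQ z)
    rwa [sub_sub_cancel] at this
  have hgoodD : ∀ d : D, Good (toNormalization D d) := by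
    intro d
    haveI := isLocalHom hE
    haveI : IsLocalHom (algebraMap A D) :=
      ⟨fun a ha => IsUnit.of_map (algebraMap A E) a (ha.map (algebraMap D E))⟩
    haveI : Algebra.IsSeparable (ResidueField A) (ResidueField D) := isSeparable_residue hE D
    let c := residue D d
    have hint : IsIntegral (ResidueField A) c := Algebra.IsSeparable.isIntegral _ c
    obtain ⟨P, hP, -, hPm⟩ := Polynomial.lifts_and_degree_eq_and_monic
      (Polynomial.map_surjective (residue A) residue_surjective (minpoly (ResidueField A) c) |>.elim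
        fun g hg => (⟨g, hg⟩ : minpoly (ResidueField A) c ∈ Polynomial.lifts (residue A)))
      (minpoly.monic hint)
    have hPd : ∀ p : Polynomial A, residue D (Polynomial.aeval d p) =
        Polynomial.aeval c (p.map (residue A)) := fun p => by
      have h1 := Polynomial.aeval_algHom_apply (IsScalarTower.toAlgHom A D (ResidueField D)) d p
      rw [show Polynomial.map (residue A) p = p.map (algebraMap A (ResidueField A)) from rfl,
        Polynomial.aeval_map_algebraMap]
      exact h1.symm
    have hPm' : Polynomial.aeval d P ∈ maximalIdeal D := by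
      rw [← residue_eq_zero_iff, hPd, hP, minpoly.aeval]
    have hP' : IsUnit (Polynomial.aeval d P.derivative) := by
      rw [← residue_ne_zero_iff_isUnit, hPd, ← Polynomial.derivative_map, hP]
      exact (Algebra.IsSeparable.isSeparable (ResidueField A) c).aeval_derivative_ne_zero (minpoly.aeval _ c)
    obtain ⟨t, ht, htd⟩ := hgoodN (toNormalization D (Polynomial.aeval d P)) (by
      rw [huD]
      refine (hQS.ge ?_ : σ ((Polynomial.aeval d P : D) : E) ∈ Q.comap (algebraMap S S'))
      rw [mem_maximalIdeal, mem_nonunits_iff] at hPm' ⊢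
      exact fun h => hPm' (IsUnit.of_map (algebraMap D E) _ (IsUnit.of_map σ.toRingHom _ h)))
    have hcomm : ∀ (φ : E →ₐ[A] S) (p : Polynomial A),
        algebraMap S S' (φ ((Polynomial.aeval d p : D) : E)) =
          (p.map (algebraMap A S')).eval (algebraMap S S' (φ d)) := fun φ p => by
      have h1 := Polynomial.aeval_algHom_apply (((IsScalarTower.toAlgHom A S S').comp φ).comp D.val) d p
      rw [Polynomial.eval_map, ← Polynomial.aeval_def]
      exact h1.symm
    rw [huD, hvD, hcomm, hcomm] at htd
    let x := algebraMap S S' (σ d)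
    let y := algebraMap S S' (τ d)
    obtain ⟨k, hk⟩ := (P.map (algebraMap A S')).binomExpansion y (x - y)
    have hxy : x - y ∈ J := by simpa only [huD, hvD] using hall (toNormalization D d)
    refine ⟨t * algebraMap S S' (τ (Polynomial.aeval d P.derivative : D)), ?_, ?_⟩
    · intro h
      rcases hQ.isPrime.mem_or_mem h with h | h
      · exact ht h
      · exact hQ.ne_top (Ideal.eq_top_of_isUnit_mem _ h
          (((hP'.map (algebraMap D E)).map τ).map (algebraMap S S')))
    · rw [huD, hvD, hcomm, ← Polynomial.derivative_map]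
      show t * _ * (x - y) ∈ _
      rw [add_sub_cancel] at hk
      rw [show t * (Polynomial.derivative (P.map (algebraMap A S'))).eval y * (x - y) =
        t * ((P.map (algebraMap A S')).eval x - (P.map (algebraMap A S')).eval y) -
          t * k * ((x - y) * (x - y)) by rw [hk]; ring]
      exact sub_mem htd (Ideal.mul_mem_left _ _ (Ideal.mul_mem_mul (hJQ hxy) hxy))
  have hgood : ∀ z, Good z := by
    intro z
    obtain ⟨ζ, hζ⟩ := hsurj (Ideal.Quotient.mkₐ A _ z)
    have hr : z - prodNorm D ζ ∈ Ideal.jacobson (⊥ : Ideal D₁) := Ideal.Quotient.eq.mp hζ.symm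
    rw [show z = (z - prodNorm D ζ) + prodNorm D ζ from (sub_add_cancel z _).symm]
    refine hadd _ _ (hgoodN _ (mem_jacobson_bot_iff_forall.mp hr _ hNU)) ?_
    clear hr hζ
    induction ζ using TensorProduct.induction_on with
    | zero => exact ⟨1, (Ideal.ne_top_iff_one Q).mp hQ.ne_top, by simp⟩
    | tmul a d =>
      exact hmul _ _ ⟨1, (Ideal.ne_top_iff_one Q).mp hQ.ne_top, by
        show 1 * (u (incl a) - v (incl a)) ∈ _
        rw [hbase, sub_self, mul_zero]; exact zero_mem _⟩ (hgoodD d)
    | add x y hx hy => rw [map_add]; exact hadd _ _ hx hy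
  -- Nakayama
  choose tz htz htzJ using hgood
  let t := ∏ z ∈ gens, tz z
  have ht : t ∉ Q := fun h => by
    obtain ⟨z, -, hzQ⟩ := (hQ.isPrime.prod_mem_iff).mp h
    exact htz z hzQ
  have htJ : ∀ x ∈ J, t * x ∈ Q * J := by
    intro x hx
    refine Submodule.span_induction ?_ ?_ ?_ ?_ hx
    · rintro _ ⟨z, hz, rfl⟩
      show (∏ z ∈ gens, tz z) * _ ∈ _
      rw [← Finset.prod_erase_mul gens tz hz, mul_assoc]
      exact Ideal.mul_mem_left _ _ (htzJ z)
    · simp
    · intro x y _ _ hx hy
      rw [mul_add]; exact add_mem hx hy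
    · intro c x _ hx
      rw [smul_eq_mul, mul_left_comm]; exact Ideal.mul_mem_left _ _ hx
  have hle : J ≤ Q • J := fun x hx => by
    rw [smul_eq_mul]
    have h1 : (1 : S') ∈ Q ⊔ Ideal.span {t} := by
      have : Q ⊔ Ideal.span {t} = ⊤ := by
        by_contra hne'
        exact ht ((hQ.eq_of_le hne' le_sup_left).ge
          ((le_sup_right (a := Q)) (Ideal.subset_span (Set.mem_singleton t))))
      rw [this]; trivial
    obtain ⟨q, hq, r, hr, hqr⟩ := Submodule.mem_sup.mp h1
    obtain ⟨c, rfl⟩ := Ideal.mem_span_singleton'.mp hr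
    rw [← one_mul x, ← hqr, add_mul, mul_assoc]
    exact add_mem (Ideal.mul_mem_mul hq hx) (Ideal.mul_mem_left _ _ (htJ x hx))
  obtain ⟨r, hr1, hr0⟩ := Submodule.exists_sub_one_mem_and_smul_eq_zero_of_fg_of_le_smul Q J hJfg hle
  have hrQ : r ∈ Q := hAnn (Submodule.mem_annihilator.mpr hr0)
  exact hQ.ne_top ((Ideal.eq_top_iff_one Q).mpr (by simpa using sub_mem hrQ hr1))

end Strict

/-- Minimal generators of an ideal only have relations in the maximal ideal. -/
theorem exists_minimal_generators {R : Type u} [CommRing R] [IsLocalRing R] {I : Ideal R} (hI : I.FG) :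
    ∃ (n : ℕ) (f : Fin n → R), Ideal.span (Set.range f) = I ∧
      ∀ a : Fin n → R, ∑ i, f i * a i = 0 → ∀ i, a i ∈ maximalIdeal R := by
  classical
  have hex : ∃ n, ∃ f : Fin n → R, Ideal.span (Set.range f) = I :=
    Submodule.fg_iff_exists_fin_generating_family.mp hI
  obtain ⟨f, hf⟩ := Nat.find_spec hex
  refine ⟨_, f, hf, fun a ha i => ?_⟩
  by_contra hu
  rw [mem_maximalIdeal, mem_nonunits_iff, not_not] at hu
  have hfi : f i ∈ Ideal.span (f '' {j | j ≠ i}) := by
    rw [← Finset.add_sum_erase _ _ (Finset.mem_univ i)] at ha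
    rw [← Ideal.mul_unit_mem_iff_mem _ hu, eq_neg_of_add_eq_zero_left ha]
    exact neg_mem (sum_mem fun j hj => Ideal.mul_mem_right _ _
      (Ideal.subset_span ⟨j, Finset.ne_of_mem_erase hj, rfl⟩))
  have hcard : Fintype.card {j // j ≠ i} < Nat.find hex := by
    have := Fintype.card_subtype_lt (p := fun j => j ≠ i) (x := i) (by simp)
    rwa [Fintype.card_fin] at this
  refine Nat.find_min hex hcard ⟨fun k => f ((Fintype.equivFin {j // j ≠ i}).symm k).1, ?_⟩
  refine le_antisymm (Ideal.span_le.mpr ?_) (le_trans hf.ge (Ideal.span_le.mpr ?_))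
  · rintro _ ⟨k, rfl⟩
    exact hf.le (Ideal.subset_span ⟨_, rfl⟩)
  · rintro _ ⟨j, rfl⟩
    have hr : f '' {j | j ≠ i} ⊆ Set.range fun k => f ((Fintype.equivFin {j // j ≠ i}).symm k).1 := by
      rintro _ ⟨l, hl, rfl⟩
      exact ⟨Fintype.equivFin _ ⟨l, hl⟩, by simp⟩
    rcases eq_or_ne j i with rfl | hj
    · exact Ideal.span_mono hr hfi
    · exact Ideal.subset_span (hr ⟨j, hj, rfl⟩)

/-- An element fixed residually by all embeddings into a separably closed field comes from below. -/
theorem exists_algHom_ne {K L M : Type u} [Field K] [Field L] [Field M] [Algebra K L] [Algebra K M]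
    [IsSepClosed M] [Algebra.IsSeparable K L] (f₀ : L →ₐ[K] M) {c : L}
    (hc : c ∉ (algebraMap K L).range) : ∃ τ : L →ₐ[K] M, τ c ≠ f₀ c := by
  classical
  have hint : IsIntegral K c := Algebra.IsSeparable.isIntegral K c
  have hsep : (minpoly K c).Separable := Algebra.IsSeparable.isSeparable K c
  have hspl : ((minpoly K c).map (algebraMap K M)).Splits := IsSepClosed.splits_codomain _ hsep
  have hdeg : 1 < ((minpoly K c).map (algebraMap K M)).natDegree := by
    rw [Polynomial.natDegree_map]
    by_contra h
    exact hc (minpoly.natDegree_eq_one_iff.mp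
      (le_antisymm (not_lt.mp h) (minpoly.natDegree_pos hint)))
  have hnd : ((minpoly K c).map (algebraMap K M)).roots.Nodup :=
    Polynomial.nodup_roots hsep.map
  rw [hspl.natDegree_eq_card_roots, ← Multiset.toFinset_card_of_nodup hnd,
    Finset.one_lt_card_iff] at hdeg
  obtain ⟨y₁, y₂, h1, h2, hne⟩ := hdeg
  obtain ⟨y, hy, hyne⟩ : ∃ y ∈ ((minpoly K c).map (algebraMap K M)).roots.toFinset, y ≠ f₀ c := by
    rcases eq_or_ne y₁ (f₀ c) with rfl | h
    · exact ⟨y₂, h2, hne.symm⟩
    · exact ⟨y₁, h1, h⟩
  rw [Multiset.mem_toFinset, Polynomial.mem_roots', Polynomial.IsRoot, Polynomial.eval_map,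
    ← Polynomial.aeval_def] at hy
  obtain ⟨τ, hτ⟩ := IntermediateField.exists_algHom_of_splits_of_aeval (K := M) (x := c)
    (fun s : L => ⟨Algebra.IsSeparable.isIntegral K s,
      IsSepClosed.splits_codomain _ (Algebra.IsSeparable.isSeparable K s)⟩) hy.2
  exact ⟨τ, hτ.trans_ne hyne⟩

section Main

variable {A S : Type u} [CommRing A] [IsLocalRing A] [IsReduced A] [IsNoetherianRing A]
  [CommRing S] [IsLocalRing S] [Algebra A S] [IsLocalHom (algebraMap A S)]
  [Hensel.IsStrictHenselization A S]

/-- Residual bijectivity of normalizations implies essential etaleness. -/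
theorem of_normalization (hA : CAlg.IsNagata A) {E : Subalgebra A S} [IsLocalRing E]
    [IsLocalHom (algebraMap E S)] (hE : EGA4loc.IsEssentiallyEtale A E)
    (D : Subalgebra A E) [IsLocalRing D] [IsLocalHom (algebraMap D E)]
    (hfinD : {N : Ideal (normalization D) | N.IsMaximal}.Finite)
    (hsurj : Function.Surjective (resNorm D))
    (hker : fibreIdeal A E D ≤ RingHom.ker (resNorm D)) :
    EGA4loc.IsEssentiallyEtale A D := by
  classical
  haveI : HenselianLocalRing S := Hensel.IsStrictHenselization.henselian (R := A)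
  haveI : IsSepClosed (ResidueField S) :=
    (Hensel.IsStrictHenselization.isSepClosure (R := A) (S := S)).sep_closed
  haveI := flat_strict (A := A) S
  haveI := isLocalHom hE
  haveI := flat hE
  obtain ⟨hunit, hover⟩ := inverse_and_lies_over hA hE D hfinD hsurj hker
  haveI := essFiniteType_of_normalization hA hE D hunit
  haveI : IsLocalHom (algebraMap A D) :=
    ⟨fun a ha => IsUnit.of_map (algebraMap A E) a (ha.map (algebraMap D E))⟩
  obtain ⟨c, hc⟩ := exists_pow_le_map hA hE D hover
  haveI := isSeparable_residue hE D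
  haveI := formallyUnramified hE
  haveI := essFiniteType hE
  haveI : IsScalarTower (ResidueField A) (ResidueField D) (ResidueField E) :=
    IsScalarTower.of_algebraMap_eq fun x => by
      obtain ⟨a, rfl⟩ := IsLocalRing.residue_surjective x
      rfl
  haveI : Algebra.IsSeparable (ResidueField D) (ResidueField E) :=
    Algebra.isSeparable_tower_top_of_isSeparable (ResidueField A) _ _
  let ι : ResidueField E →+* ResidueField S := ResidueField.map (algebraMap E S)
  letI : Algebra (ResidueField D) (ResidueField S) :=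
    (ι.comp (algebraMap (ResidueField D) (ResidueField E))).toAlgebra
  let f₀ : ResidueField E →ₐ[ResidueField D] ResidueField S := { ι with commutes' := fun _ => rfl }
  -- residues fixed by all points
  have hfix : ∀ e : E, (∀ σ : E →ₐ[A] S, IsLocalHom σ.toRingHom → (∀ d ∈ D, σ d = (d : S)) →
      σ e - (e : S) ∈ maximalIdeal S) → ∃ d : D, e - d ∈ maximalIdeal E := by
    intro e he
    by_contra hnot
    have hc' : residue E e ∉ (algebraMap (ResidueField D) (ResidueField E)).range := by
      rintro ⟨x, hx⟩
      obtain ⟨d, rfl⟩ := IsLocalRing.residue_surjective x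
      exact hnot ⟨d, (residue_eq_zero_iff _).mp (by rw [map_sub, ← hx]; exact sub_self _)⟩
    obtain ⟨τ, hτ⟩ := exists_algHom_ne f₀ hc'
    obtain ⟨σ, ⟨hσl, hσA, hσr⟩, -⟩ := Groth.Agent.HenselLib.EssEtMaps.existsUnique_lift hE S
      (algebraMap A S) τ.toRingHom (RingHom.ext fun x => by
        obtain ⟨a, rfl⟩ := IsLocalRing.residue_surjective x
        exact τ.commutes (residue D (algebraMap A D a)))
    let σ' : E →ₐ[A] S := { σ with commutes' := fun a => RingHom.congr_fun hσA a }
    haveI : IsLocalHom σ'.toRingHom := hσl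
    haveI : IsLocalHom E.val.toRingHom := ‹IsLocalHom (algebraMap E S)›
    have hres : ∀ d ∈ D, σ' d - E.val d ∈ maximalIdeal S := fun d hd => by
      rw [← residue_eq_zero_iff, map_sub, sub_eq_zero]
      exact (hσr d).trans (τ.commutes (residue D ⟨d, hd⟩))
    have h1 := he σ' ‹_› (eq_on_of_residue hA hE D hsurj σ' E.val hres)
    rw [← residue_eq_zero_iff, map_sub, sub_eq_zero] at h1
    exact hτ ((hσr e).symm.trans h1)
  -- successive approximation
  have key : ∀ (j : ℕ) (d : D), (d : E) ∈ maximalIdeal E →
      ∃ d' ∈ (maximalIdeal A).map (algebraMap A D),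
        ((d - d' : D) : E) ∈ (maximalIdeal A ^ (j + 1)).map (algebraMap A E) := by
    intro j
    induction j with
    | zero =>
      intro d hd
      refine ⟨0, zero_mem _, ?_⟩
      rw [sub_zero, zero_add, pow_one, map_maximalIdeal hE]
      exact hd
    | succ j ih =>
      intro d hd
      obtain ⟨d', hd', hy⟩ := ih d hd
      obtain ⟨n, f, hf, hrel⟩ := exists_minimal_generators
        (IsNoetherian.noetherian (maximalIdeal A ^ (j + 1)))
      rw [← hf, Ideal.map_span, ← Set.range_comp, Ideal.mem_span_range_iff_exists_fun] at hy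
      obtain ⟨e, he⟩ := hy
      have hres : ∀ i, ∃ di : D, e i - di ∈ maximalIdeal E := fun i => hfix (e i) fun σ hσ hσD => by
        have h0 : ∑ k, f k • (σ (e k) - (e k : S)) = 0 := by
          have h1 : σ ((d - d' : D) : E) = (((d - d' : D) : E) : S) := hσD _ (d - d').2
          rw [← he, map_sum] at h1
          simp only [map_mul, Function.comp_apply, σ.commutes] at h1
          simp only [Algebra.smul_def, mul_sub, Finset.sum_sub_distrib]
          rw [sub_eq_zero]
          refine (Finset.sum_congr rfl fun k _ => mul_comm _ _).trans (h1.trans ?_)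
          rw [← E.val_apply, map_sum]
          exact Finset.sum_congr rfl fun k _ => mul_comm _ _
        obtain ⟨m, a, y, hxy, hfa⟩ := Module.Flat.isTrivialRelation_of_sum_smul_eq_zero (R := A) (M := S) (f := f)
          (x := fun k => σ (e k) - (e k : S)) h0
        rw [show σ (e i) - (e i : S) = _ from hxy i]
        refine sum_mem fun l _ => ?_
        rw [Algebra.smul_def]
        refine Ideal.mul_mem_right _ _ ?_
        have h2 := hrel (fun k => a k l) (hfa l) i
        rw [mem_maximalIdeal, mem_nonunits_iff] at h2 ⊢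
        exact fun h => h2 (IsUnit.of_map (algebraMap A S) _ h)
      choose di hdi using hres
      let δ : D := ∑ k, di k * algebraMap A D (f k)
      refine ⟨d' + δ, add_mem hd' (sum_mem fun k _ => Ideal.mul_mem_left _ _ ?_), ?_⟩
      · refine Ideal.mem_map_of_mem _ (Ideal.pow_le_self (Nat.succ_ne_zero j) ?_)
        rw [← hf]
        exact Ideal.subset_span ⟨k, rfl⟩
      · rw [← sub_sub, AddSubgroupClass.coe_sub, ← he,
          show ((δ : D) : E) = ∑ k, (di k : E) * algebraMap A E (f k) by simp [δ], ← Finset.sum_sub_distrib,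
          pow_succ, Ideal.map_mul, map_maximalIdeal hE]
        refine sum_mem fun k _ => ?_
        rw [Function.comp_apply, ← sub_mul, mul_comm (e k - (di k : E))]
        exact Ideal.mul_mem_mul (Ideal.mem_map_of_mem _ (hf.le (Ideal.subset_span ⟨k, rfl⟩))) (hdi k)
  have hm : (maximalIdeal A).map (algebraMap A D) = maximalIdeal D := by
    refine le_antisymm (((local_hom_TFAE (algebraMap A D)).out 0 2).mp ‹_›) fun d hd => ?_
    have hdE : (d : E) ∈ maximalIdeal E := by
      rw [mem_maximalIdeal, mem_nonunits_iff] at hd ⊢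
      exact fun h => hd (IsUnit.of_map (algebraMap D E) _ h)
    obtain ⟨d', hd', hdd⟩ := key c d hdE
    simpa using add_mem (hc (d - d') hdd) hd'
  haveI : Algebra.FormallyUnramified A D := Algebra.FormallyUnramified.of_map_maximalIdeal hm
  haveI : IsLocalHom D.val.toRingHom := ‹IsLocalHom (algebraMap D E)›
  exact of_unramified D.val Subtype.val_injective

end Main

end Groth.Agent.EssEt6
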