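import Groth.Agent.EssEt6.Birational
import Groth.Agent.FlatCrit.Tor
import Mathlib.RingTheory.Polynomial.Basic

/-!
# Subalgebras with trivial closed fibre: flatness and inverses in the normalization
-/

set_option autoImplicit false
set_option linter.style.haveILetI false

universe u

open nonZeroDivisors IsLocalRing
open scoped TensorProduct

namespace Groth.Agent.EssEt6

/-- Critère de platitude par fibres, with trivial closed fibre. -/
theorem faithfullyFlat_of_map_eq {A D E : Type u} [CommRing A] [IsLocalRing A] [CommRing D]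
    [IsLocalRing D] [IsNoetherianRing D] [CommRing E] [IsLocalRing E] [IsNoetherianRing E]
    [Algebra A D] [Algebra D E] [Algebra A E] [IsScalarTower A D E] [IsLocalHom (algebraMap D E)]
    [Module.Flat A E] (hm : (maximalIdeal A).map (algebraMap A D) = maximalIdeal D) :
    Module.FaithfullyFlat D E := by
  let m := maximalIdeal A
  let mD := maximalIdeal D
  have hmem : ∀ a : m, algebraMap A D a ∈ mD := fun a =>
    hm.le (Ideal.mem_map_of_mem (algebraMap A D) a.2)
  let ρ : m ⊗[A] E →ₗ[A] mD ⊗[D] E := TensorProduct.lift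
    (LinearMap.mk₂ A (fun a e => (⟨algebraMap A D a, hmem a⟩ : mD) ⊗ₜ[D] e)
      (fun a b e => by rw [← TensorProduct.add_tmul]; congr 1; exact Subtype.ext (map_add _ _ _))
      (fun c a e => by
        rw [TensorProduct.smul_tmul']; congr 1
        exact Subtype.ext (by simp [Algebra.smul_def]))
      (fun a e f => by rw [TensorProduct.tmul_add])
      (fun c a e => by rw [TensorProduct.tmul_smul]))
  have hρ : Function.Surjective ρ := by
    intro z
    induction z using TensorProduct.induction_on with
    | zero => exact ⟨0, map_zero _⟩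
    | add x y hx hy =>
      obtain ⟨x', rfl⟩ := hx
      obtain ⟨y', rfl⟩ := hy
      exact ⟨x' + y', map_add _ _ _⟩
    | tmul x e =>
      obtain ⟨x, hx⟩ := x
      have hx' : x ∈ (maximalIdeal A).map (algebraMap A D) := hm.ge hx
      induction hx' using Submodule.span_induction generalizing e with
      | mem x hx' =>
        obtain ⟨a, ha, rfl⟩ := hx'
        exact ⟨⟨a, ha⟩ ⊗ₜ e, rfl⟩
      | zero =>
        refine ⟨0, ?_⟩
        rw [map_zero, show (⟨0, hx⟩ : mD) = 0 from rfl, TensorProduct.zero_tmul]
      | add x y hxs hys ihx ihy =>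
        obtain ⟨u, hu⟩ := ihx e (hm.le hxs)
        obtain ⟨v, hv⟩ := ihy e (hm.le hys)
        refine ⟨u + v, ?_⟩
        rw [map_add, hu, hv, ← TensorProduct.add_tmul]
        rfl
      | smul d x hxs ih =>
        obtain ⟨u, hu⟩ := ih (d • e) (hm.le hxs)
        refine ⟨u, ?_⟩
        rw [hu, TensorProduct.tmul_smul, TensorProduct.smul_tmul']
        rfl
  have h1 : Function.Injective (mD.subtype.rTensor E) := by
    rw [injective_iff_map_eq_zero]
    intro z hz
    obtain ⟨w, rfl⟩ := hρ z
    have key : ∀ w, TensorProduct.lid D E (mD.subtype.rTensor E (ρ w)) =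
        TensorProduct.lid A E (m.subtype.rTensor E w) := by
      intro w
      induction w using TensorProduct.induction_on with
      | zero => simp
      | tmul a e => simp [ρ, IsScalarTower.algebraMap_smul]
      | add x y hx hy => simp only [map_add, hx, hy]
    have h0 : m.subtype.rTensor E w = 0 := (TensorProduct.lid A E).injective (by
      rw [← key, hz, map_zero, map_zero])
    have hw : w = 0 := Module.Flat.rTensor_preserves_injective_linearMap m.subtype
      Subtype.val_injective (h0.trans (map_zero _).symm)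
    rw [hw, map_zero]
  have hle : mD.map (algebraMap D E) ≤ maximalIdeal E :=
    ((local_hom_TFAE (algebraMap D E)).out 0 2).mp ‹_›
  have hjac : mD.map (algebraMap D E) ≤ Ideal.jacobson ⊥ := by
    rwa [jacobson_eq_maximalIdeal ⊥ bot_ne_top]
  haveI : Module.Flat D E := FlatCrit.flat_of_rTensor_injective (S := E) mD hjac h1 (FlatCrit.quotFlat_of_field mD)
  exact Module.FaithfullyFlat.of_flat_of_isLocalHom

variable {A E : Type u} [CommRing A] [IsLocalRing A] [CommRing E] [Algebra A E]

/-- Along a faithfully flat subalgebra, inverses in the normalization descend. -/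
theorem mem_normalization_of_mul_eq_one [IsReduced A] [Nontrivial E]
    (hfin : (minimalPrimes A).Finite) (hE : EGA4loc.IsEssentiallyEtale A E) (D : Subalgebra A E)
    [Module.FaithfullyFlat D E] {z w : FractionRing E} (hz : z ∈ normalization D)
    (hw : IsIntegral E w) (hzw : z * w = 1) : w ∈ normalization D := by
  classical
  let F := FractionRing E
  let L := saturation D
  haveI := (isArtinianRing_of_injective hfin hE L (isUnit_saturation hE D) L.val
    Subtype.val_injective).1
  let z' : L := ⟨z, hz.1⟩
  have hreg : z' ∈ L⁰ := by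
    rw [mem_nonZeroDivisors_iff_right]
    intro v hv
    have hv' : (v : F) * z = 0 := congrArg Subtype.val hv
    exact Subtype.ext ((IsUnit.of_mul_eq_one _ hzw).mul_left_eq_zero.mp hv')
  obtain ⟨v, hv⟩ := (IsArtinianRing.isUnit_of_mem_nonZeroDivisors hreg).exists_right_inv
  have hwv : w = (v : F) :=
    (IsUnit.of_mul_eq_one _ hzw).mul_left_cancel (hzw.trans (congrArg Subtype.val hv).symm)
  obtain ⟨a₂, ha₂, d, hd, hwd⟩ := (hwv.symm ▸ v.2 : w ∈ L)
  refine ⟨hwv.symm ▸ v.2, ?_⟩
  obtain ⟨a, ha, d₁, hd₁, hzd⟩ := hz.1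
  obtain ⟨p, hp, hpw⟩ := hw
  let n := p.natDegree
  have hn : n ≠ 0 := fun h0 => by
    haveI : Nontrivial F := (IsFractionRing.injective E F).nontrivial
    rw [Polynomial.eq_one_of_monic_natDegree_zero hp h0, Polynomial.eval₂_one] at hpw
    exact one_ne_zero hpw
  -- `w` is a combination of powers of `z`
  have hwsum : w = -∑ i ∈ Finset.range n, algebraMap E F (p.coeff i) * z ^ (n - 1 - i) := by
    have h0 : w ^ n + ∑ i ∈ Finset.range n, algebraMap E F (p.coeff i) * w ^ i = 0 := by
      rw [Polynomial.eval₂_eq_sum_range, Finset.sum_range_succ, hp.coeff_natDegree, map_one, one_mul,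
        add_comm] at hpw
      exact hpw
    have h1 := congrArg (· * z ^ (n - 1)) h0
    simp only [add_mul, Finset.sum_mul, zero_mul] at h1
    have h2 : w ^ n * z ^ (n - 1) = w := by
      conv_lhs => rw [show n = n - 1 + 1 by omega, pow_succ', Nat.add_sub_cancel, mul_assoc, ← mul_pow,
        mul_comm w z, hzw, one_pow, mul_one]
    have h3 : ∀ i ∈ Finset.range n, algebraMap E F (p.coeff i) * w ^ i * z ^ (n - 1) =
        algebraMap E F (p.coeff i) * z ^ (n - 1 - i) := fun i hi => by
      have hi' := Finset.mem_range.mp hi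
      have he : z ^ (n - 1) = z ^ i * z ^ (n - 1 - i) := by rw [← pow_add]; congr 1; omega
      rw [he, mul_assoc (algebraMap E F (p.coeff i)), ← mul_assoc (w ^ i), ← mul_pow, mul_comm w z,
        hzw, one_pow, one_mul]
    rw [h2, Finset.sum_congr rfl h3] at h1
    exact eq_neg_of_add_eq_zero_left h1
  -- clear denominators
  let c : ℕ → D := fun k => algebraMap A D (a₂ * a ^ (n - k)) * ⟨d₁, hd₁⟩ ^ k
  have hc : ∀ k ≤ n, algebraMap A F (a₂ * a ^ n) * z ^ k = algebraMap E F (c k : E) := fun k hk => by
    simp only [c, MulMemClass.coe_mul, SubmonoidClass.coe_pow, Subalgebra.coe_algebraMap, map_mul,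
      map_pow, ← IsScalarTower.algebraMap_apply]
    rw [← hzd, mul_pow, ← Nat.sub_add_cancel hk, pow_add, Nat.add_sub_cancel]
    ring
  let dw : D := algebraMap A D (a ^ n) * ⟨d, hd⟩
  have hdw : algebraMap A F (a₂ * a ^ n) * w = algebraMap E F (dw : E) := by
    simp only [dw, MulMemClass.coe_mul, SubmonoidClass.coe_pow, Subalgebra.coe_algebraMap, map_mul, map_pow,
      ← IsScalarTower.algebraMap_apply]
    rw [← hwd]; ring
  let I : Ideal D := Ideal.span (c '' Set.Iio n)
  have hI : dw ∈ I := by
    rw [← Ideal.comap_map_eq_self_of_faithfullyFlat (B := E) I, Ideal.mem_comap]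
    have h1 : (dw : E) = -∑ i ∈ Finset.range n, p.coeff i * (c (n - 1 - i) : E) := by
      refine IsFractionRing.injective E F ?_
      rw [← hdw, map_neg, map_sum, hwsum, mul_neg, Finset.mul_sum]
      refine congrArg _ (Finset.sum_congr rfl fun i hi => ?_)
      rw [map_mul (algebraMap E F), ← hc (n - 1 - i) ((Nat.sub_le _ _).trans (Nat.sub_le _ _))]; ring
    show (dw : E) ∈ _
    rw [h1]
    refine neg_mem (sum_mem fun i hi => Ideal.mul_mem_left _ _ ?_)
    exact Ideal.mem_map_of_mem (algebraMap D E) (Ideal.subset_span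
      (Set.mem_image_of_mem c (Set.mem_Iio.mpr (by have := Finset.mem_range.mp hi; omega))))
  have hu : IsUnit (algebraMap A F (a₂ * a ^ n)) :=
    (isUnit_saturation hE D _ (mul_mem ha₂ (pow_mem ha n))).map L.val
  have key : ∀ y ∈ I, ∃ r : F, IsIntegral D r ∧ algebraMap A F (a₂ * a ^ n) * r = algebraMap E F (y : E) := by
    intro y hy
    induction hy using Submodule.span_induction with
    | mem y hy =>
      obtain ⟨k, hk, rfl⟩ := hy
      exact ⟨z ^ k, (show IsIntegral D z from hz.2).pow k, hc k (le_of_lt hk)⟩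
    | zero => exact ⟨0, isIntegral_zero, by rw [mul_zero]; exact (map_zero _).symm⟩
    | add x y _ _ hx hy =>
      obtain ⟨r, hr, hrx⟩ := hx
      obtain ⟨s, hs, hsy⟩ := hy
      exact ⟨r + s, hr.add hs, by rw [mul_add, hrx, hsy, ← map_add]; rfl⟩
    | smul b y _ hy =>
      obtain ⟨r, hr, hry⟩ := hy
      refine ⟨algebraMap D F b * r, isIntegral_algebraMap.mul hr, ?_⟩
      rw [mul_left_comm, hry]
      exact (map_mul (algebraMap E F) (b : E) (y : E)).symm
  obtain ⟨r, hr, hrw⟩ := key dw hI
  rwa [hu.mul_left_cancel (hdw.trans hrw.symm)]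

end Groth.Agent.EssEt6
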