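import Groth.Agent.EssEt6.NormBase
import Groth.Agent.EssEt6.UnitTrick
import Mathlib.LinearAlgebra.TensorProduct.RightExactness
import Mathlib.RingTheory.TensorProduct.Pi

/-!
# Residue rings of normalizations of essentially etale algebras
-/

set_option autoImplicit false
set_option linter.style.haveILetI false
set_option maxSynthPendingDepth 6

universe u

open nonZeroDivisors IsLocalRing
open scoped TensorProduct

namespace Groth.Agent.EssEt6

variable {A E : Type u} [CommRing A] [IsLocalRing A] [CommRing E] [Algebra A E]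

variable (A E) in
/-- The normalization of the base inside the total ring of fractions of `E`. -/
noncomputable abbrev baseNorm : Subalgebra A (FractionRing E) := normalization (⊥ : Subalgebra A E)

/-- The inclusion of a subalgebra into its normalization, as an algebra map. -/
noncomputable def incNorm (D : Subalgebra A E) : D →ₐ[A] normalization D :=
  ((IsScalarTower.toAlgHom A E (FractionRing E)).comp D.val).codRestrict _
    fun d => algebraMap_mem_normalization d.2

/-- The canonical map into the normalization of a subalgebra. -/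
noncomputable def prodNorm (D : Subalgebra A E) : baseNorm A E ⊗[A] D →ₐ[A] normalization D :=
  Algebra.TensorProduct.productMap (Subalgebra.inclusion (normalization_mono bot_le)) (incNorm D)

/-- The canonical map to the residue ring of the normalization of a subalgebra. -/
noncomputable def resNorm (D : Subalgebra A E) :
    baseNorm A E ⊗[A] D →ₐ[A] normalization D ⧸ Ideal.jacobson (⊥ : Ideal (normalization D)) :=
  (Ideal.Quotient.mkₐ A (Ideal.jacobson (⊥ : Ideal (normalization D)))).comp (prodNorm D)

/-- The canonical map into the integral closure of `E`. -/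
noncomputable def prodTop : baseNorm A E ⊗[A] E →ₐ[A] (integralClosure E (FractionRing E)).restrictScalars A :=
  (tensorToFractions (⊥ : Subalgebra A E)).codRestrict _ (isIntegral_tensorToFractions ⊥)

/-- The ideal generated by the radical of the base and the maximal ideal. -/
noncomputable def fibreIdeal (A E B : Type u) [CommRing A] [IsLocalRing A] [CommRing E] [Algebra A E]
    [CommRing B] [IsLocalRing B] [Algebra A B] :
    Ideal (baseNorm A E ⊗[A] B) :=
  (Ideal.jacobson (⊥ : Ideal (baseNorm A E))).map
      (Algebra.TensorProduct.includeLeft : baseNorm A E →ₐ[A] baseNorm A E ⊗[A] B) ⊔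
    (maximalIdeal B).map (Algebra.TensorProduct.includeRight : B →ₐ[A] baseNorm A E ⊗[A] B)

/-- The map to the fibre ring. -/
noncomputable def fibreMap (A E B : Type u) [CommRing A] [IsLocalRing A] [CommRing E] [Algebra A E]
    [CommRing B] [IsLocalRing B] [Algebra A B] :
    baseNorm A E ⊗[A] B →ₐ[A] (baseNorm A E ⧸ Ideal.jacobson (⊥ : Ideal (baseNorm A E))) ⊗[A] ResidueField B :=
  Algebra.TensorProduct.map (Ideal.Quotient.mkₐ A _) (IsScalarTower.toAlgHom A B (ResidueField B))

theorem ker_fibreMap (B : Type u) [CommRing B] [IsLocalRing B] [Algebra A B] :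
    RingHom.ker (fibreMap A E B) = fibreIdeal A E B := by
  have h1 := Algebra.TensorProduct.map_ker (R := A) (S := A)
    (f := Ideal.Quotient.mkₐ A (Ideal.jacobson (⊥ : Ideal (baseNorm A E))))
    (g := IsScalarTower.toAlgHom A B (ResidueField B)) Ideal.Quotient.mk_surjective residue_surjective
  rw [fibreMap, h1, fibreIdeal]
  congr 2
  · exact Ideal.mk_ker
  · exact IsLocalRing.ker_residue

theorem surjective_fibreMap (B : Type u) [CommRing B] [IsLocalRing B] [Algebra A B] :
    Function.Surjective (fibreMap A E B) :=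
  TensorProduct.map_surjective (R := A) Ideal.Quotient.mk_surjective residue_surjective

/-- A finite product of fields stays reduced artinian under an unramified base change. -/
theorem isReduced_pi_fields_tensor {A k : Type u} [CommRing A] [CommRing k] [Algebra A k]
    [Algebra.FormallyUnramified A k] [Algebra.EssFiniteType A k] {ι : Type u} [Finite ι]
    (B : ι → Type u) [∀ i, Field (B i)] [∀ i, Algebra A (B i)] :
    IsReduced ((∀ i, B i) ⊗[A] k) ∧ IsArtinianRing ((∀ i, B i) ⊗[A] k) := by
  classical
  haveI := Fintype.ofFinite ι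
  let e := (Algebra.TensorProduct.comm A (∀ i, B i) k).trans (Algebra.TensorProduct.piRight A A k B)
  haveI : ∀ i, IsReduced (k ⊗[A] B i) := fun i => by
    haveI : IsReduced (B i ⊗[A] k) := Algebra.FormallyUnramified.isReduced_of_field (B i) _
    exact isReduced_of_injective (Algebra.TensorProduct.comm A k (B i)).toAlgHom
      (Algebra.TensorProduct.comm A k (B i)).injective
  haveI : ∀ i, IsArtinianRing (k ⊗[A] B i) := fun i => by
    haveI : Module.Finite (B i) (B i ⊗[A] k) := Algebra.FormallyUnramified.finite_of_free _ _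
    haveI : IsArtinianRing (B i ⊗[A] k) := IsArtinianRing.of_finite (B i) _
    exact (Algebra.TensorProduct.comm A (B i) k).toRingEquiv.surjective.isArtinianRing
  exact ⟨isReduced_of_injective e.toAlgHom e.injective, e.symm.toRingEquiv.surjective.isArtinianRing⟩

section Local

variable [IsLocalRing E]

theorem isLocalHom_bot (hE : EGA4loc.IsEssentiallyEtale A E) :
    IsLocalHom (algebraMap (⊥ : Subalgebra A E) E) := by
  haveI := isLocalHom hE
  refine ⟨fun z hz => ?_⟩
  obtain ⟨a, ha⟩ := Algebra.mem_bot.mp z.2
  have hu : IsUnit a := IsUnit.of_map (algebraMap A E) a (ha.symm ▸ hz)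
  rw [show z = algebraMap A (⊥ : Subalgebra A E) a from Subtype.ext ha.symm]
  exact hu.map _

theorem isMaximal_comap_toAmbient (D : Subalgebra A E) [IsLocalRing D] [IsLocalHom (algebraMap D E)]
    (M : Ideal (integralClosure E (FractionRing E))) [M.IsMaximal] :
    (M.comap (toAmbient D)).IsMaximal := by
  haveI : (M.comap (toAmbient D)).IsPrime := Ideal.comap_isPrime _ _
  refine Ideal.isMaximal_of_isIntegral_of_isMaximal_comap' (toNormalization D)
    (isIntegral_toNormalization D) _ ?_
  have hn : (M.comap (toAmbient D)).comap (toNormalization D) =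
      (M.comap (algebraMap E (integralClosure E (FractionRing E)))).comap (algebraMap D E) := by
    rw [Ideal.comap_comap, Ideal.comap_comap]
    rfl
  have h4 : (maximalIdeal E).comap (algebraMap D E) = maximalIdeal D :=
    ((local_hom_TFAE (algebraMap D E)).out 0 4).mp ‹_›
  rw [hn, IsLocalRing.eq_maximalIdeal
    (Ideal.isMaximal_comap_of_isIntegral_of_isMaximal (R := E) M), h4]
  exact IsLocalRing.maximalIdeal.isMaximal _

variable [IsNoetherianRing A] [IsReduced A]

theorem finite_maximal_baseNorm (hA : CAlg.IsNagata A) (hE : EGA4loc.IsEssentiallyEtale A E) :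
    {N : Ideal (baseNorm A E) | N.IsMaximal}.Finite := by
  haveI := isLocalHom_bot hE
  haveI : IsLocalRing (⊥ : Subalgebra A E) := isLocalRing_of_isLocalHom _
  haveI : Algebra.EssFiniteType A (⊥ : Subalgebra A E) :=
    Algebra.EssFiniteType.of_surjective (Algebra.ofId A (⊥ : Subalgebra A E)) fun z => by
      obtain ⟨a, ha⟩ := Algebra.mem_bot.mp z.2
      exact ⟨a, Subtype.ext ha⟩
  exact finite_maximal_normalization hA hE ⊥

theorem isArtinianRing_quotient_jacobson {R : Type u} [CommRing R]
    (hfin : {N : Ideal R | N.IsMaximal}.Finite) :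
    IsArtinianRing (R ⧸ Ideal.jacobson (⊥ : Ideal R)) := by
  haveI := hfin.to_subtype
  let f : {N : Ideal R | N.IsMaximal} → Ideal R := fun N => N.1
  have hcop : Pairwise (fun P Q => IsCoprime (f P) (f Q)) := fun P Q hne => by
    show IsCoprime (f P) (f Q)
    rw [Ideal.isCoprime_iff_sup_eq]
    exact P.2.coprime_of_ne Q.2 fun h => hne (Subtype.ext h)
  have hJ : Ideal.jacobson (⊥ : Ideal R) = ⨅ N, f N := by
    rw [Ideal.jacobson, show {J : Ideal R | ⊥ ≤ J ∧ J.IsMaximal} = {N | N.IsMaximal} by simp,
      sInf_eq_iInf']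
  haveI : ∀ N, IsArtinianRing (R ⧸ f N) := fun N => by
    haveI : (f N).IsMaximal := N.2
    letI := Ideal.Quotient.field (f N)
    infer_instance
  let e := (Ideal.quotEquivOfEq hJ).trans (Ideal.quotientInfRingEquivPiQuotient f hcop)
  exact e.symm.surjective.isArtinianRing

/-- The fibre ring is semisimple. -/
theorem jacobson_fibre (hA : CAlg.IsNagata A) (hE : EGA4loc.IsEssentiallyEtale A E) :
    Ideal.jacobson (⊥ : Ideal ((baseNorm A E ⧸ Ideal.jacobson (⊥ : Ideal (baseNorm A E))) ⊗[A] ResidueField E)) = ⊥ := by
  classical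
  let R := baseNorm A E
  haveI := (finite_maximal_baseNorm hA hE).to_subtype
  let f : {N : Ideal R | N.IsMaximal} → Ideal R := fun N => N.1
  have hcop : Pairwise (fun P Q => IsCoprime (f P) (f Q)) := fun P Q hne => by
    show IsCoprime (f P) (f Q)
    rw [Ideal.isCoprime_iff_sup_eq]
    exact P.2.coprime_of_ne Q.2 fun h => hne (Subtype.ext h)
  have hJ : Ideal.jacobson (⊥ : Ideal R) = ⨅ N, f N := by
    rw [Ideal.jacobson, show {J : Ideal R | ⊥ ≤ J ∧ J.IsMaximal} = {N | N.IsMaximal} by simp,
      sInf_eq_iInf']
  let g : (R ⧸ Ideal.jacobson (⊥ : Ideal R)) ≃ₐ[A] ((N : {N : Ideal R | N.IsMaximal}) → R ⧸ f N) :=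
    AlgEquiv.ofRingEquiv (f := (Ideal.quotEquivOfEq hJ).trans (Ideal.quotientInfRingEquivPiQuotient f hcop))
      fun a => funext fun N => rfl
  let k := ResidueField E
  haveI := formallyUnramified hE
  haveI := essFiniteType hE
  haveI : Algebra.FormallyUnramified A k :=
    Algebra.FormallyUnramified.of_surjective (IsScalarTower.toAlgHom A E k) residue_surjective
  haveI : Algebra.EssFiniteType A k :=
    Algebra.EssFiniteType.of_surjective (IsScalarTower.toAlgHom A E k) residue_surjective
  haveI : Fintype {N : Ideal R | N.IsMaximal} := Fintype.ofFinite _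
  obtain ⟨h1, h2⟩ := @isReduced_pi_fields_tensor A k _ _ _ _ _ {N : Ideal R | N.IsMaximal} _
    (fun N => R ⧸ f N) (fun N => by
      haveI : (f N).IsMaximal := N.2
      exact Ideal.Quotient.field (f N)) (fun N => Ideal.instAlgebraQuotient A (f N))
  let e := Algebra.TensorProduct.congr g (AlgEquiv.refl : k ≃ₐ[A] k)
  haveI := h1
  haveI := h2
  haveI : IsReduced ((R ⧸ Ideal.jacobson (⊥ : Ideal R)) ⊗[A] k) := isReduced_of_injective e.toAlgHom e.injective
  haveI : IsArtinianRing ((R ⧸ Ideal.jacobson (⊥ : Ideal R)) ⊗[A] k) :=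
    e.symm.toRingEquiv.surjective.isArtinianRing
  exact (IsArtinianRing.jacobson_eq_radical (⊥ : Ideal ((R ⧸ Ideal.jacobson (⊥ : Ideal R)) ⊗[A] k))).trans
    (nilradical_eq_zero ((R ⧸ Ideal.jacobson (⊥ : Ideal R)) ⊗[A] k))

/-- Normalization commutes with essentially etale extensions. -/
theorem bijective_prodTop (hE : EGA4loc.IsEssentiallyEtale A E) :
    Function.Bijective (prodTop (A := A) (E := E)) := by
  have hfin := minimalPrimes.finite_of_isNoetherianRing A
  haveI := flat hE
  haveI := isLocalization_fractionRing hfin hE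
  let F := FractionRing E
  refine ⟨fun x y hxy => ?_, fun z => ?_⟩
  · -- every element of the tensor product has a multiple in the image of `E`
    have key : ∀ ζ : baseNorm A E ⊗[A] E, ∃ a ∈ A⁰, ∃ e : E,
        algebraMap A (baseNorm A E ⊗[A] E) a * ζ = 1 ⊗ₜ e := by
      intro ζ
      induction ζ using TensorProduct.induction_on with
      | zero => exact ⟨1, one_mem _, 0, by rw [mul_zero, TensorProduct.tmul_zero]⟩
      | tmul r e =>
        obtain ⟨a, ha, d, hd, hr⟩ := r.2.1
        obtain ⟨b, hb⟩ := Algebra.mem_bot.mp hd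
        have hrb : algebraMap A (baseNorm A E) a * r = algebraMap A (baseNorm A E) b := Subtype.ext (by
          show algebraMap A F a * (r : F) = algebraMap A F b
          rw [hr, ← hb, ← IsScalarTower.algebraMap_apply])
        refine ⟨a, ha, b • e, ?_⟩
        rw [TensorProduct.tmul_smul, TensorProduct.smul_tmul', Algebra.TensorProduct.algebraMap_apply,
          Algebra.TensorProduct.tmul_mul_tmul, one_mul, hrb, Algebra.algebraMap_eq_smul_one]
      | add x y hx hy =>
        obtain ⟨a, ha, e, hae⟩ := hx
        obtain ⟨b, hb, e', hbe⟩ := hy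
        refine ⟨a * b, mul_mem ha hb, b • e + a • e', ?_⟩
        rw [TensorProduct.tmul_add, TensorProduct.tmul_smul, TensorProduct.tmul_smul, ← hae, ← hbe,
          map_mul, mul_add, mul_assoc, mul_assoc]
        refine congr (congrArg HAdd.hAdd ?_) ?_
        · exact (mul_left_comm _ _ _).trans (Algebra.smul_def b _).symm
        · exact (Algebra.smul_def a _).symm
    have hinj : ∀ ζ : baseNorm A E ⊗[A] E, prodTop ζ = 0 → ζ = 0 := by
      intro ζ hζ
      obtain ⟨a, ha, e, hae⟩ := key ζ
      have h1 : prodTop (algebraMap A (baseNorm A E ⊗[A] E) a * ζ) = 0 := by rw [map_mul, hζ, mul_zero]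
      rw [hae] at h1
      have h2 : algebraMap E F e = 0 := by
        have h3 : tensorToFractions (⊥ : Subalgebra A E) ((1 : baseNorm A E) ⊗ₜ e) = 0 :=
          congrArg Subtype.val h1
        rwa [tensorToFractions_tmul, OneMemClass.coe_one, one_mul] at h3
      rw [IsFractionRing.injective E F (h2.trans (map_zero _).symm), TensorProduct.tmul_zero] at hae
      -- multiplication by `a` is injective on the tensor product
      let μ : baseNorm A E →ₗ[A] baseNorm A E := a • LinearMap.id
      have hμ : Function.Injective μ := fun r s h => Subtype.ext <| by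
        have h' : a • (r : F) = a • (s : F) := congrArg Subtype.val h
        rw [Algebra.smul_def, Algebra.smul_def] at h'
        exact ((isUnit_saturation hE (⊥ : Subalgebra A E) a ha).map (saturation _).val).mul_left_cancel h'
      refine (Module.Flat.rTensor_preserves_injective_linearMap (M := E) μ hμ) ?_
      rw [map_zero, show μ.rTensor E = a • LinearMap.id by rw [LinearMap.rTensor_smul, LinearMap.rTensor_id]]
      show a • ζ = 0
      exact (Algebra.smul_def a ζ).trans hae
    exact sub_eq_zero.mp (hinj _ (by rw [map_sub, hxy, sub_self]))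
  · obtain ⟨ζ, hζ⟩ := exists_tensorToFractions_eq hfin hE (⊥ : Subalgebra A E) (x := (z : F)) z.2
    exact ⟨ζ, Subtype.ext hζ⟩

/-- The residue ring of the normalization of an essentially etale algebra. -/
theorem ker_prodTop (hA : CAlg.IsNagata A) (hE : EGA4loc.IsEssentiallyEtale A E) :
    (Ideal.jacobson (⊥ : Ideal ((integralClosure E (FractionRing E)).restrictScalars A))).comap
      (prodTop (A := A) (E := E)) = fibreIdeal A E E := by
  let θ := (prodTop (A := A) (E := E))
  haveI := isLocalHom_bot hE
  haveI : IsLocalRing (⊥ : Subalgebra A E) := isLocalRing_of_isLocalHom _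
  have hcj : Ideal.comap θ (Ideal.jacobson (⊥ : Ideal ((integralClosure E (FractionRing E)).restrictScalars A))) =
      Ideal.jacobson (⊥ : Ideal (baseNorm A E ⊗[A] E)) := by
    have h1 := Ideal.comap_jacobson_of_surjective (f := θ.toRingHom) (bijective_prodTop hE).2 (K := ⊥)
    have h2 : Ideal.comap θ.toRingHom ⊥ = ⊥ :=
      (RingHom.injective_iff_ker_eq_bot θ.toRingHom).mp (bijective_prodTop hE).1
    exact h1.trans (congrArg (fun I : Ideal (baseNorm A E ⊗[A] E) => Ideal.jacobson I) h2)
  rw [hcj]
  refine le_antisymm ?_ (sup_le ?_ ?_)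
  · rw [← ker_fibreMap, RingHom.ker_eq_comap_bot, ← jacobson_fibre hA hE]
    have h := Ideal.comap_jacobson_of_surjective (f := (fibreMap A E E).toRingHom) (surjective_fibreMap E)
      (K := (⊥ : Ideal ((baseNorm A E ⧸ Ideal.jacobson (⊥ : Ideal (baseNorm A E))) ⊗[A] ResidueField E)))
    exact (Ideal.jacobson_mono bot_le).trans h.ge
  all_goals
    refine Ideal.map_le_iff_le_comap.mpr fun r hr => ?_
    show _ ∈ Ideal.jacobson (⊥ : Ideal (baseNorm A E ⊗[A] E))
    rw [Ideal.jacobson, Submodule.mem_sInf]
    rintro (Q : Ideal (baseNorm A E ⊗[A] E)) ⟨-, hQ⟩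
    haveI := hQ
    let e := (AlgEquiv.ofBijective θ (bijective_prodTop hE)).toRingEquiv
    let M : Ideal (integralClosure E (FractionRing E)) := Q.comap e.symm.toRingHom
    haveI hM : M.IsMaximal := Ideal.comap_isMaximal_of_surjective e.symm.toRingHom e.symm.surjective
  · have hmax := isMaximal_comap_toAmbient (⊥ : Subalgebra A E) M
    have h1 : r ∈ M.comap (toAmbient (⊥ : Subalgebra A E)) :=
      (sInf_le ⟨bot_le, hmax⟩ : Ideal.jacobson (⊥ : Ideal (baseNorm A E)) ≤ _) hr
    have h2 : θ (r ⊗ₜ 1) = toAmbient (⊥ : Subalgebra A E) r := Subtype.ext (by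
      show tensorToFractions (⊥ : Subalgebra A E) (r ⊗ₜ 1) = (r : FractionRing E)
      rw [tensorToFractions_tmul, map_one, mul_one])
    have h3 : e.symm (θ (r ⊗ₜ 1)) ∈ Q := by rw [h2]; exact h1
    rwa [show e.symm (θ (r ⊗ₜ 1)) = r ⊗ₜ 1 from e.symm_apply_apply _] at h3
  · have hmax : (M.comap (algebraMap E (integralClosure E (FractionRing E)))).IsMaximal :=
      Ideal.isMaximal_comap_of_isIntegral_of_isMaximal (R := E) M
    have h1 : algebraMap E (integralClosure E (FractionRing E)) r ∈ M :=
      (IsLocalRing.eq_maximalIdeal hmax).ge hr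
    have h2 : θ ((1 : baseNorm A E) ⊗ₜ r) = algebraMap E (integralClosure E (FractionRing E)) r :=
      Subtype.ext (by
        show tensorToFractions (⊥ : Subalgebra A E) ((1 : baseNorm A E) ⊗ₜ r) = algebraMap E (FractionRing E) r
        rw [tensorToFractions_tmul, OneMemClass.coe_one, one_mul])
    have h3 : e.symm (θ ((1 : baseNorm A E) ⊗ₜ r)) ∈ Q := by rw [h2]; exact h1
    rwa [show e.symm (θ ((1 : baseNorm A E) ⊗ₜ r)) = (1 : baseNorm A E) ⊗ₜ r from e.symm_apply_apply _] at h3

/-- The radical of the base and the maximal ideal die in the residue ring. -/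
theorem fibreIdeal_le_comap {D : Subalgebra A E} [IsLocalRing D] [IsLocalHom (algebraMap D E)]
    (hA : CAlg.IsNagata A) (hE : EGA4loc.IsEssentiallyEtale A E) :
    (fibreIdeal A E E).comap (Algebra.TensorProduct.map (AlgHom.id A (baseNorm A E)) D.val) ≤
      fibreIdeal A E D := by
  haveI : IsLocalHom D.val.toRingHom := ‹IsLocalHom (algebraMap D E)›
  haveI := isLocalHom hE
  haveI : IsLocalHom (algebraMap A D) :=
    ⟨fun a ha => IsUnit.of_map (algebraMap A E) a (ha.map (algebraMap D E))⟩
  let Ā := baseNorm A E ⧸ Ideal.jacobson (⊥ : Ideal (baseNorm A E))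
  let qr : ResidueField D →+* ResidueField E := ResidueField.map D.val.toRingHom
  let qk : ResidueField D →ₗ[ResidueField A] ResidueField E :=
    { toFun := qr
      map_add' := map_add qr
      map_smul' := fun c x => by
        rw [Algebra.smul_def, Algebra.smul_def, map_mul, RingHom.id_apply]
        congr 1
        obtain ⟨a, rfl⟩ := IsLocalRing.residue_surjective c
        rfl }
  obtain ⟨l, hl⟩ := qk.exists_leftInverse_of_injective (LinearMap.ker_eq_bot.mpr qr.injective)
  intro ζ hζ
  rw [← ker_fibreMap] at hζ ⊢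
  rw [RingHom.mem_ker]
  let L := LinearMap.lTensor Ā (qk.restrictScalars A)
  have hsq : ∀ ζ : baseNorm A E ⊗[A] D,
      L (fibreMap A E D ζ) = fibreMap A E E (Algebra.TensorProduct.map (AlgHom.id A _) D.val ζ) := by
    intro ζ
    induction ζ using TensorProduct.induction_on with
    | zero => simp
    | tmul r d => rfl
    | add x y hx hy => simp only [map_add, hx, hy]
  have h0 : L (fibreMap A E D ζ) = 0 := (hsq ζ).trans hζ
  have h1 := congrArg (LinearMap.lTensor Ā (l.restrictScalars A)) h0
  rw [map_zero, ← LinearMap.comp_apply, ← LinearMap.lTensor_comp] at h1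
  rwa [show (l.restrictScalars A).comp (qk.restrictScalars A) = LinearMap.id from
    LinearMap.ext fun x => LinearMap.congr_fun hl x, LinearMap.lTensor_id, LinearMap.id_apply] at h1

end Local

end Groth.Agent.EssEt6
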