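import Groth.Agent.EssEt6.FibreDescent

/-!
# Transport of the residual product condition
-/

set_option autoImplicit false
set_option linter.style.haveILetI false
set_option maxSynthPendingDepth 6

universe u

open nonZeroDivisors IsLocalRing
open scoped TensorProduct

namespace Groth.Agent.EssEt6

/-- The residual product condition on a semilocal algebra receiving two others. -/
def ResidualProd {A R B C : Type u} [CommRing A] [CommRing R] [CommRing B] [IsLocalRing B] [CommRing C]
    [Algebra A R] [Algebra A B] [Algebra A C] (p : R →ₐ[A] C) (q : B →ₐ[A] C) : Prop :=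
  {N : Ideal C | N.IsMaximal}.Finite ∧
    Function.Surjective ((Ideal.Quotient.mkₐ A (Ideal.jacobson (⊥ : Ideal C))).comp
      (Algebra.TensorProduct.productMap p q)) ∧
    RingHom.ker ((Ideal.Quotient.mkₐ A (Ideal.jacobson (⊥ : Ideal C))).comp
      (Algebra.TensorProduct.productMap p q)) =
      (Ideal.jacobson (⊥ : Ideal R)).map (Algebra.TensorProduct.includeLeft : R →ₐ[A] R ⊗[A] B) ⊔
        (maximalIdeal B).map (Algebra.TensorProduct.includeRight : B →ₐ[A] R ⊗[A] B)

theorem map_maximalIdeal_equiv {R R' : Type u} [CommRing R] [IsLocalRing R] [CommRing R'] [IsLocalRing R']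
    (e : R ≃+* R') : (maximalIdeal R).map e.toRingHom = maximalIdeal R' :=
  IsLocalRing.eq_maximalIdeal
    (Ideal.IsMaximal.map_bijective (I := maximalIdeal R) e.toRingHom e.bijective (IsLocalRing.maximalIdeal.isMaximal R))

theorem map_jacobson_equiv {R R' : Type u} [CommRing R] [CommRing R'] (e : R ≃+* R') :
    (Ideal.jacobson (⊥ : Ideal R)).map e.toRingHom = Ideal.jacobson (⊥ : Ideal R') := by
  rw [Ideal.map_jacobson_of_bijective (f := e.toRingHom) e.bijective, Ideal.map_bot]

theorem mem_map_equiv {R R' : Type u} [CommRing R] [CommRing R'] (e : R ≃+* R') (I : Ideal R) (x : R) :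
    e x ∈ I.map e.toRingHom ↔ x ∈ I := by
  rw [Ideal.mem_map_iff_of_surjective e.toRingHom e.surjective]
  exact ⟨fun ⟨y, hy, h⟩ => e.injective h ▸ hy, fun h => ⟨x, h, rfl⟩⟩

/-- The residual product condition is invariant under isomorphisms. -/
theorem ResidualProd.congr {A R B C R' B' C' : Type u} [CommRing A] [CommRing R] [CommRing B]
    [IsLocalRing B] [CommRing C] [CommRing R'] [CommRing B'] [IsLocalRing B'] [CommRing C']
    [Algebra A R] [Algebra A B] [Algebra A C] [Algebra A R'] [Algebra A B'] [Algebra A C']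
    {p : R →ₐ[A] C} {q : B →ₐ[A] C} {p' : R' →ₐ[A] C'} {q' : B' →ₐ[A] C'}
    (α : R ≃ₐ[A] R') (β : B ≃ₐ[A] B') (γ : C ≃ₐ[A] C') (hp : ∀ r, γ (p r) = p' (α r))
    (hq : ∀ b, γ (q b) = q' (β b)) (h : ResidualProd p q) : ResidualProd p' q' := by
  obtain ⟨hfin, hsurj, hker⟩ := h
  let T := Algebra.TensorProduct.congr α β
  have hcomm : ∀ ζ, γ (Algebra.TensorProduct.productMap p q ζ) =
      Algebra.TensorProduct.productMap p' q' (T ζ) := by
    intro ζ
    induction ζ using TensorProduct.induction_on with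
    | zero => simp
    | tmul r b => simp [T, hp, hq]
    | add x y hx hy => simp only [map_add, hx, hy]
  have hJ : ∀ c, γ c ∈ Ideal.jacobson (⊥ : Ideal C') ↔ c ∈ Ideal.jacobson (⊥ : Ideal C) := fun c => by
    rw [← map_jacobson_equiv γ.toRingEquiv]
    exact mem_map_equiv γ.toRingEquiv _ c
  refine ⟨?_, fun z => ?_, ?_⟩
  · refine (hfin.image (Ideal.comap γ.symm.toRingEquiv.toRingHom)).subset fun N hN => ?_
    haveI : N.IsMaximal := hN
    refine ⟨N.comap γ.toRingEquiv.toRingHom,
      Ideal.comap_isMaximal_of_surjective γ.toRingEquiv.toRingHom γ.surjective, ?_⟩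
    ext x
    show γ (γ.symm x) ∈ N ↔ x ∈ N
    rw [AlgEquiv.apply_symm_apply]
  · obtain ⟨c, rfl⟩ := Ideal.Quotient.mk_surjective z
    obtain ⟨ζ, hζ⟩ := hsurj (Ideal.Quotient.mk _ (γ.symm c))
    refine ⟨T ζ, Ideal.Quotient.eq.mpr ?_⟩
    show Algebra.TensorProduct.productMap p' q' (T ζ) - c ∈ _
    rw [← hcomm, ← γ.apply_symm_apply c, ← map_sub, hJ]
    exact Ideal.Quotient.eq.mp hζ
  · have hker' : ∀ ζ, T ζ ∈ RingHom.ker ((Ideal.Quotient.mkₐ A (Ideal.jacobson (⊥ : Ideal C'))).comp
        (Algebra.TensorProduct.productMap p' q')) ↔ ζ ∈ RingHom.ker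
        ((Ideal.Quotient.mkₐ A (Ideal.jacobson (⊥ : Ideal C))).comp
          (Algebra.TensorProduct.productMap p q)) := fun ζ => by
      simp only [RingHom.mem_ker, AlgHom.comp_apply, Ideal.Quotient.mkₐ_eq_mk,
        Ideal.Quotient.eq_zero_iff_mem, ← hcomm, hJ]
    have hmap : ((Ideal.jacobson (⊥ : Ideal R)).map (Algebra.TensorProduct.includeLeft : R →ₐ[A] R ⊗[A] B) ⊔
        (maximalIdeal B).map (Algebra.TensorProduct.includeRight : B →ₐ[A] R ⊗[A] B)).map
          T.toRingEquiv.toRingHom =
        (Ideal.jacobson (⊥ : Ideal R')).map (Algebra.TensorProduct.includeLeft : R' →ₐ[A] R' ⊗[A] B') ⊔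
        (maximalIdeal B').map (Algebra.TensorProduct.includeRight : B' →ₐ[A] R' ⊗[A] B') := by
      rw [Ideal.map_sup, ← map_jacobson_equiv α.toRingEquiv, ← map_maximalIdeal_equiv β.toRingEquiv,
        ← Ideal.map_coe (Algebra.TensorProduct.includeLeft : R →ₐ[A] R ⊗[A] B),
        ← Ideal.map_coe (Algebra.TensorProduct.includeRight : B →ₐ[A] R ⊗[A] B),
        ← Ideal.map_coe (Algebra.TensorProduct.includeLeft : R' →ₐ[A] R' ⊗[A] B'),
        ← Ideal.map_coe (Algebra.TensorProduct.includeRight : B' →ₐ[A] R' ⊗[A] B'),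
        Ideal.map_map, Ideal.map_map, Ideal.map_map, Ideal.map_map]
      congr 2
      · refine RingHom.ext fun r => ?_
        show T (r ⊗ₜ 1) = α r ⊗ₜ 1
        simp [T]
      · refine RingHom.ext fun b => ?_
        show T (1 ⊗ₜ b) = 1 ⊗ₜ β b
        simp [T]
    rw [← hmap, ← hker]
    ext ξ
    obtain ⟨ζ, rfl⟩ := T.surjective ξ
    exact (hker' ζ).trans (mem_map_equiv T.toRingEquiv _ ζ).symm

variable {A E : Type u} [CommRing A] [IsLocalRing A] [CommRing E] [Algebra A E]

/-- Transport of a normalization into a larger ring of fractions. -/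
theorem exists_normalization_equiv (hE : EGA4loc.IsEssentiallyEtale A E) (D₀ : Subalgebra A E)
    {K : Type u} [CommRing K] [Algebra A K] (Φ : FractionRing E →ₐ[A] K) (hΦ : Function.Injective Φ)
    {R : Type u} [CommRing R] [Algebra R K] (e : D₀ ≃+* R)
    (he : ∀ d : D₀, Φ (algebraMap E (FractionRing E) d) = algebraMap R K (e d))
    (D' : Subalgebra A K) (hD' : ∀ x : K, x ∈ D' ↔ IsIntegral R x ∧
      ∃ a ∈ A⁰, ∃ r : R, algebraMap A K a * x = algebraMap R K r) :
    ∃ ψ : normalization D₀ ≃ₐ[A] D', ∀ z, (ψ z : K) = Φ z := by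
  let F := FractionRing E
  letI : Algebra D₀ K := ((Φ.toRingHom.comp (algebraMap E F)).comp (algebraMap D₀ E)).toAlgebra
  let Φ' : F →ₐ[D₀] K := { Φ.toRingHom with commutes' := fun d => rfl }
  have hint : ∀ y : K, IsIntegral D₀ y ↔ IsIntegral R y := fun y =>
    ⟨fun h => h.map_of_comp_eq (S := K) e.toRingHom (RingHom.id K)
        (RingHom.ext fun d => (he d).symm),
      fun h => h.map_of_comp_eq (S := K) e.symm.toRingHom (RingHom.id K) (RingHom.ext fun r => by
        show Φ (algebraMap E F (e.symm r : D₀)) = algebraMap R K r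
        rw [he, e.apply_symm_apply])⟩
  have hmem : ∀ x : F, x ∈ normalization D₀ ↔ Φ x ∈ D' := by
    intro x
    have hi : IsIntegral D₀ x ↔ IsIntegral R (Φ x) :=
      (isIntegral_algHom_iff Φ' hΦ).symm.trans (hint _)
    rw [mem_normalization, hD', hi]
    refine ⟨fun ⟨⟨a, ha, d, hd, hx⟩, h⟩ => ⟨h, a, ha, e ⟨d, hd⟩, ?_⟩,
      fun ⟨h, a, ha, r, hx⟩ => ⟨⟨a, ha, (e.symm r : E), (e.symm r).2, hΦ ?_⟩, h⟩⟩
    · rw [← he ⟨d, hd⟩, ← hx, map_mul, Φ.commutes]
    · rw [map_mul, Φ.commutes, hx, he, e.apply_symm_apply]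
  let g : normalization D₀ →ₐ[A] D' :=
    (Φ.comp (normalization D₀).val).codRestrict D' fun z => (hmem z).mp z.2
  refine ⟨AlgEquiv.ofBijective g ⟨fun x y h => Subtype.ext (hΦ (congrArg Subtype.val h)), fun y => ?_⟩,
    fun z => rfl⟩
  obtain ⟨-, a, ha, r, hy⟩ := (hD' y).mp y.2
  obtain ⟨w, hw⟩ := ((isUnit_saturation hE D₀ a ha).map (saturation D₀).val).exists_left_inv
  have hx : Φ (w * algebraMap E F (e.symm r : D₀)) = (y : K) := by
    rw [map_mul, he, e.apply_symm_apply, ← hy, ← mul_assoc, ← Φ.commutes, ← map_mul,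
      show w * algebraMap A F a = 1 from hw, map_one, one_mul]
  exact ⟨⟨_, (hmem _).mpr (hx.symm ▸ y.2)⟩, Subtype.ext hx⟩

variable [IsReduced A] [IsNoetherianRing A] [IsLocalRing E]

/-- An essentially etale algebra satisfies the residual product condition. -/
theorem residualProd_of_isEssentiallyEtale (hA : CAlg.IsNagata A) (hE : EGA4loc.IsEssentiallyEtale A E)
    (h : baseNorm A E ≤ (integralClosure E (FractionRing E)).restrictScalars A) :
    ResidualProd (Subalgebra.inclusion h)
      ((IsScalarTower.toAlgHom A E (FractionRing E)).codRestrict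
        ((integralClosure E (FractionRing E)).restrictScalars A) fun _ => isIntegral_algebraMap) := by
  haveI := isReduced hE
  haveI := isNoetherianRing hE
  have hθ : Algebra.TensorProduct.productMap (Subalgebra.inclusion h)
      ((IsScalarTower.toAlgHom A E (FractionRing E)).codRestrict
        ((integralClosure E (FractionRing E)).restrictScalars A) fun _ => isIntegral_algebraMap) =
      prodTop (A := A) (E := E) :=
    Algebra.TensorProduct.ext' fun r e => Subtype.ext rfl
  refine ⟨finite_maximal_integralClosure E, ?_, ?_⟩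
  · rw [hθ]
    exact Ideal.Quotient.mk_surjective.comp (bijective_prodTop hE).2
  · rw [hθ]
    refine Eq.trans ?_ ((ker_prodTop hA hE).trans rfl)
    ext ζ
    exact Ideal.Quotient.eq_zero_iff_mem

theorem normalization_top (hfin : (minimalPrimes A).Finite) (hE : EGA4loc.IsEssentiallyEtale A E) :
    normalization (⊤ : Subalgebra A E) = (integralClosure E (FractionRing E)).restrictScalars A := by
  refine le_antisymm (fun x hx => isIntegral_ambient hx.2) fun x hx => ⟨?_, ?_⟩
  · haveI := isLocalization_fractionRing hfin hE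
    obtain ⟨⟨e, m⟩, hz⟩ := IsLocalization.surj ((A⁰).map (algebraMap A E)) x
    obtain ⟨a, ha, ham⟩ := m.2
    refine ⟨a, ha, e, Algebra.mem_top, ?_⟩
    rw [mul_comm, IsScalarTower.algebraMap_apply A E (FractionRing E), ham]
    exact hz
  · exact (show IsIntegral E x from hx).map_of_comp_eq (S := FractionRing E)
      (Subalgebra.topEquiv (R := A) (A := E)).symm.toRingEquiv.toRingHom (RingHom.id _) rfl

end Groth.Agent.EssEt6

namespace Groth.Agent.EssEt6

theorem injective_fractions {A E S : Type u} [CommRing A] [CommRing E] [CommRing S] [Algebra A E]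
    [Algebra A S] (Φ : FractionRing E →ₐ[A] FractionRing S) (φ : E →ₐ[A] S) (hφ : Function.Injective φ)
    (hΦ : ∀ e, Φ (algebraMap E (FractionRing E) e) = algebraMap S (FractionRing S) (φ e)) :
    Function.Injective Φ := by
  rw [injective_iff_map_eq_zero]
  intro z hz
  obtain ⟨e, n, rfl⟩ := IsLocalization.exists_mk'_eq E⁰ z
  have h1 : Φ (algebraMap E (FractionRing E) e) = 0 := by
    rw [← IsLocalization.mk'_spec (FractionRing E) e n, map_mul, hz, zero_mul]
  rw [hΦ, ← map_zero (algebraMap S (FractionRing S))] at h1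
  rw [hφ ((IsFractionRing.injective S (FractionRing S) h1).trans (map_zero φ).symm), IsLocalization.mk'_zero]

/-- The residual product condition implies essential etaleness, inside an essentially etale algebra. -/
theorem isEssentiallyEtale_of_residualProd {A S : Type u} [CommRing A] [IsLocalRing A] [IsReduced A]
    [IsNoetherianRing A] (hA : CAlg.IsNagata A) [CommRing S] [IsLocalRing S] [Algebra A S]
    [IsLocalHom (algebraMap A S)] [Hensel.IsStrictHenselization A S]
    (D : Subalgebra A S) [IsLocalRing D] [IsLocalHom (algebraMap D S)]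
    {E : Subalgebra A S} (hDE : D ≤ E) [IsLocalRing E] (hE : EGA4loc.IsEssentiallyEtale A E)
    (A' D' : Subalgebra A (FractionRing S))
    (hA' : ∀ x : (FractionRing S), x ∈ A' ↔ (IsIntegral A x ∧
      ∃ a ∈ nonZeroDivisors A, ∃ b : A, algebraMap A (FractionRing S) a * x = algebraMap A (FractionRing S) b))
    (hD' : ∀ x : (FractionRing S), x ∈ D' ↔ (IsIntegral D x ∧
      ∃ a ∈ nonZeroDivisors A, ∃ d ∈ D, algebraMap A (FractionRing S) a * x = algebraMap S (FractionRing S) d))
    (hle : A' ≤ D') (ι : D →ₐ[A] D') (hι : ∀ d : D, (ι d : (FractionRing S)) = algebraMap S (FractionRing S) d)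
    (h : ResidualProd (Subalgebra.inclusion hle) ι) : EGA4loc.IsEssentiallyEtale A D := by
  haveI := flat_strict (A := A) S
  haveI : IsLocalHom (algebraMap E S) :=
    ((local_hom_TFAE (algebraMap E S)).out 2 0).mp (by
      rw [← map_maximalIdeal hE, Ideal.map_map, ← IsScalarTower.algebraMap_eq]
      exact ((local_hom_TFAE (algebraMap A S)).out 0 2).mp ‹_›)
  haveI : IsLocalHom E.val.toRingHom := ‹IsLocalHom (algebraMap E S)›
  let eD : D ≃ₐ[A] (Subalgebra.inclusion hDE).range :=
    AlgEquiv.ofInjective _ (Subalgebra.inclusion_injective hDE)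
  let D₀ : Subalgebra A E := (Subalgebra.inclusion hDE).range
  haveI : IsLocalRing D₀ := eD.toRingEquiv.isLocalRing
  haveI : IsLocalHom (algebraMap D₀ E) := ⟨fun z hz => by
    obtain ⟨d, rfl⟩ := eD.surjective z
    exact (IsUnit.of_map (algebraMap D S) d (hz.map (algebraMap E S))).map eD⟩
  haveI := isLocalHom hE
  haveI := flat hE
  haveI : Module.FaithfullyFlat A E := Module.FaithfullyFlat.of_flat_of_isLocalHom
  haveI : FaithfulSMul A E := Module.FaithfullyFlat.faithfulSMul
  obtain ⟨Φ, hΦ⟩ := exists_fractions_hom hE E.val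
  have hΦi := injective_fractions Φ E.val Subtype.val_injective hΦ
  have hinj := FaithfulSMul.algebraMap_injective A E
  obtain ⟨ψA, hψA⟩ := exists_normalization_equiv hE (⊥ : Subalgebra A E) Φ hΦi
    (Algebra.botEquivOfInjective hinj).toRingEquiv
    (fun d => by
      obtain ⟨a, rfl⟩ := (Algebra.botEquivOfInjective hinj).symm.surjective d
      show Φ _ = algebraMap A _ ((Algebra.botEquivOfInjective hinj) ((Algebra.botEquivOfInjective hinj).symm a))
      rw [AlgEquiv.apply_symm_apply, ← Φ.commutes, IsScalarTower.algebraMap_apply A E (FractionRing E) a]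
      exact congrArg (fun w : E => Φ (algebraMap E (FractionRing E) w))
        (congrArg Subtype.val ((Algebra.botEquivOfInjective hinj).symm.commutes a))) A' hA'
  obtain ⟨ψD, hψD⟩ := exists_normalization_equiv hE D₀ Φ hΦi eD.symm.toRingEquiv
    (fun d => by
      obtain ⟨d, rfl⟩ := eD.surjective d
      show Φ _ = algebraMap D _ (eD.symm (eD d))
      rw [eD.symm_apply_apply]
      exact hΦ _) D' fun x => by
      rw [hD']
      exact and_congr_right fun _ => exists_congr fun a => and_congr_right fun _ =>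
        ⟨fun ⟨d, hd, h⟩ => ⟨⟨d, hd⟩, h⟩, fun ⟨r, h⟩ => ⟨(r : S), r.2, h⟩⟩
  have h' : ResidualProd (Subalgebra.inclusion (normalization_mono (bot_le (a := D₀)))) (incNorm D₀) := by
    refine h.congr ψA.symm eD ψD.symm (fun r => ?_) (fun b => ?_)
    · apply ψD.injective
      rw [AlgEquiv.apply_symm_apply]
      refine Subtype.ext ((hψD _).trans ?_).symm
      exact ((hψA (ψA.symm r)).symm.trans (congrArg Subtype.val (ψA.apply_symm_apply r)))
    · apply ψD.injective
      rw [AlgEquiv.apply_symm_apply]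
      exact Subtype.ext ((hψD _).trans ((hΦ _).trans (hι b).symm)).symm
  exact of_algEquiv (of_normalization hA hE D₀ h'.1 h'.2.1 h'.2.2.ge) eD.symm

end Groth.Agent.EssEt6
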