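import Groth.Agent.EssEt6.LocalSub
import Groth.Agent.HenselLib.EtaleReduced
import Mathlib.RingTheory.Flat.TorsionFree
import Mathlib.RingTheory.Unramified.LocalStructure
import Mathlib.RingTheory.Artinian.Ring
import Mathlib.RingTheory.LocalProperties.Reduced
import Mathlib.RingTheory.Localization.FractionRing
import Mathlib.RingTheory.Ideal.MinimalPrime.Localization

/-!
# Total rings of fractions of essentially etale algebras over reduced rings with finitely many
minimal primes
-/

set_option autoImplicit false
set_option linter.style.haveILetI false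

universe u

open nonZeroDivisors

namespace Groth.Agent.EssEt6

/-- The total ring of fractions of a reduced ring with finitely many minimal primes is artinian. -/
theorem isArtinianRing_fractionRing (A : Type u) [CommRing A] [IsReduced A]
    (hfin : (minimalPrimes A).Finite) : IsArtinianRing (FractionRing A) := by
  classical
  let K := FractionRing A
  haveI : IsReduced K := isReduced_localizationPreserves A⁰ K inferInstance
  have hmin : ∀ P : Ideal K, P.IsPrime → P.comap (algebraMap A K) ∈ minimalPrimes A := by
    intro P hP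
    have hdisj := (IsLocalization.isPrime_iff_isPrime_disjoint A⁰ K P).mp hP
    have hsub : ((P.comap (algebraMap A K) : Ideal A) : Set A) ⊆
        ⋃ q ∈ hfin.toFinset, (q : Ideal A) := by
      intro x hx
      by_contra hnot
      refine hdisj.2.le_bot ⟨?_, hx⟩
      rw [SetLike.mem_coe, mem_nonZeroDivisors_iff_right]
      intro y hy
      refine (IsReduced.eq_zero y) ?_
      rw [← mem_nilradical, nilradical, ← Ideal.sInf_minimalPrimes, Submodule.mem_sInf]
      intro (q : Ideal A) hq
      haveI : q.IsPrime := Ideal.minimalPrimes_isPrime hq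
      refine (Ideal.IsPrime.mem_or_mem ‹_› (show y * x ∈ q by rw [hy]; exact zero_mem q)).resolve_right
        fun hxq => hnot ?_
      simp only [Set.mem_iUnion, Set.Finite.mem_toFinset]
      exact ⟨q, hq, hxq⟩
    obtain ⟨q, hq, hle⟩ := (Ideal.subset_union_prime ⊥ ⊥
      (fun q hq _ _ => Ideal.minimalPrimes_isPrime (hfin.mem_toFinset.mp hq))).mp hsub
    rw [Set.Finite.mem_toFinset] at hq
    have := hdisj.1
    rwa [le_antisymm hle (hq.2 ⟨this, bot_le⟩ hle)]
  have hinj : ∀ P Q : Ideal K, P.comap (algebraMap A K) = Q.comap (algebraMap A K) → P = Q :=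
    fun P Q h => by rw [← IsLocalization.map_under A⁰ K P, ← IsLocalization.map_under A⁰ K Q,
      Ideal.under, Ideal.under, h]
  have hmax : ∀ P : Ideal K, P.IsPrime → P.IsMaximal := fun P hP => by
    obtain ⟨M, hM, hPM⟩ := Ideal.exists_le_maximal P hP.ne_top
    haveI := hM
    have h2 := hmin M hM.isPrime
    have := le_antisymm (h2.2 ⟨(hmin P hP).1.1, bot_le⟩ (Ideal.comap_mono hPM)) (Ideal.comap_mono hPM)
    rwa [← hinj _ _ this]
  haveI : Finite (PrimeSpectrum K) := by
    have := hfin.to_subtype
    exact Finite.of_injective (fun P : PrimeSpectrum K => (⟨_, hmin P.asIdeal P.2⟩ : minimalPrimes A))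
      fun P Q h => PrimeSpectrum.ext (hinj _ _ (congrArg Subtype.val h))
  let f : PrimeSpectrum K → Ideal K := fun P => P.asIdeal
  have hcop : Pairwise (fun P Q => IsCoprime (f P) (f Q)) := fun P Q hne => by
    show IsCoprime (f P) (f Q)
    rw [Ideal.isCoprime_iff_sup_eq]
    exact (hmax _ P.2).coprime_of_ne (hmax _ Q.2) fun h => hne (PrimeSpectrum.ext h)
  have hbot : (⨅ P : PrimeSpectrum K, f P) = ⊥ := by
    rw [eq_bot_iff]
    intro x hx
    rw [Ideal.mem_bot]
    refine IsReduced.eq_zero x ?_
    rw [← mem_nilradical, nilradical_eq_sInf, Submodule.mem_sInf]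
    exact fun P hP => (Submodule.mem_iInf f).mp hx ⟨P, hP⟩
  haveI : ∀ P : PrimeSpectrum K, IsArtinianRing (K ⧸ f P) := fun P => by
    haveI := hmax _ P.2
    letI := Ideal.Quotient.field (f P)
    infer_instance
  let e : K ≃+* ((P : PrimeSpectrum K) → K ⧸ f P) :=
    ((RingEquiv.quotientBot K).symm.trans (Ideal.quotEquivOfEq hbot.symm)).trans
      (Ideal.quotientInfRingEquivPiQuotient f hcop)
  exact e.symm.surjective.isArtinianRing

variable {A E : Type u} [CommRing A] [IsLocalRing A] [CommRing E] [Algebra A E]

theorem isReduced [IsReduced A] (hE : EGA4loc.IsEssentiallyEtale A E) : IsReduced E := by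
  obtain ⟨C, _, _, _, _, q, _, hC, _, -⟩ := exists_localization hE
  haveI := hC
  haveI := HenselLib.isReduced_of_etale A C
  exact isReduced_localizationPreserves q.primeCompl E inferInstance

theorem isNoetherianRing [IsNoetherianRing A] (hE : EGA4loc.IsEssentiallyEtale A E) :
    IsNoetherianRing E := by
  haveI := essFiniteType hE
  exact Algebra.EssFiniteType.isNoetherianRing A E

theorem map_mem_nonZeroDivisors (hE : EGA4loc.IsEssentiallyEtale A E) {a : A} (ha : a ∈ A⁰) :
    algebraMap A E a ∈ E⁰ := by
  haveI := flat hE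
  rw [mem_nonZeroDivisors_iff_right]
  intro x hx
  refine Module.Flat.isSMulRegular_of_nonZeroDivisors ha (M := E) ?_
  simp [Algebra.smul_def, mul_comm, hx]

/-- A finite algebra over the total ring of fractions is spanned by finitely many elements up to
non-zero-divisors of the base. -/
theorem exists_span_of_finite (A K L : Type u) [CommRing A] [CommRing K] [Algebra A K]
    [IsFractionRing A K] [CommRing L] [Algebra A L] [Algebra K L] [IsScalarTower A K L]
    [Module.Finite K L] : ∃ t : Finset L, ∀ x : L, ∃ a ∈ A⁰,
      algebraMap A L a * x ∈ Submodule.span A (t : Set L) := by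
  classical
  obtain ⟨t, ht⟩ := Module.Finite.fg_top (R := K) (M := L)
  refine ⟨t, fun x => ?_⟩
  have hx : x ∈ Submodule.span K (t : Set L) := ht ▸ Submodule.mem_top
  induction hx using Submodule.span_induction with
  | mem x hx => exact ⟨1, one_mem _, by rw [map_one, one_mul]; exact Submodule.subset_span hx⟩
  | zero => exact ⟨1, one_mem _, by rw [mul_zero]; exact zero_mem _⟩
  | add x y _ _ hx hy =>
    obtain ⟨a, ha, hax⟩ := hx
    obtain ⟨b, hb, hby⟩ := hy
    refine ⟨a * b, mul_mem ha hb, ?_⟩
    rw [map_mul, show algebraMap A L a * algebraMap A L b * (x + y) =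
      b • (algebraMap A L a * x) + a • (algebraMap A L b * y) by rw [Algebra.smul_def, Algebra.smul_def]; ring]
    exact add_mem (Submodule.smul_mem _ _ hax) (Submodule.smul_mem _ _ hby)
  | smul c x _ hx =>
    obtain ⟨a, ha, hax⟩ := hx
    obtain ⟨⟨r, s⟩, hr⟩ := IsLocalization.surj A⁰ c
    refine ⟨a * s, mul_mem ha s.2, ?_⟩
    have : algebraMap A L (a * s) * (c • x) = r • (algebraMap A L a * x) := by
      rw [Algebra.smul_def, Algebra.smul_def, map_mul, IsScalarTower.algebraMap_apply A K L r, ← hr,
        map_mul, ← IsScalarTower.algebraMap_apply]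
      ring
    rw [this]
    exact Submodule.smul_mem _ _ hax

/-- The generic part of an essentially etale algebra is finite over the total ring of fractions. -/
theorem isArtinianRing_and_finite [IsReduced A] (hfin : (minimalPrimes A).Finite)
    (hE : EGA4loc.IsEssentiallyEtale A E) (L : Type u) [CommRing L] [Algebra E L] [Algebra A L]
    [IsScalarTower A E L] [IsLocalization ((A⁰).map (algebraMap A E)) L] :
    IsArtinianRing L ∧ ∃ t : Finset L, ∀ x : L, ∃ a ∈ A⁰,
      algebraMap A L a * x ∈ Submodule.span A (t : Set L) := by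
  classical
  haveI := isArtinianRing_fractionRing A hfin
  let K := FractionRing A
  have hu : ∀ a : A⁰, IsUnit (algebraMap A L a) := fun a => by
    rw [IsScalarTower.algebraMap_apply A E L]
    exact IsLocalization.map_units L (⟨_, Submonoid.mem_map_of_mem _ a.2⟩ : (A⁰).map (algebraMap A E))
  letI : Algebra K L := (IsLocalization.lift (M := A⁰) (S := K) hu).toAlgebra
  haveI : IsScalarTower A K L := IsScalarTower.of_algebraMap_eq fun a =>
    (IsLocalization.lift_eq (M := A⁰) (S := K) hu a).symm
  haveI := formallyUnramified hE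
  haveI := essFiniteType hE
  haveI : Algebra.EssFiniteType E L :=
    Algebra.EssFiniteType.of_isLocalization L ((A⁰).map (algebraMap A E))
  haveI : Algebra.FormallyUnramified E L :=
    Algebra.FormallyUnramified.of_isLocalization ((A⁰).map (algebraMap A E))
  haveI : Algebra.EssFiniteType A L := Algebra.EssFiniteType.comp A E L
  haveI : Algebra.FormallyUnramified A L := Algebra.FormallyUnramified.comp A E L
  haveI : Algebra.EssFiniteType K L := Algebra.EssFiniteType.of_comp A K L
  haveI : Algebra.FormallyUnramified K L := Algebra.FormallyUnramified.of_restrictScalars A K L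
  haveI : Module.Finite K L := Module.Finite.of_quasiFinite
  exact ⟨IsArtinianRing.of_finite K L, exists_span_of_finite A K L⟩

/-- The total ring of fractions of an essentially etale algebra inverts only non-zero-divisors of
the base. -/
theorem isLocalization_fractionRing [IsReduced A] (hfin : (minimalPrimes A).Finite)
    (hE : EGA4loc.IsEssentiallyEtale A E) :
    IsLocalization ((A⁰).map (algebraMap A E)) (FractionRing E) := by
  let M := (A⁰).map (algebraMap A E)
  have hM : M ≤ E⁰ := by
    rintro _ ⟨a, ha, rfl⟩
    exact map_mem_nonZeroDivisors hE ha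
  let L := Localization M
  haveI := (isArtinianRing_and_finite hfin hE L).1
  refine ⟨fun y => IsLocalization.map_units (FractionRing E) (⟨_, hM y.2⟩ : E⁰), fun z => ?_,
    fun {x y} h => ⟨1, by rw [IsFractionRing.injective E (FractionRing E) h]⟩⟩
  obtain ⟨e, n, rfl⟩ := IsLocalization.exists_mk'_eq E⁰ z
  have hn : algebraMap E L n ∈ L⁰ := by
    rw [mem_nonZeroDivisors_iff_right]
    intro w hw
    obtain ⟨c, m, rfl⟩ := IsLocalization.exists_mk'_eq M w
    rw [← IsLocalization.mk'_one (M := M) L, ← IsLocalization.mk'_mul, IsLocalization.mk'_eq_zero_iff] at hw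
    obtain ⟨m', hm'⟩ := hw
    rw [← mul_assoc] at hm'
    rw [IsLocalization.mk'_eq_zero_iff]
    exact ⟨m', (mem_nonZeroDivisors_iff_right.mp n.2) _ hm'⟩
  obtain ⟨w, hw⟩ := (IsArtinianRing.isUnit_of_mem_nonZeroDivisors hn).exists_right_inv
  obtain ⟨c, m, rfl⟩ := IsLocalization.exists_mk'_eq M w
  have h1 : (n : E) * c = m := by
    refine IsLocalization.injective L hM ?_
    rw [map_mul, ← IsLocalization.mk'_spec L c m, ← mul_assoc, hw, one_mul]
  refine ⟨(e * c, m), ?_⟩
  rw [← h1, map_mul, ← mul_assoc, IsLocalization.mk'_spec, map_mul]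

theorem isArtinianRing_fractionRing_of_essEt [IsReduced A] (hfin : (minimalPrimes A).Finite)
    (hE : EGA4loc.IsEssentiallyEtale A E) : IsArtinianRing (FractionRing E) ∧
      ∃ t : Finset (FractionRing E), ∀ x : FractionRing E, ∃ a ∈ A⁰,
        algebraMap A (FractionRing E) a * x ∈ Submodule.span A (t : Set (FractionRing E)) := by
  haveI := isLocalization_fractionRing hfin hE
  exact isArtinianRing_and_finite hfin hE _

/-- Intermediate rings between the total rings of fractions are artinian and finite. -/
theorem isArtinianRing_of_injective [IsReduced A] (hfin : (minimalPrimes A).Finite)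
    (hE : EGA4loc.IsEssentiallyEtale A E) (L : Type u) [CommRing L] [Algebra A L]
    (hu : ∀ a ∈ A⁰, IsUnit (algebraMap A L a)) (f : L →ₐ[A] FractionRing E)
    (hf : Function.Injective f) :
    IsArtinianRing L ∧ ∃ t : Finset L, ∀ x : L, ∃ a ∈ A⁰,
      algebraMap A L a * x ∈ Submodule.span A (t : Set L) := by
  classical
  haveI := isLocalization_fractionRing hfin hE
  haveI := isArtinianRing_fractionRing A hfin
  let K := FractionRing A
  let F := FractionRing E
  let g : K →+* L := IsLocalization.lift (M := A⁰) (g := algebraMap A L) fun a => hu a a.2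
  letI : Algebra K L := g.toAlgebra
  haveI : IsScalarTower A K L := IsScalarTower.of_algebraMap_eq fun a =>
    (IsLocalization.lift_eq (M := A⁰) (S := K) _ a).symm
  letI : Algebra K F := (f.toRingHom.comp g).toAlgebra
  haveI : IsScalarTower A K F := IsScalarTower.of_algebraMap_eq fun a => by
    show _ = f (algebraMap K L (algebraMap A K a))
    rw [← IsScalarTower.algebraMap_apply, f.commutes]
  obtain ⟨-, t, ht⟩ := isArtinianRing_and_finite hfin hE F
  haveI : Module.Finite K F := by
    refine ⟨⟨t, eq_top_iff.mpr fun x _ => ?_⟩⟩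
    obtain ⟨a, ha, hax⟩ := ht x
    have h1 := Submodule.span_le_restrictScalars A K (t : Set F) hax
    rw [Submodule.restrictScalars_mem] at h1
    obtain ⟨w, hw⟩ := (IsLocalization.map_units K (⟨a, ha⟩ : A⁰)).exists_left_inv
    have := Submodule.smul_mem _ w h1
    rwa [Algebra.smul_def, ← mul_assoc, IsScalarTower.algebraMap_apply A K F, ← map_mul, hw,
      map_one, one_mul] at this
  let fK : L →ₗ[K] F :=
    { toFun := f
      map_add' := map_add f
      map_smul' := fun c x => by
        rw [Algebra.smul_def, Algebra.smul_def]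
        exact map_mul f _ _ }
  haveI : Module.Finite K L := Module.Finite.of_injective fK hf
  exact ⟨IsArtinianRing.of_finite K L, exists_span_of_finite A K L⟩

/-- The elements of the total ring of fractions brought into a subalgebra by a non-zero-divisor of
the base. -/
def saturation (D : Subalgebra A E) : Subalgebra A (FractionRing E) where
  carrier := {z | ∃ a ∈ A⁰, ∃ d ∈ D, algebraMap A (FractionRing E) a * z = algebraMap E _ d}
  mul_mem' := by
    rintro x y ⟨a, ha, d, hd, hx⟩ ⟨b, hb, e, he, hy⟩
    refine ⟨a * b, mul_mem ha hb, d * e, mul_mem hd he, ?_⟩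
    rw [map_mul, map_mul, ← hx, ← hy]; ring
  one_mem' := ⟨1, one_mem _, 1, one_mem _, by rw [map_one, map_one, mul_one]⟩
  add_mem' := by
    rintro x y ⟨a, ha, d, hd, hx⟩ ⟨b, hb, e, he, hy⟩
    refine ⟨a * b, mul_mem ha hb, d * algebraMap A E b + e * algebraMap A E a,
      add_mem (mul_mem hd (D.algebraMap_mem b)) (mul_mem he (D.algebraMap_mem a)), ?_⟩
    rw [map_mul, map_add, map_mul, map_mul, ← hx, ← hy, ← IsScalarTower.algebraMap_apply,
      ← IsScalarTower.algebraMap_apply]
    ring
  zero_mem' := ⟨1, one_mem _, 0, zero_mem _, by rw [map_zero, mul_zero]⟩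
  algebraMap_mem' r := ⟨1, one_mem _, algebraMap A E r, D.algebraMap_mem r, by
    rw [map_one, one_mul, ← IsScalarTower.algebraMap_apply]⟩

theorem algebraMap_mem_saturation {D : Subalgebra A E} {d : E} (hd : d ∈ D) :
    algebraMap E (FractionRing E) d ∈ saturation D :=
  ⟨1, one_mem _, d, hd, by rw [map_one, one_mul]⟩

theorem isUnit_saturation (hE : EGA4loc.IsEssentiallyEtale A E) (D : Subalgebra A E) :
    ∀ a ∈ A⁰, IsUnit (algebraMap A (saturation D) a) := by
  intro a ha
  have hu : IsUnit (algebraMap A (FractionRing E) a) := by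
    rw [IsScalarTower.algebraMap_apply A E (FractionRing E)]
    exact IsLocalization.map_units _ (⟨_, map_mem_nonZeroDivisors hE ha⟩ : E⁰)
  obtain ⟨w, hw⟩ := hu.exists_right_inv
  exact IsUnit.of_mul_eq_one (⟨w, a, ha, 1, one_mem _, by rw [hw, map_one]⟩ : saturation D)
    (Subtype.ext hw)

/-- A non-zero-divisor of a subalgebra of an essentially etale algebra is a non-zero-divisor. -/
theorem mem_nonZeroDivisors_of_subalgebra [IsReduced A] (hfin : (minimalPrimes A).Finite)
    (hE : EGA4loc.IsEssentiallyEtale A E) {D : Subalgebra A E} {b : E} (hb : b ∈ D)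
    (hreg : ∀ d ∈ D, d * b = 0 → d = 0) : b ∈ E⁰ := by
  haveI := (isArtinianRing_of_injective hfin hE (saturation D) (isUnit_saturation hE D)
    (saturation D).val Subtype.val_injective).1
  let b' : saturation D := ⟨_, algebraMap_mem_saturation hb⟩
  have hb' : b' ∈ (saturation D)⁰ := by
    rw [mem_nonZeroDivisors_iff_right]
    rintro ⟨z, a, ha, d, hd, hz⟩ h0
    have h1 : z * algebraMap E (FractionRing E) b = 0 := congrArg Subtype.val h0
    have h2 : d * b = 0 := IsFractionRing.injective E (FractionRing E) (by
      rw [map_mul, ← hz, mul_assoc, h1, mul_zero, map_zero])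
    refine Subtype.ext ?_
    show z = 0
    have hu : IsUnit (algebraMap A (FractionRing E) a) :=
      (isUnit_saturation hE D a ha).map (saturation D).val
    exact hu.mul_right_eq_zero.mp (by rw [hz, hreg d hd h2, map_zero])
  have hu : IsUnit (algebraMap E (FractionRing E) b) :=
    (IsArtinianRing.isUnit_of_mem_nonZeroDivisors hb').map (saturation D).val
  rw [mem_nonZeroDivisors_iff_right]
  intro x hx
  refine IsFractionRing.injective E (FractionRing E) (hu.mul_left_eq_zero.mp ?_ |>.trans (map_zero _).symm)
  rw [← map_mul, hx, map_zero]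

end Groth.Agent.EssEt6
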