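import Groth.Agent.EssEt6.HenselianFinite
import Groth.Agent.EssEt6.TotalFractions
import Mathlib.FieldTheory.Galois.Basic
import Mathlib.FieldTheory.PrimitiveElement

/-!
# Fixed rings of normal finite etale stages
-/

set_option autoImplicit false
set_option linter.style.haveILetI false

universe u

open IsLocalRing nonZeroDivisors

namespace Groth.Agent.EssEt6

/-- The fixed subring of a group of automorphisms distinct on the residue field has trivial closed
fibre. -/
theorem mem_map_of_fixed {A E : Type u} [CommRing A] [IsLocalRing A] [CommRing E] [IsLocalRing E]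
    [Algebra A E] (hE : EGA4loc.IsEssentiallyEtale A E) (H : Finset (E →ₐ[A] E))
    (hid : AlgHom.id A E ∈ H) (hcomp : ∀ g ∈ H, ∀ h ∈ H, g.comp h ∈ H)
    (hinj : ∀ g ∈ H, Function.Injective g)
    (D : Subalgebra A E) (hD : ∀ x, x ∈ D ↔ ∀ h ∈ H, h x = x) [IsLocalHom (algebraMap D E)]
    {x : D} (hx : (x : E) ∈ maximalIdeal E) : x ∈ (maximalIdeal A).map (algebraMap A D) := by
  classical
  haveI := isLocalHom hE
  have hloc : ∀ h : E →ₐ[A] E, IsLocalHom h.toRingHom := fun h =>
    ((local_hom_TFAE h.toRingHom).out 2 0).mp (by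
      rw [← map_maximalIdeal hE, Ideal.map_map,
        show h.toRingHom.comp (algebraMap A E) = algebraMap A E from h.comp_algebraMap])
  -- an element with invertible trace
  obtain ⟨t, ht⟩ : ∃ t : E, IsUnit (∑ h ∈ H, h t) := by
    let χ : H → (ResidueField E →* ResidueField E) := fun h =>
      haveI := hloc h.1
      (ResidueField.map h.1.toRingHom).toMonoidHom
    have hχ : Function.Injective χ := fun g h e => Subtype.ext <|
      eq_of_residue_eq hE g.1 h.1 fun z => DFunLike.congr_fun e (residue E z)
    have hli := (linearIndependent_monoidHom (ResidueField E) (ResidueField E)).comp χ hχ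
    by_contra hnot
    push Not at hnot
    have h0 : ∑ h : H, (1 : ResidueField E) • (⇑(χ h) : ResidueField E → ResidueField E) = 0 := by
      funext z
      obtain ⟨t, rfl⟩ := IsLocalRing.residue_surjective z
      simp only [one_smul, Finset.sum_apply, Pi.zero_apply]
      have h1 : residue E (∑ h ∈ H, h t) = 0 :=
        (residue_eq_zero_iff _).mpr ((mem_maximalIdeal _).mpr (hnot t))
      rw [map_sum] at h1
      rw [← h1, ← Finset.sum_coe_sort H (fun h => residue E (h t))]
      exact Finset.sum_congr rfl fun h _ => rfl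
    exact one_ne_zero (Fintype.linearIndependent_iff.mp hli (fun _ => 1) h0 ⟨_, hid⟩)
  have hperm : ∀ g ∈ H, H.image (fun h => g.comp h) = H := fun g hg =>
    Finset.eq_of_subset_of_card_le
      (fun k hk => by
        obtain ⟨h, hh, rfl⟩ := Finset.mem_image.mp hk
        exact hcomp g hg h hh)
      (le_of_eq (Finset.card_image_of_injective H fun h h' e => AlgHom.ext fun z =>
        hinj g hg (DFunLike.congr_fun e z)).symm)
  let tr : E → E := fun z => ∑ h ∈ H, h (t * z)
  have htr : ∀ z, tr z ∈ D := fun z => (hD _).mpr fun g hg => by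
    show g (∑ h ∈ H, h (t * z)) = ∑ h ∈ H, h (t * z)
    rw [map_sum]
    conv_rhs => rw [← hperm g hg, Finset.sum_image (fun h _ h' _ e => AlgHom.ext fun w =>
      hinj g hg (DFunLike.congr_fun e w))]
    rfl
  have hu : IsUnit (⟨tr 1, htr 1⟩ : D) := IsUnit.of_map (algebraMap D E) _ (by
    show IsUnit (∑ h ∈ H, h (t * 1))
    simpa using ht)
  -- the retraction
  let R : E →ₗ[A] D :=
    { toFun := fun z => ⟨tr z, htr z⟩
      map_add' := fun y z => Subtype.ext (by
        show tr (y + z) = tr y + tr z
        simp [tr, mul_add, Finset.sum_add_distrib])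
      map_smul' := fun a z => Subtype.ext (by
        show tr (a • z) = a • tr z
        simp [tr, Finset.smul_sum]) }
  have hR : R (x : E) = x * ⟨tr 1, htr 1⟩ := Subtype.ext (by
    show tr (x : E) = (x : E) * tr 1
    simp only [tr, mul_one, Finset.mul_sum]
    refine Finset.sum_congr rfl fun h hh => ?_
    rw [map_mul, (hD _).mp x.2 h hh, mul_comm])
  rw [← Ideal.mul_unit_mem_iff_mem _ hu, ← hR]
  rw [← map_maximalIdeal hE] at hx
  have hspan : (x : E) ∈ (maximalIdeal A) • (⊤ : Submodule A E) := by
    rw [Ideal.smul_top_eq_map]; exact hx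
  have := Submodule.mem_map_of_mem (f := R) hspan
  rw [Submodule.map_smul''] at this
  have h2 : R (x : E) ∈ (maximalIdeal A) • (⊤ : Submodule A D) :=
    Submodule.smul_mono le_rfl le_top this
  rw [Ideal.smul_top_eq_map] at h2
  exact h2

variable {A S : Type u} [CommRing A] [HenselianLocalRing A] [IsDomain A] [CommRing S] [IsLocalRing S]
  [IsDomain S] [Algebra A S] [IsLocalHom (algebraMap A S)] [Hensel.IsStrictHenselization A S]

/-- The automorphisms of a normal stage separate down to any intermediate field. -/
theorem exists_fixer {E : Subalgebra A S} [IsLocalRing E] [IsLocalHom (algebraMap E S)]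
    [Module.Finite A E] (hE : EGA4loc.IsEssentiallyEtale A E)
    (hstab : ∀ φ : E →ₐ[A] S, ∀ x, φ x ∈ E) (L : Subfield (FractionRing E))
    (hL : ∀ a : A, algebraMap A (FractionRing E) a ∈ L) :
    ∃ H : Finset (E →ₐ[A] E), AlgHom.id A E ∈ H ∧ (∀ g ∈ H, ∀ h ∈ H, g.comp h ∈ H) ∧
      (∀ g ∈ H, Function.Injective g) ∧
      ∀ x : E, algebraMap E (FractionRing E) x ∈ L ↔ ∀ h ∈ H, h x = x := by
  classical
  haveI := flat hE
  haveI := formallyUnramified hE
  haveI := isLocalHom hE
  haveI : Module.Free A E := Module.free_of_flat_of_isLocalRing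
  haveI : Module.FaithfullyFlat A E := Module.FaithfullyFlat.of_flat_of_isLocalHom
  haveI : FaithfulSMul A E := Module.FaithfullyFlat.faithfulSMul
  let n := Module.finrank A E
  let K := FractionRing A
  let K₂ := FractionRing E
  haveI : FaithfulSMul A K₂ := by
    rw [faithfulSMul_iff_algebraMap_injective, IsScalarTower.algebraMap_eq A E K₂]
    exact (IsFractionRing.injective E K₂).comp (FaithfulSMul.algebraMap_injective A E)
  letI : Algebra K K₂ := FractionRing.liftAlgebra A K₂
  haveI hloc := isLocalization_fractionRing (A := A) (E := E)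
    (by rw [IsDomain.minimalPrimes_eq_singleton_bot]; exact Set.finite_singleton _) hE
  -- dimension
  let b := Module.Free.chooseBasis A E
  have hspan : (⊤ : Submodule K K₂) ≤ Submodule.span K (Set.range (algebraMap E K₂ ∘ b)) := by
    rintro z -
    obtain ⟨⟨e, m⟩, hz⟩ := IsLocalization.surj ((A⁰).map (algebraMap A E)) z
    obtain ⟨a, ha, ham⟩ := m.2
    have he : algebraMap E K₂ e ∈ Submodule.span K (Set.range (algebraMap E K₂ ∘ b)) := by
      rw [← b.sum_repr e, map_sum]
      refine sum_mem fun i _ => ?_
      rw [Algebra.smul_def, map_mul, ← IsScalarTower.algebraMap_apply A E K₂,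
        IsScalarTower.algebraMap_apply A K K₂, ← Algebra.smul_def]
      exact Submodule.smul_mem _ _ (Submodule.subset_span ⟨i, rfl⟩)
    obtain ⟨w, hw⟩ := (IsLocalization.map_units K (⟨a, ha⟩ : A⁰)).exists_left_inv
    have := Submodule.smul_mem _ w he
    rwa [← hz, Algebra.smul_def, show algebraMap E K₂ (m : E) = algebraMap K K₂ (algebraMap A K a) by
      rw [← ham, ← IsScalarTower.algebraMap_apply, ← IsScalarTower.algebraMap_apply],
      mul_left_comm, ← map_mul, hw, map_one, mul_one] at this
  haveI : Module.Finite K K₂ := ⟨⟨Finset.univ.image (algebraMap E K₂ ∘ b), by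
    rw [Finset.coe_image, Finset.coe_univ, Set.image_univ]; exact top_le_iff.mp hspan⟩⟩
  have hrank : Module.finrank K K₂ ≤ n := by
    calc Module.finrank K K₂ ≤ Fintype.card (Module.Free.ChooseBasisIndex A E) :=
          finrank_le_of_span_eq_top (top_le_iff.mp hspan)
      _ = n := (Module.finrank_eq_card_basis b).symm
  -- endomorphisms
  have hinjg : ∀ g : E →ₐ[A] E, Function.Injective g := fun g => by
    refine (injective_iff_map_eq_zero g).mpr fun x hx => by_contra fun hne => ?_
    obtain ⟨r, hr, c, hc⟩ := (Algebra.IsIntegral.isIntegral (R := A) x).isAlgebraic.exists_nonzero_dvd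
      (mem_nonZeroDivisors_of_ne_zero hne)
    refine hr ((map_eq_zero_iff _ (FaithfulSMul.algebraMap_injective A E)).mp ?_)
    rw [← g.commutes r, hc, map_mul, hx, zero_mul]
  let Θ : (E →ₐ[A] E) → (K₂ →ₐ[K] K₂) := fun g =>
    { IsFractionRing.map (A := E) (B := E) (K := K₂) (L := K₂) (j := g.toRingHom) (hinjg g) with
      commutes' := fun c => by
        obtain ⟨p, q, rfl⟩ := IsLocalization.exists_mk'_eq A⁰ c
        have key : ∀ a : A, IsFractionRing.map (A := E) (B := E) (K := K₂) (L := K₂)
            (j := g.toRingHom) (hinjg g) (algebraMap A K₂ a) = algebraMap A K₂ a := fun a => by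
          rw [IsScalarTower.algebraMap_apply A E K₂]
          exact (IsLocalization.map_eq _ _).trans (congrArg _ (g.commutes a))
        have hq : IsUnit (algebraMap A K₂ q) := by
          rw [IsScalarTower.algebraMap_apply A K K₂]
          exact (IsLocalization.map_units K q).map _
        refine hq.mul_left_injective ?_
        let ψ := IsFractionRing.map (A := E) (B := E) (K := K₂) (L := K₂) (j := g.toRingHom) (hinjg g)
        show ψ (algebraMap K K₂ (IsLocalization.mk' K p q)) * algebraMap A K₂ q =
          algebraMap K K₂ (IsLocalization.mk' K p q) * algebraMap A K₂ q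
        rw [← key q, ← map_mul, key q, IsScalarTower.algebraMap_apply A K K₂, ← map_mul,
          IsLocalization.mk'_spec, ← IsScalarTower.algebraMap_apply]
        exact key p }
  have hΘ : ∀ g x, Θ g (algebraMap E K₂ x) = algebraMap E K₂ (g x) := fun g x => by
    show IsFractionRing.map (A := E) (B := E) (K := K₂) (L := K₂) (j := g.toRingHom) (hinjg g)
      (algebraMap E K₂ x) = _
    exact IsLocalization.map_eq _ x
  have hΘinj : Function.Injective Θ := fun g h e => AlgHom.ext fun x =>
    IsFractionRing.injective E K₂ (by rw [← hΘ, ← hΘ, e])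
  -- counting
  have hcard : n ≤ Nat.card (E →ₐ[A] E) := by
    haveI := ‹Hensel.IsStrictHenselization A S›.isSepClosure
    haveI : IsSepClosed (ResidueField S) := IsSepClosure.sep_closed (ResidueField A)
    haveI := ‹Hensel.IsStrictHenselization A S›.henselian
    let e := AddEquiv.toLinearEquiv (R := A ⧸ maximalIdeal A) (Ideal.quotEquivOfEq
      (Algebra.FormallyUnramified.map_maximalIdeal (R := A) (S := E))).toAddEquiv (fun r x => by
        obtain ⟨r, rfl⟩ := Ideal.Quotient.mk_surjective r
        obtain ⟨x, rfl⟩ := Ideal.Quotient.mk_surjective x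
        simp only [RingEquiv.toAddEquiv_eq_coe]; rfl)
    have hn : Module.finrank (ResidueField A) (ResidueField E) = n := by
      show _ = Module.finrank A E
      rw [← finrank_quotient_map (R := A) (S := E)]
      exact e.finrank_eq.symm
    have hsplit := AlgHom.card_of_splits (ResidueField A) (ResidueField E) (ResidueField S) fun x =>
      IsSepClosed.splits_codomain _ (Algebra.IsSeparable.isSeparable (ResidueField A) x)
    rw [← hn, ← hsplit, ← Nat.card_eq_fintype_card]
    have hlift : ∀ α : ResidueField E →ₐ[ResidueField A] ResidueField S,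
        ∃ g : E →ₐ[A] E, ∀ x, residue S ((g x : E) : S) = α (residue E x) := fun α => by
      obtain ⟨ψ, ⟨-, hψ, hres⟩, -⟩ := HenselLib.EssEtMaps.existsUnique_lift hE S (algebraMap A S) α
        (RingHom.ext fun r => α.commutes r)
      let φ : E →ₐ[A] S := { ψ with commutes' := fun a => RingHom.congr_fun hψ a }
      exact ⟨φ.codRestrict E (hstab φ), hres⟩
    choose G hG using hlift
    haveI : Finite (E →ₐ[A] E) := Finite.of_injective Θ hΘinj
    refine Nat.card_le_card_of_injective G fun α β h => AlgHom.ext fun z => ?_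
    obtain ⟨x, rfl⟩ := IsLocalRing.residue_surjective z
    rw [← hG α x, h, hG β x]
  have hbij : Function.Bijective Θ := by
    haveI : Finite (E →ₐ[A] E) := Finite.of_injective Θ hΘinj
    refine hΘinj.bijective_of_nat_card_le ?_
    rw [Nat.card_eq_fintype_card]
    exact (AlgHom.card_le.trans hrank).trans hcard
  haveI : IsGalois K K₂ := IsGalois.of_card_aut_eq_finrank (F := K) (E := K₂) (le_antisymm
    (Nat.card_eq_fintype_card.trans_le AlgEquiv.card_le)
    (hrank.trans (hcard.trans (by
      rw [Nat.card_congr ((Equiv.ofBijective Θ hbij).trans (algEquivEquivAlgHom K K₂).toEquiv.symm)]))))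
  let M : IntermediateField K K₂ :=
    L.toIntermediateField fun c => by
      obtain ⟨p, q, rfl⟩ := IsLocalization.exists_mk'_eq A⁰ c
      have hq : algebraMap A K₂ q ≠ 0 := (map_ne_zero_iff _ (FaithfulSMul.algebraMap_injective A K₂)).mpr
        (nonZeroDivisors.ne_zero q.2)
      have h1 : algebraMap K K₂ (IsLocalization.mk' K p q) = algebraMap A K₂ p / algebraMap A K₂ q := by
        rw [eq_div_iff hq, IsScalarTower.algebraMap_apply A K K₂, ← map_mul, IsLocalization.mk'_spec,
          ← IsScalarTower.algebraMap_apply]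
      rw [h1]
      exact L.div_mem (hL p) (hL q)
  haveI : Finite (E →ₐ[A] E) := Finite.of_injective Θ hΘinj
  haveI := Fintype.ofFinite (E →ₐ[A] E)
  refine ⟨Finset.univ.filter fun g => ∀ z ∈ L, Θ g z = z, ?_, ?_, fun g _ => hinjg g, fun x => ?_⟩
  · refine Finset.mem_filter.mpr ⟨Finset.mem_univ _, fun z _ => ?_⟩
    have : Θ (AlgHom.id A E) = AlgHom.id K K₂ := by
      refine AlgHom.coe_ringHom_injective (IsLocalization.ringHom_ext E⁰ (RingHom.ext fun x => ?_))
      exact hΘ _ x
    rw [this]; rfl
  · intro g hg h hh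
    refine Finset.mem_filter.mpr ⟨Finset.mem_univ _, fun z hz => ?_⟩
    have : Θ (g.comp h) = (Θ g).comp (Θ h) := by
      refine AlgHom.coe_ringHom_injective (IsLocalization.ringHom_ext E⁰ (RingHom.ext fun x => ?_))
      show Θ (g.comp h) (algebraMap E K₂ x) = Θ g (Θ h (algebraMap E K₂ x))
      rw [hΘ, hΘ, hΘ]; rfl
    rw [this]
    show Θ g (Θ h z) = z
    rw [(Finset.mem_filter.mp hh).2 z hz, (Finset.mem_filter.mp hg).2 z hz]
  · refine ⟨fun hx h hh => IsFractionRing.injective E K₂ ?_, fun hfix => ?_⟩
    · rw [← hΘ]; exact (Finset.mem_filter.mp hh).2 _ hx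
    · show algebraMap E K₂ x ∈ M
      rw [← IsGalois.fixedField_fixingSubgroup M, IntermediateField.mem_fixedField_iff]
      intro τ hτ
      obtain ⟨g, hg⟩ := hbij.2 τ.toAlgHom
      have hgH : g ∈ Finset.univ.filter fun g => ∀ z ∈ L, Θ g z = z := by
        refine Finset.mem_filter.mpr ⟨Finset.mem_univ _, fun z hz => ?_⟩
        rw [hg]
        exact (IntermediateField.mem_fixingSubgroup_iff M τ).mp hτ z hz
      show τ.toAlgHom (algebraMap E K₂ x) = _
      rw [← hg, hΘ, hfix g hgH]

end Groth.Agent.EssEt6
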