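import Groth.Agent.EssEt6.LocalSub
import Groth.Agent.EssEt6.Between
import Groth.Agent.HenselLib.EssEtMaps
import Groth.Agent.HenselLib.QFLocal
import Mathlib.RingTheory.LocalRing.Etale
import Mathlib.RingTheory.Unramified.LocalStructure
import Mathlib.FieldTheory.PrimitiveElement
import Mathlib.FieldTheory.IsSepClosed

/-!
# Normal finite etale stages inside the strict henselization of a henselian local ring
-/

set_option autoImplicit false
set_option linter.style.haveILetI false

universe u

open IsLocalRing

namespace Groth.Agent.EssEt6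

/-- An essentially etale local algebra over a henselian local ring is finite. -/
theorem finite_of_henselian {A E : Type u} [CommRing A] [HenselianLocalRing A] [CommRing E] [Algebra A E]
    (h : EGA4loc.IsEssentiallyEtale A E) : Module.Finite A E := by
  obtain ⟨C, _, _, q, _, hC, hq, ⟨e⟩⟩ := h
  haveI := hC
  haveI : Algebra.QuasiFiniteAt A q := inferInstance
  haveI := (HenselLib.QFLocal.surjective_and_finite A q hq).2
  exact Module.Finite.equiv e.symm.toLinearEquiv

variable {A S : Type u} [CommRing A] [HenselianLocalRing A] [CommRing S] [IsLocalRing S]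
  [Algebra A S] [IsLocalHom (algebraMap A S)] [Hensel.IsStrictHenselization A S]

omit [Hensel.IsStrictHenselization A S] in
/-- Subalgebras generated by images of an unramified algebra are unramified. -/
theorem formallyUnramified_adjoin_range {E : Type u} [CommRing E] [Algebra A E]
    [Algebra.FormallyUnramified A E] {ι : Type*} (φ : ι → E →ₐ[A] S) :
    Algebra.FormallyUnramified A (Algebra.adjoin A (⋃ i, Set.range (φ i))) := by
  let U := Algebra.adjoin A (⋃ i, Set.range (φ i))
  refine ⟨subsingleton_of_forall_eq 0 fun ω => ?_⟩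
  have hd : ∀ x : U, KaehlerDifferential.D A U x = 0 := by
    rintro ⟨x, hx⟩
    induction hx using Algebra.adjoin_induction with
    | mem x hx =>
      obtain ⟨i, e, rfl⟩ := Set.mem_iUnion.mp hx
      let g : E →ₐ[A] U := (φ i).codRestrict U fun e' =>
        Algebra.subset_adjoin (Set.mem_iUnion.mpr ⟨i, e', rfl⟩)
      letI : Algebra E U := g.toRingHom.toAlgebra
      haveI : IsScalarTower A E U := IsScalarTower.of_algebraMap_eq fun a => (g.commutes a).symm
      have h0 : KaehlerDifferential.map A A E U (KaehlerDifferential.D A E e) =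
          KaehlerDifferential.D A U (g e) := KaehlerDifferential.map_D A A E U e
      rw [Subsingleton.elim (KaehlerDifferential.D A E e) 0, map_zero] at h0
      exact h0.symm
    | algebraMap r => exact Derivation.map_algebraMap _ r
    | add x y hx hy ihx ihy =>
      rw [show (⟨x + y, _⟩ : U) = ⟨x, hx⟩ + ⟨y, hy⟩ from rfl, map_add, ihx, ihy, add_zero]
    | mul x y hx hy ihx ihy =>
      rw [show (⟨x * y, _⟩ : U) = ⟨x, hx⟩ * ⟨y, hy⟩ from rfl, Derivation.leibniz, ihx, ihy, smul_zero,
        smul_zero, add_zero]
  have hω : ω ∈ Submodule.span U (Set.range (KaehlerDifferential.D A U)) :=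
    (KaehlerDifferential.span_range_derivation A U).symm ▸ Submodule.mem_top
  induction hω using Submodule.span_induction with
  | mem x hx => obtain ⟨y, rfl⟩ := hx; exact hd y
  | zero => rfl
  | add x y _ _ hx hy => rw [hx, hy, add_zero]
  | smul a x _ hx => rw [hx, smul_zero]

variable (A S) in
/-- Every finite subset lies in a finite etale stage stable under all maps into the strict
henselization. -/
theorem exists_normal_stage (s : Finset S) :
    ∃ E : Subalgebra A S, (s : Set S) ⊆ E ∧ ∃ _ : IsLocalRing E, IsLocalHom (algebraMap E S) ∧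
      EGA4loc.IsEssentiallyEtale A E ∧ Module.Finite A E ∧ ∀ φ : E →ₐ[A] S, ∀ x, φ x ∈ E := by
  classical
  obtain ⟨E, hsE, _, hlh, hE⟩ := exists_subalgebra (A := A) S s
  haveI := formallyUnramified hE
  haveI := finite_of_henselian hE
  let U := Algebra.adjoin A (⋃ φ : E →ₐ[A] S, Set.range φ)
  haveI : Algebra.FormallyUnramified A U := formallyUnramified_adjoin_range _
  have hEU : E ≤ U := fun x hx => Algebra.subset_adjoin (Set.mem_iUnion.mpr ⟨E.val, ⟨x, hx⟩, rfl⟩)
  -- finitely many maps
  haveI : Finite (E →ₐ[A] S) := by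
    haveI := isLocalHom hE
    have hloc : ∀ φ : E →ₐ[A] S, IsLocalHom φ.toRingHom := fun φ =>
      ((local_hom_TFAE φ.toRingHom).out 2 0).mp (by
        rw [← map_maximalIdeal hE, Ideal.map_map, show φ.toRingHom.comp (algebraMap A E) = algebraMap A S from φ.comp_algebraMap]
        exact ((local_hom_TFAE (algebraMap A S)).out 0 2).mp ‹_›)
    let res : (E →ₐ[A] S) → (ResidueField E →ₐ[ResidueField A] ResidueField S) := fun φ =>
      haveI := hloc φ
      { ResidueField.map φ.toRingHom with
        commutes' := fun r => by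
          obtain ⟨a, rfl⟩ := IsLocalRing.residue_surjective r
          exact congrArg (residue S) (φ.commutes a) }
    haveI := essFiniteType hE
    refine Finite.of_injective res fun φ ψ h => eq_of_residue_eq hE φ ψ fun x => ?_
    exact DFunLike.congr_fun h (residue E x)
  haveI : Module.Finite A U := by
    obtain ⟨t, ht⟩ := Module.Finite.fg_top (R := A) (M := E)
    let T : Set S := ⋃ φ : E →ₐ[A] S, φ '' (t : Set E)
    have hT : T.Finite := Set.finite_iUnion fun φ => t.finite_toSet.image _
    have hU : U = Algebra.adjoin A T := by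
      refine le_antisymm (Algebra.adjoin_le (Set.iUnion_subset fun φ => ?_))
        (Algebra.adjoin_mono (Set.iUnion_mono fun φ => Set.image_subset_range _ _))
      rintro _ ⟨x, rfl⟩
      have hx : x ∈ Submodule.span A (t : Set E) := ht ▸ Submodule.mem_top
      induction hx using Submodule.span_induction with
      | mem x hx => exact Algebra.subset_adjoin (Set.mem_iUnion.mpr ⟨φ, x, hx, rfl⟩)
      | zero => rw [map_zero]; exact zero_mem _
      | add x y _ _ hx hy => rw [map_add]; exact add_mem hx hy
      | smul a x _ hx => rw [map_smul]; exact Subalgebra.smul_mem _ hx a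
    rw [hU]
    exact ⟨(Submodule.fg_top _).mpr (fg_adjoin_of_finite hT fun y hy => by
      obtain ⟨φ, x, -, rfl⟩ := Set.mem_iUnion.mp hy
      exact (Algebra.IsIntegral.isIntegral x).map φ)⟩
  haveI hlU : IsLocalHom (algebraMap U S) := by
    refine ⟨fun u hu => ?_⟩
    by_contra h
    obtain ⟨M, hM, huM⟩ := exists_max_ideal_of_mem_nonunits h
    -- a maximal ideal of an integral algebra is the trace of the maximal ideal of `S`
    haveI := hM
    let P : Ideal U := (maximalIdeal S).comap (algebraMap U S)
    haveI : P.IsPrime := Ideal.comap_isPrime _ _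
    have hPmax : P.IsMaximal := by
      refine Ideal.isMaximal_of_isIntegral_of_isMaximal_comap (R := A) (S := U) P ?_
      have h4 : (maximalIdeal S).comap (algebraMap A S) = maximalIdeal A :=
        ((local_hom_TFAE (algebraMap A S)).out 0 4).mp ‹_›
      rw [Ideal.comap_comap, ← IsScalarTower.algebraMap_eq, h4]
      exact IsLocalRing.maximalIdeal.isMaximal A
    haveI := HenselLib.isArtinianRing_closedFibre A U
    obtain ⟨-, he⟩ := HenselLib.exists_idempotents_maximalSpectrum _
      (HenselLib.map_maximalIdeal_le_jacobson A U)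
      ((HenselLib.isPiLocal_iff_idemLift A U).mp (HenselLib.isPiLocal_of_henselian A U))
    obtain ⟨e, hidem, heM, hothers⟩ := he ⟨M, hM⟩
    have hne : (⟨P, hPmax⟩ : MaximalSpectrum U) ≠ ⟨M, hM⟩ := fun h' => by
      have hPM : P = M := congrArg MaximalSpectrum.asIdeal h'
      have hP' : u ∈ P := by rw [hPM]; exact huM
      exact ((mem_maximalIdeal _).mp hP') hu
    have heP : e ∈ P := hothers _ hne
    have hnot : ¬ IsUnit (algebraMap U S e) := (mem_maximalIdeal _).mp heP
    have h1 : IsUnit (1 - algebraMap U S e) :=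
      (IsLocalRing.isUnit_or_isUnit_one_sub_self _).resolve_left hnot
    have he0 : algebraMap U S e = 0 := h1.mul_right_eq_zero.mp (by
      rw [sub_mul, one_mul, ← map_mul, hidem.eq, sub_self])
    exact heM ((Subtype.ext he0 : e = 0) ▸ M.zero_mem)
  haveI : IsLocalRing U := isLocalRing_of_isLocalHom U
  haveI := isLocalHom_algebraMap (A := A) U
  haveI := flat_strict (A := A) S
  haveI : IsLocalHom U.val.toRingHom := hlU
  haveI : Algebra.EssFiniteType A U := inferInstance
  refine ⟨U, hsE.trans hEU, ‹_›, hlU, of_unramified U.val Subtype.val_injective, ‹_›, fun ψ x => ?_⟩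
  obtain ⟨x, hx⟩ := x
  induction hx using Algebra.adjoin_induction with
  | mem x hx =>
    obtain ⟨φ, e, rfl⟩ := Set.mem_iUnion.mp hx
    let g : E →ₐ[A] U := φ.codRestrict U fun e' =>
      Algebra.subset_adjoin (Set.mem_iUnion.mpr ⟨φ, e', rfl⟩)
    exact Algebra.subset_adjoin (Set.mem_iUnion.mpr ⟨ψ.comp g, e, rfl⟩)
  | algebraMap r => exact (ψ.commutes r).symm ▸ U.algebraMap_mem r
  | add x y hx hy ihx ihy =>
    rw [show (⟨x + y, _⟩ : U) = ⟨x, hx⟩ + ⟨y, hy⟩ from rfl, map_add]; exact add_mem ihx ihy
  | mul x y hx hy ihx ihy =>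
    rw [show (⟨x * y, _⟩ : U) = ⟨x, hx⟩ * ⟨y, hy⟩ from rfl, map_mul]; exact mul_mem ihx ihy

end Groth.Agent.EssEt6
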