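import Groth.Agent.EssEt6.StageRees
import Groth.Agent.HenselLib.HensBase

/-!
# Henselizations of dominated subalgebras which are ind essentially etale
-/

set_option autoImplicit false
set_option linter.style.haveILetI false
set_option maxSynthPendingDepth 6

universe u

open nonZeroDivisors IsLocalRing
open scoped TensorProduct

namespace Groth.Agent.EssEt6

section Henselization

variable {D Dh : Type u} [CommRing D] [IsLocalRing D] [CommRing Dh] [IsLocalRing Dh] [Algebra D Dh]
  [IsLocalHom (algebraMap D Dh)] [Hensel.IsHenselization D Dh]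

theorem exists_residue_eq_henselization (x : Dh) : ∃ d : D, x - algebraMap D Dh d ∈ maximalIdeal Dh := by
  obtain ⟨e⟩ := HenselLib.exists_equiv_localH (R := D) Dh
  obtain ⟨d, hd⟩ := Ideal.Quotient.mk_surjective (HenselLib.hullPt D (D ⧸ maximalIdeal D) (e.symm x))
  refine ⟨d, ?_⟩
  rw [mem_maximalIdeal, mem_nonunits_iff]
  intro hu
  have h1 := (hu.map e.symm).map (HenselLib.hullPt D (D ⧸ maximalIdeal D))
  rw [map_sub e.symm, e.symm.commutes, map_sub, AlgHom.commutes, ← hd] at h1
  letI := Ideal.Quotient.field (maximalIdeal D)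
  exact h1.ne_zero (sub_self _)

theorem flat_henselization : Module.Flat D Dh := by
  obtain ⟨e⟩ := HenselLib.exists_equiv_localH (R := D) Dh
  exact Module.Flat.of_linearEquiv e.symm.toLinearEquiv

theorem isLocalHom_of_tower {S : Type u} [CommRing S] [IsLocalRing S] [Algebra D S] [Algebra Dh S]
    [IsScalarTower D Dh S] [IsLocalHom (algebraMap D S)] : IsLocalHom (algebraMap Dh S) :=
  ((local_hom_TFAE (algebraMap Dh S)).out 2 0).mp (by
    rw [← HenselLib.HensBase.map_maximalIdeal_of_isHenselization D Dh, Ideal.map_map, ← IsScalarTower.algebraMap_eq]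
    exact ((local_hom_TFAE (algebraMap D S)).out 0 2).mp ‹_›)

end Henselization

variable {A S : Type u} [CommRing A] [IsLocalRing A] [IsReduced A] [IsNoetherianRing A]
  [CommRing S] [IsLocalRing S] [Algebra A S]
  [IsLocalHom (algebraMap A S)] [Hensel.IsStrictHenselization A S]

/-- Residual injectivity in the strict henselization. -/
theorem lies_over_strict (hA : CAlg.IsNagata A) (D : Subalgebra A S) [IsLocalRing D]
    [IsLocalHom (algebraMap D S)] (hsurj : Function.Surjective (resNorm D))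
    (hker : fibreIdeal A S D ≤ RingHom.ker (resNorm D)) :
    ∀ P : Ideal (normalization D), P.IsMaximal →
      ∃ Q : Ideal (integralClosure S (FractionRing S)), Q.IsMaximal ∧ Q.comap (toAmbient D) = P := by
  classical
  intro P hP
  let J := Ideal.jacobson (⊥ : Ideal (normalization D))
  have hfinQ := finite_maximal_strict (S := S) hA
  have hle : hfinQ.toFinset.inf (fun M => M.comap (toAmbient D)) ≤ P := fun x hx => by
    rw [Submodule.mem_finsetInf] at hx
    obtain ⟨ζ, hζ⟩ := hsurj (Ideal.Quotient.mkₐ A J x)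
    have hr : x - prodNorm D ζ ∈ J := Ideal.Quotient.eq.mp hζ.symm
    let ζ' := Algebra.TensorProduct.map (AlgHom.id A (baseNorm A S)) D.val ζ
    have h3 : ζ' ∈ fibreIdeal A S S := mem_fibreIdeal_of_forall hA fun Q hQ => by
      haveI := hQ
      rw [show (⟨(prodTop ζ' : FractionRing S), (prodTop ζ').2⟩ : integralClosure S (FractionRing S)) =
        toAmbient D (prodNorm D ζ) from Subtype.ext (prodNorm_val D ζ).symm,
        show prodNorm D ζ = x - (x - prodNorm D ζ) by ring, map_sub]
      exact sub_mem (hx Q (hfinQ.mem_toFinset.mpr hQ))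
        (mem_jacobson_bot_iff_forall.mp hr _ (isMaximal_comap_toAmbient D Q))
    have h4 : prodNorm D ζ ∈ J :=
      Ideal.Quotient.eq_zero_iff_mem.mp (hker (fibreIdeal_le_comap_strict h3))
    have h5 : x ∈ J := by simpa using add_mem hr h4
    exact mem_jacobson_bot_iff_forall.mp h5 P hP
  obtain ⟨M, hM, hMP⟩ := (Ideal.IsPrime.inf_le' hP.isPrime).mp hle
  haveI : M.IsMaximal := hfinQ.mem_toFinset.mp hM
  exact ⟨M, inferInstance, (isMaximal_comap_toAmbient D M).eq_of_le hP.ne_top hMP⟩

/-- The residual product property makes the henselization ind essentially etale. -/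
theorem indEtale_of_residualProd (hA : CAlg.IsNagata A) (D : Subalgebra A S) [IsLocalRing D]
    [IsLocalHom (algebraMap D S)]
    (Dh : Type u) [CommRing Dh] [IsLocalRing Dh] [Algebra D Dh] [IsLocalHom (algebraMap D Dh)]
    [Hensel.IsHenselization D Dh] [Algebra Dh S] [IsScalarTower D Dh S]
    (hsurj : Function.Surjective (resNorm D))
    (hker : fibreIdeal A S D ≤ RingHom.ker (resNorm D)) :
    Function.Injective (algebraMap Dh S) ∧
        ∀ s : Finset S, (s : Set S) ⊆ Set.range (algebraMap Dh S) →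
          ∃ E : Subalgebra A S, (s : Set S) ⊆ (E : Set S) ∧ (E : Set S) ⊆ Set.range (algebraMap Dh S) ∧
            ∃ _ : IsLocalRing E, EGA4loc.IsEssentiallyEtale A E := by
  classical
  haveI := flat_strict (A := A) S
  haveI : HenselianLocalRing S := Hensel.IsStrictHenselization.henselian (R := A)
  haveI : HenselianLocalRing Dh := Hensel.IsHenselization.henselian (R := D)
  haveI : IsLocalHom (algebraMap Dh S) := isLocalHom_of_tower (D := D)
  letI : Algebra A Dh := ((algebraMap D Dh).comp (algebraMap A D)).toAlgebra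
  haveI : IsScalarTower A D Dh := IsScalarTower.of_algebraMap_eq fun _ => rfl
  haveI : IsScalarTower A Dh S := IsScalarTower.of_algebraMap_eq fun a => by
    rw [IsScalarTower.algebraMap_apply A D Dh, ← IsScalarTower.algebraMap_apply D Dh S,
      ← IsScalarTower.algebraMap_apply A D S]
  haveI : IsLocalHom (algebraMap A Dh) :=
    ⟨fun a ha => IsUnit.of_map (algebraMap A S) a (by
      rw [IsScalarTower.algebraMap_apply A Dh S]; exact ha.map _)⟩
  let θ : Dh →ₐ[A] S := IsScalarTower.toAlgHom A Dh S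
  let j : ResidueField Dh →+* ResidueField S := ResidueField.map (algebraMap Dh S)
  have hη : ∀ d : D, θ (algebraMap D Dh d) = (d : S) := fun d =>
    (IsScalarTower.algebraMap_apply D Dh S d).symm
  -- the image is contained in the fixed subalgebra
  have hθC : ∀ x : Dh, θ x ∈ fixSub D := by
    intro x σ hσ
    obtain ⟨g, -, hg⟩ := Hensel.IsHenselization.universal (R := D) (S := Dh) S (algebraMap D S) ‹_›
    have h1 : σ.toRingEquiv.toRingHom.comp (algebraMap Dh S) = g := hg _ (RingHom.ext fun d => by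
      show σ (algebraMap Dh S (algebraMap D Dh d)) = _
      rw [← IsScalarTower.algebraMap_apply]
      exact hσ d d.2)
    have h2 : algebraMap Dh S = g := hg _ (RingHom.ext fun d => (IsScalarTower.algebraMap_apply D Dh S d).symm)
    exact RingHom.congr_fun (h1.trans h2.symm) x
  -- lifts of stages of the fixed subalgebra
  have hlift : ∀ (E : Subalgebra A S) [IsLocalRing E], EGA4loc.IsEssentiallyEtale A E → E ≤ fixSub D →
      ∃ ψ : E →ₐ[A] Dh, ∀ e, θ (ψ e) = (e : S) := by
    intro E _ hE hEC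
    haveI := isLocalHom hE
    haveI := isLocalHom_stage hE
    have hj : Function.Injective j := j.injective
    let ι : ResidueField E →+* ResidueField S := ResidueField.map (algebraMap E S)
    have hrange : ∀ x, ι x ∈ j.range := fun x => by
      obtain ⟨e, rfl⟩ := IsLocalRing.residue_surjective x
      obtain ⟨d, hd, hed⟩ := residue_mem_of_fixSub hA D hsurj (hEC e.2)
      refine ⟨residue Dh (algebraMap D Dh ⟨d, hd⟩), ?_⟩
      show residue S (θ (algebraMap D Dh ⟨d, hd⟩)) = residue S (e : S)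
      rw [hη, eq_comm, ← sub_eq_zero, ← map_sub, residue_eq_zero_iff]
      exact hed
    let ej : ResidueField Dh ≃+* j.range :=
      RingEquiv.ofBijective j.rangeRestrict ⟨fun a b h => hj (congrArg Subtype.val h), j.rangeRestrict_surjective⟩
    let α : ResidueField E →+* ResidueField Dh := ej.symm.toRingHom.comp (ι.codRestrict j.range hrange)
    have hα : ∀ x, j (α x) = ι x := fun x => congrArg Subtype.val (ej.apply_symm_apply ⟨ι x, hrange x⟩)
    obtain ⟨ψ, ⟨-, hψA, hψr⟩, -⟩ := HenselLib.EssEtMaps.existsUnique_lift hE Dh (algebraMap A Dh) α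
      (RingHom.ext fun x => by
        obtain ⟨a, rfl⟩ := IsLocalRing.residue_surjective x
        refine hj ((hα _).trans ?_)
        show residue S (algebraMap A S a) = residue S (algebraMap Dh S (algebraMap A Dh a))
        rw [← IsScalarTower.algebraMap_apply])
    let ψ' : E →ₐ[A] Dh := { ψ with commutes' := fun a => RingHom.congr_fun hψA a }
    refine ⟨ψ', fun e => DFunLike.congr_fun (eq_of_residue_eq hE (θ.comp ψ') E.val fun b => ?_) e⟩
    show residue S (algebraMap Dh S (ψ b)) = residue S (b : S)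
    exact (congrArg j (hψr b)).trans (hα _)
  have huniq : ∀ (E : Subalgebra A S) [IsLocalRing E], EGA4loc.IsEssentiallyEtale A E →
      ∀ ψ ψ' : E →ₐ[A] Dh, (∀ e, θ (ψ e) = (e : S)) → (∀ e, θ (ψ' e) = (e : S)) → ψ = ψ' := by
    intro E _ hE ψ ψ' h h'
    refine eq_of_residue_eq hE ψ ψ' fun b => j.injective ?_
    show residue S (θ (ψ b)) = residue S (θ (ψ' b))
    rw [h, h']
  -- the stages through the elements of `D`
  have hfact : ∀ (E : Subalgebra A S) [IsLocalRing E], EGA4loc.IsEssentiallyEtale A E → E ≤ fixSub D →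
      ∀ ψ : E →ₐ[A] Dh, (∀ e, θ (ψ e) = (e : S)) →
      ∀ (d : D) (hd : (d : S) ∈ E), ψ ⟨(d : S), hd⟩ = algebraMap D Dh d := by
    intro E _ hE hEC ψ hψ d hd
    haveI := essFiniteType hE
    haveI := formallyUnramified hE
    choose δg hδgD hδg using fun g : E => residue_mem_of_fixSub hA D hsurj (hEC g.2)
    let s : Finset S := insert (d : S) ((Algebra.EssFiniteType.finset A E).image δg)
    have hsD : (s : Set S) ⊆ D := fun x hx => by
      rcases Finset.mem_insert.mp hx with rfl | h
      · exact d.2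
      · obtain ⟨g, -, rfl⟩ := Finset.mem_image.mp h
        exact hδgD g
    let C₀ := Algebra.adjoin A (s : Set S)
    let D₀ := localSub C₀
    haveI : Algebra.FiniteType A C₀ := (Subalgebra.fg_iff_finiteType C₀).mp ⟨s, rfl⟩
    haveI := essFiniteType_localSub C₀
    have hsD₀ : (s : Set S) ⊆ D₀ := Algebra.subset_adjoin.trans (le_localSub C₀)
    have h0 : D₀ ≤ D := localSub_le (Algebra.adjoin_le hsD)
    obtain ⟨D₂, h02, h2D, hl2, hef2, c, hc⟩ :=
      exists_stage_rees hA D (lies_over_strict hA D hsurj hker) D₀ h0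
    haveI := hl2
    haveI := hef2
    haveI : IsLocalRing D₂ := isLocalRing_of_isLocalHom D₂
    haveI : IsNoetherianRing D₂ := Algebra.EssFiniteType.isNoetherianRing A D₂
    -- the two base changes of the stage
    let μ₀ : D₀ ⊗[A] E →ₐ[A] Dh := Algebra.TensorProduct.productMap
      ((IsScalarTower.toAlgHom A D Dh).comp (Subalgebra.inclusion h0)) ψ
    let μ₂ : D₂ ⊗[A] E →ₐ[A] Dh := Algebra.TensorProduct.productMap
      ((IsScalarTower.toAlgHom A D Dh).comp (Subalgebra.inclusion h2D)) ψ
    let lam : D₀ ⊗[A] E →ₐ[A] D₂ ⊗[A] E :=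
      Algebra.TensorProduct.map (Subalgebra.inclusion h02) (AlgHom.id A E)
    have hlam : μ₂.comp lam = μ₀ := Algebra.TensorProduct.ext' fun a e => rfl
    have hμD₀ : ∀ a : D₀, μ₀ (algebraMap D₀ (D₀ ⊗[A] E) a) = algebraMap D Dh ⟨a, h0 a.2⟩ := fun a => by
      show μ₀ (a ⊗ₜ 1) = _
      simp [μ₀]
      rfl
    have hμD₂ : ∀ a : D₂, μ₂ (algebraMap D₂ (D₂ ⊗[A] E) a) = algebraMap D Dh ⟨a, h2D a.2⟩ := fun a => by
      show μ₂ (a ⊗ₜ 1) = _
      simp [μ₂]
      rfl
    let P₀ : Ideal (D₀ ⊗[A] E) := (maximalIdeal Dh).comap μ₀.toRingHom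
    let P₂ : Ideal (D₂ ⊗[A] E) := (maximalIdeal Dh).comap μ₂.toRingHom
    haveI : P₀.IsPrime := Ideal.comap_isPrime _ _
    haveI : P₂.IsPrime := Ideal.comap_isPrime _ _
    let T₀ := Localization.AtPrime P₀
    let T₂ := Localization.AtPrime P₂
    let Λ : T₀ →+* T₂ := Localization.localRingHom P₀ P₂ lam.toRingHom (by
      show (maximalIdeal Dh).comap μ₀.toRingHom = ((maximalIdeal Dh).comap μ₂.toRingHom).comap lam.toRingHom
      rw [Ideal.comap_comap, ← hlam]
      rfl)
    have hunit₂ : ∀ r : P₂.primeCompl, IsUnit (μ₂.toRingHom r) := fun r => notMem_maximalIdeal.mp r.2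
    let χ : T₂ →+* Dh := IsLocalization.lift (M := P₂.primeCompl) hunit₂
    have hres : ∀ r : D₀ ⊗[A] E, ∃ a : D₀, r - algebraMap D₀ _ a ∈ P₀ := by
      intro r
      have hgen : ∀ e : E, ∃ a : D₀, (e : S) - (a : S) ∈ maximalIdeal S := by
        let K₀ : Subalgebra A E :=
          { carrier := {e : E | ∃ a : D₀, (e : S) - (a : S) ∈ maximalIdeal S}
            mul_mem' := by
              rintro x y ⟨a, ha⟩ ⟨b, hb⟩
              refine ⟨a * b, ?_⟩
              show (x : S) * y - (a : S) * b ∈ _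
              rw [show (x : S) * y - (a : S) * b = ((x : S) - a) * y + (a : S) * ((y : S) - b) by ring]
              exact add_mem (Ideal.mul_mem_right _ _ ha) (Ideal.mul_mem_left _ _ hb)
            one_mem' := ⟨1, by simp⟩
            add_mem' := by
              rintro x y ⟨a, ha⟩ ⟨b, hb⟩
              refine ⟨a + b, ?_⟩
              show (x : S) + y - ((a : S) + b) ∈ _
              rw [add_sub_add_comm]
              exact add_mem ha hb
            zero_mem' := ⟨0, by simp⟩
            algebraMap_mem' := fun a => ⟨algebraMap A D₀ a, by simp⟩ }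
        have hK : ∀ c ∈ Algebra.adjoin A (Algebra.EssFiniteType.finset A E : Set E), c ∈ K₀ := fun c hc =>
          (Algebra.adjoin_le (S := K₀) fun g hg => ⟨⟨δg g, hsD₀
            (Finset.mem_insert_of_mem (Finset.mem_image_of_mem δg hg))⟩, hδg g⟩) hc
        intro e
        obtain ⟨⟨x, u⟩, h⟩ := IsLocalization.surj (Algebra.EssFiniteType.submonoid A E) e
        have huu : IsUnit (algebraMap (Algebra.EssFiniteType.subalgebra A E) E u) :=
          IsLocalization.map_units E u
        obtain ⟨a, ha⟩ := hK _ (u : Algebra.EssFiniteType.subalgebra A E).2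
        obtain ⟨b, hb⟩ := hK _ x.2
        have hau : IsUnit a := by
          refine IsUnit.of_map (algebraMap D₀ S) a (notMem_maximalIdeal.mp fun h' => ?_)
          have h2 := add_mem ha h'
          rw [show algebraMap D₀ S a = (a : S) from rfl, sub_add_cancel] at h2
          exact (mem_maximalIdeal _).mp h2 (huu.map E.val)
        obtain ⟨w, hw⟩ := hau.exists_right_inv
        refine ⟨b * w, ?_⟩
        have h1 : (e : S) * ((algebraMap (Algebra.EssFiniteType.subalgebra A E) E u : E) : S) =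
            ((x : E) : S) := congrArg (fun w : E => (w : S)) h
        have hw' : (a : S) * (w : S) = 1 := congrArg Subtype.val hw
        show (e : S) - (b : S) * w ∈ _
        rw [show (e : S) - (b : S) * w =
          (w : S) * (((x : E) : S) - b) -
            (w : S) * (e : S) * (((algebraMap (Algebra.EssFiniteType.subalgebra A E) E u : E) : S) - a) by
          linear_combination (-(e : S)) * hw' + (w : S) * h1]
        exact sub_mem (Ideal.mul_mem_left _ _ hb) (Ideal.mul_mem_left _ _ ha)
      induction r using TensorProduct.induction_on with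
      | zero => exact ⟨0, by simp⟩
      | tmul a e =>
        obtain ⟨b, hb⟩ := hgen e
        refine ⟨a * b, ?_⟩
        show μ₀ (a ⊗ₜ e - algebraMap D₀ _ (a * b)) ∈ maximalIdeal Dh
        rw [map_sub, hμD₀, show (⟨((a * b : D₀) : S), h0 (a * b).2⟩ : D) = ⟨a, h0 a.2⟩ * ⟨b, h0 b.2⟩ from rfl,
          map_mul, show μ₀ (a ⊗ₜ e) = algebraMap D Dh ⟨a, h0 a.2⟩ * ψ e by simp [μ₀]; rfl, ← mul_sub]
        refine Ideal.mul_mem_left _ _ ?_
        rw [mem_maximalIdeal, mem_nonunits_iff]
        intro hu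
        have h1 := hu.map θ
        rw [map_sub, hψ, hη] at h1
        exact (mem_maximalIdeal _).mp hb h1
      | add x y hx hy =>
        obtain ⟨a, ha⟩ := hx
        obtain ⟨b, hb⟩ := hy
        exact ⟨a + b, by rw [map_add, add_sub_add_comm]; exact add_mem ha hb⟩
    haveI : IsLocalHom (algebraMap D₀ T₀) := ⟨fun a ha => by
      rw [IsScalarTower.algebraMap_apply D₀ (D₀ ⊗[A] E) T₀,
        IsLocalization.AtPrime.isUnit_to_map_iff T₀ P₀] at ha
      refine IsUnit.of_map (algebraMap D₀ S) a ?_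
      have h1 := (notMem_maximalIdeal.mp ha).map θ
      change IsUnit (θ (μ₀ (algebraMap D₀ (D₀ ⊗[A] E) a))) at h1
      rw [hμD₀, hη] at h1
      exact h1⟩
    haveI : Algebra.FormallyUnramified (D₀ ⊗[A] E) T₀ :=
      Algebra.FormallyUnramified.of_isLocalization P₀.primeCompl
    haveI : Algebra.EssFiniteType (D₀ ⊗[A] E) T₀ :=
      Algebra.EssFiniteType.of_isLocalization T₀ P₀.primeCompl
    haveI : Algebra.FormallyUnramified D₀ T₀ := Algebra.FormallyUnramified.comp D₀ (D₀ ⊗[A] E) T₀
    haveI : Algebra.EssFiniteType D₀ T₀ := Algebra.EssFiniteType.comp D₀ (D₀ ⊗[A] E) T₀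
    have hmT : (maximalIdeal D₀).map (algebraMap D₀ T₀) = maximalIdeal T₀ :=
      Algebra.FormallyUnramified.map_maximalIdeal
    have hres' : ∀ x : T₀, ∃ a : D₀, x - algebraMap D₀ T₀ a ∈ maximalIdeal T₀ := by
      intro x
      obtain ⟨r, u, rfl⟩ := IsLocalization.exists_mk'_eq P₀.primeCompl x
      obtain ⟨a, ha⟩ := hres r
      obtain ⟨b, hb⟩ := hres u
      have hP : ∀ p ∈ P₀, algebraMap (D₀ ⊗[A] E) T₀ p ∈ maximalIdeal T₀ := fun p hp =>
        (IsLocalization.AtPrime.to_map_mem_maximal_iff T₀ P₀ p).mpr hp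
      have hbu : IsUnit b := by
        refine IsUnit.of_map (algebraMap D₀ T₀) b (notMem_maximalIdeal.mp fun h' => ?_)
        have h2 := add_mem (hP _ hb) h'
        rw [map_sub, IsScalarTower.algebraMap_apply D₀ (D₀ ⊗[A] E) T₀, sub_add_cancel] at h2
        exact (mem_maximalIdeal _).mp h2 (IsLocalization.map_units T₀ u)
      obtain ⟨w, hw⟩ := hbu.exists_right_inv
      refine ⟨a * w, ?_⟩
      have hsp := IsLocalization.mk'_spec T₀ r u
      have hw' : algebraMap D₀ T₀ b * algebraMap D₀ T₀ w = 1 := by rw [← map_mul, hw, map_one]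
      rw [map_mul]
      have h1 := hP _ ha
      have h2 := hP _ hb
      rw [map_sub, ← IsScalarTower.algebraMap_apply] at h1 h2
      rw [show IsLocalization.mk' T₀ r u - algebraMap D₀ T₀ a * algebraMap D₀ T₀ w =
        algebraMap D₀ T₀ w * (algebraMap (D₀ ⊗[A] E) T₀ r - algebraMap D₀ T₀ a) -
          algebraMap D₀ T₀ w * IsLocalization.mk' T₀ r u *
            (algebraMap (D₀ ⊗[A] E) T₀ (u : D₀ ⊗[A] E) - algebraMap D₀ T₀ b) by
        linear_combination (-IsLocalization.mk' T₀ r u) * hw' + algebraMap D₀ T₀ w * hsp]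
      exact sub_mem (Ideal.mul_mem_left _ _ h1) (Ideal.mul_mem_left _ _ h2)
    have happrox : ∀ (n : ℕ) (x : T₀), ∃ a : D₀,
        x - algebraMap D₀ T₀ a ∈ (maximalIdeal D₀ ^ n).map (algebraMap D₀ T₀) := by
      intro n
      induction n with
      | zero => exact fun x => ⟨0, by simp [Ideal.map_top]⟩
      | succ n ih =>
        intro x
        obtain ⟨a, ha⟩ := ih x
        have key : ∀ y ∈ (maximalIdeal D₀ ^ n).map (algebraMap D₀ T₀), ∃ b : D₀,
            y - algebraMap D₀ T₀ b ∈ (maximalIdeal D₀ ^ (n + 1)).map (algebraMap D₀ T₀) := by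
          intro y hy
          suffices h : ∀ c : T₀, ∃ b : D₀, c * y - algebraMap D₀ T₀ b ∈
              (maximalIdeal D₀ ^ (n + 1)).map (algebraMap D₀ T₀) by simpa using h 1
          refine Submodule.span_induction ?_ ?_ ?_ ?_ hy
          · rintro _ ⟨g, hg, rfl⟩ c
            obtain ⟨b, hb⟩ := hres' c
            refine ⟨b * g, ?_⟩
            rw [map_mul, ← sub_mul, pow_succ', Ideal.map_mul, hmT]
            exact Ideal.mul_mem_mul hb (Ideal.mem_map_of_mem _ hg)
          · exact fun c => ⟨0, by simp⟩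
          · intro y z _ _ hy hz c
            obtain ⟨b, hb⟩ := hy c
            obtain ⟨b', hb'⟩ := hz c
            exact ⟨b + b', by rw [mul_add, map_add, add_sub_add_comm]; exact add_mem hb hb'⟩
          · intro r y _ hy c
            rw [smul_eq_mul, ← mul_assoc]
            exact hy _
        obtain ⟨b, hb⟩ := key _ ha
        exact ⟨a + b, by rwa [map_add, ← sub_sub]⟩
    -- the difference of the two images
    let d₀ : D₀ := ⟨(d : S), hsD₀ (Finset.mem_insert_self _ _)⟩
    let xr : D₀ ⊗[A] E := d₀ ⊗ₜ 1 - 1 ⊗ₜ ⟨(d : S), hd⟩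
    let x₀ : T₀ := algebraMap (D₀ ⊗[A] E) T₀ xr
    have hxθ : θ (μ₀ xr) = 0 := by
      simp only [xr, μ₀, map_sub, Algebra.TensorProduct.productMap_apply_tmul, map_one, mul_one, one_mul]
      rw [hψ]
      exact sub_eq_zero.mpr (hη d)
    let Θ₀ : T₀ →+* S := θ.toRingHom.comp (χ.comp Λ)
    have hΘ₀ : ∀ r, Θ₀ (algebraMap (D₀ ⊗[A] E) T₀ r) = θ (μ₀ r) := fun r => by
      show θ (χ (Λ _)) = _
      rw [Localization.localRingHom_to_map, IsLocalization.lift_eq]
      exact congrArg θ (DFunLike.congr_fun hlam r)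
    have hΘD : ∀ a : D₀, Θ₀ (algebraMap D₀ T₀ a) = (a : S) := fun a => by
      rw [IsScalarTower.algebraMap_apply D₀ (D₀ ⊗[A] E) T₀, hΘ₀, hμD₀, hη]
    haveI : IsLocalHom (algebraMap A D₀) := isLocalHom_algebraMap D₀
    haveI : Algebra.EssFiniteType (D₂ ⊗[A] E) T₂ :=
      Algebra.EssFiniteType.of_isLocalization T₂ P₂.primeCompl
    haveI : Algebra.EssFiniteType D₂ T₂ := Algebra.EssFiniteType.comp D₂ (D₂ ⊗[A] E) T₂
    haveI : IsNoetherianRing T₂ := Algebra.EssFiniteType.isNoetherianRing D₂ T₂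
    have hm₂ : ((maximalIdeal D₀).map (algebraMap D₀ T₀)).map Λ ≤ maximalIdeal T₂ := by
      rw [hmT]
      haveI : IsLocalHom Λ := Localization.isLocalHom_localRingHom _ _ _ _
      exact ((local_hom_TFAE Λ).out 0 2).mp ‹_›
    have hinf : Λ x₀ ∈ (⨅ n : ℕ, maximalIdeal T₂ ^ n : Ideal T₂) := by
      rw [Ideal.mem_iInf]
      intro n
      obtain ⟨a, ha⟩ := happrox (n + c) x₀
      have h1 : (a : S) ∈ (maximalIdeal A ^ (n + c)).map (algebraMap A S) := by
        have h2 := Ideal.mem_map_of_mem Θ₀ ha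
        rw [map_sub, hΘ₀, hxθ, hΘD, zero_sub, Ideal.map_map,
          show Θ₀.comp (algebraMap D₀ T₀) = algebraMap D₀ S from RingHom.ext hΘD] at h2
        rw [Ideal.map_pow, HenselLib.HensBase.map_maximalIdeal_of_isStrictHenselization A S]
        have h3 : (maximalIdeal D₀ ^ (n + c)).map (algebraMap D₀ S) ≤ maximalIdeal S ^ (n + c) := by
          rw [Ideal.map_pow]
          exact Ideal.pow_right_mono (((local_hom_TFAE (algebraMap D₀ S)).out 0 2).mp
            (inferInstance : IsLocalHom (algebraMap D₀ S))) _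
        exact neg_mem_iff.mp (h3 h2)
      have h4 := hc n a h1
      have h5 : Λ (algebraMap D₀ T₀ a) = algebraMap D₂ T₂ (Subalgebra.inclusion h02 a) := by
        rw [IsScalarTower.algebraMap_apply D₀ (D₀ ⊗[A] E) T₀, Localization.localRingHom_to_map,
          IsScalarTower.algebraMap_apply D₂ (D₂ ⊗[A] E) T₂]
        refine congrArg _ ?_
        show lam (a ⊗ₜ 1) = Subalgebra.inclusion h02 a ⊗ₜ 1
        simp [lam]
      rw [show Λ x₀ = Λ (x₀ - algebraMap D₀ T₀ a) + Λ (algebraMap D₀ T₀ a) by rw [map_sub, sub_add_cancel]]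
      refine add_mem ?_ ?_
      · have h6 := Ideal.mem_map_of_mem Λ ha
        rw [Ideal.map_pow, Ideal.map_pow] at h6
        exact Ideal.pow_le_pow_right (Nat.le_add_right n c) (Ideal.pow_right_mono hm₂ _ h6)
      · rw [h5]
        haveI : IsLocalHom (algebraMap A D₂) := isLocalHom_algebraMap D₂
        have h7 := Ideal.mem_map_of_mem (algebraMap D₂ T₂) h4
        rw [Ideal.map_pow, Ideal.map_pow] at h7
        refine Ideal.pow_right_mono ?_ _ h7
        refine (Ideal.map_mono (((local_hom_TFAE (algebraMap A D₂)).out 0 2).mp ‹_›)).trans ?_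
        refine Ideal.map_le_iff_le_comap.mpr fun z hz => ?_
        rw [Ideal.mem_comap, IsScalarTower.algebraMap_apply D₂ (D₂ ⊗[A] E) T₂,
          IsLocalization.AtPrime.to_map_mem_maximal_iff T₂ P₂]
        show μ₂ _ ∈ maximalIdeal Dh
        rw [hμD₂, mem_maximalIdeal, mem_nonunits_iff]
        intro hu
        refine (mem_maximalIdeal _).mp hz ?_
        have h8 := hu.map θ
        rw [hη] at h8
        exact IsUnit.of_map (algebraMap D₂ S) z h8
    have hzero : Λ x₀ = 0 := by
      rw [Ideal.iInf_pow_eq_bot_of_isLocalRing _ (IsLocalRing.maximalIdeal.isMaximal T₂).ne_top] at hinf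
      exact hinf
    have h9 := congrArg χ hzero
    rw [Localization.localRingHom_to_map, IsLocalization.lift_eq, map_zero] at h9
    have h10 : μ₀ xr = 0 := (DFunLike.congr_fun hlam xr).symm.trans h9
    simp only [xr, μ₀, map_sub, Algebra.TensorProduct.productMap_apply_tmul, map_one, mul_one, one_mul,
      sub_eq_zero] at h10
    exact h10.symm
  -- the retraction
  choose Ex hsEx hExC _ hEx using fun x : fixSub D =>
    exists_stage_fixSub D {(x : S)} (by simp)
  choose ψx hψx using fun x : fixSub D => @hlift (Ex x) _ (hEx x) (hExC x)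
  let φ₀ : fixSub D → Dh := fun x => ψx x ⟨(x : S), hsEx x (by simp)⟩
  have hwd : ∀ (x : fixSub D) (E : Subalgebra A S) [IsLocalRing E], EGA4loc.IsEssentiallyEtale A E →
      E ≤ fixSub D → ∀ (hxE : (x : S) ∈ E) (ψ : E →ₐ[A] Dh), (∀ e, θ (ψ e) = (e : S)) →
      φ₀ x = ψ ⟨(x : S), hxE⟩ := by
    intro x E _ hE hEC hxE ψ hψ
    haveI := essFiniteType (hEx x)
    haveI := essFiniteType hE
    obtain ⟨g₁, hg₁, hle₁⟩ := exists_finset_forall_le (Ex x)
    obtain ⟨g₂, hg₂, hle₂⟩ := exists_finset_forall_le E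
    obtain ⟨E', hgE', hE'C, _, hE'⟩ := exists_stage_fixSub D (g₁ ∪ g₂) (by
      rw [Finset.coe_union]
      exact Set.union_subset (hg₁.trans (hExC x)) (hg₂.trans hEC))
    haveI := isLocalHom_stage hE'
    have h1 : Ex x ≤ E' := hle₁ E' ‹_› fun y hy => hgE' (Finset.mem_union_left _ hy)
    have h2 : E ≤ E' := hle₂ E' ‹_› fun y hy => hgE' (Finset.mem_union_right _ hy)
    obtain ⟨ψ', hψ'⟩ := hlift E' hE' hE'C
    have e1 := @huniq (Ex x) _ (hEx x) (ψx x) (ψ'.comp (Subalgebra.inclusion h1)) (hψx x) fun e => hψ' _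
    have e2 := huniq E hE ψ (ψ'.comp (Subalgebra.inclusion h2)) hψ fun e => hψ' _
    show ψx x _ = _
    rw [e1, e2]
    rfl
  have hpair : ∀ x y : fixSub D, φ₀ (x + y) = φ₀ x + φ₀ y ∧ φ₀ (x * y) = φ₀ x * φ₀ y := by
    intro x y
    obtain ⟨E, hsE, hEC, _, hE⟩ := exists_stage_fixSub D {(x : S), (y : S)} (by
      intro z hz
      rcases Finset.mem_insert.mp hz with rfl | h
      · exact x.2
      · rw [Finset.mem_singleton.mp h]; exact y.2)
    obtain ⟨ψ, hψ⟩ := hlift E hE hEC
    have hx : (x : S) ∈ E := hsE (by simp)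
    have hy : (y : S) ∈ E := hsE (by simp)
    rw [hwd (x + y) E hE hEC (add_mem hx hy) ψ hψ, hwd (x * y) E hE hEC (mul_mem hx hy) ψ hψ,
      hwd x E hE hEC hx ψ hψ, hwd y E hE hEC hy ψ hψ, ← map_add, ← map_mul]
    exact ⟨rfl, rfl⟩
  have hφD : ∀ (x : fixSub D) (d : D), (x : S) = d → φ₀ x = algebraMap D Dh d := by
    intro x d h
    obtain ⟨E, hsE, hEC, _, hE⟩ := exists_stage_fixSub D {(x : S)} (by simp)
    obtain ⟨ψ, hψ⟩ := hlift E hE hEC
    have hx : (x : S) ∈ E := hsE (by simp)
    rw [hwd x E hE hEC hx ψ hψ, show (⟨(x : S), hx⟩ : E) = ⟨(d : S), h ▸ hx⟩ from Subtype.ext h]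
    exact hfact E hE hEC ψ hψ d (h ▸ hx)
  let φ : fixSub D →+* Dh :=
    { toFun := φ₀
      map_one' := by rw [hφD 1 1 rfl, map_one]
      map_mul' := fun x y => (hpair x y).2
      map_zero' := by rw [hφD 0 0 rfl, map_zero]
      map_add' := fun x y => (hpair x y).1 }
  let θC : Dh →+* fixSub D := θ.toRingHom.codRestrict (fixSub D) hθC
  have hid : φ.comp θC = RingHom.id Dh := by
    obtain ⟨g, -, hg⟩ := Hensel.IsHenselization.universal (R := D) (S := Dh) Dh (algebraMap D Dh) ‹_›
    rw [hg (φ.comp θC) (RingHom.ext fun d => hφD _ d (hη d)), ← hg (RingHom.id Dh) (RingHom.id_comp _)]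
  refine ⟨fun x y hxy => ?_, fun s hs => ?_⟩
  · have h := congrArg φ (show θC x = θC y from Subtype.ext hxy)
    exact (RingHom.congr_fun hid x).symm.trans (h.trans (RingHom.congr_fun hid y))
  · obtain ⟨E, hsE, hEC, _, hE⟩ := exists_stage_fixSub D s fun x hx => by
      obtain ⟨y, rfl⟩ := hs hx
      exact hθC y
    obtain ⟨ψ, hψ⟩ := hlift E hE hEC
    exact ⟨E, hsE, fun e he => ⟨ψ ⟨e, he⟩, hψ ⟨e, he⟩⟩, ‹_›, hE⟩

/-- An ind essentially etale henselization gives the residual product property. -/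
theorem residualProd_of_indEtale (hA : CAlg.IsNagata A) (D : Subalgebra A S) [IsLocalRing D]
    [IsLocalHom (algebraMap D S)]
    (Dh : Type u) [CommRing Dh] [IsLocalRing Dh] [Algebra D Dh] [IsLocalHom (algebraMap D Dh)]
    [Hensel.IsHenselization D Dh] [Algebra Dh S] [IsScalarTower D Dh S]
    (hinjθ : Function.Injective (algebraMap Dh S))
    (hstage : ∀ s : Finset S, (s : Set S) ⊆ Set.range (algebraMap Dh S) →
          ∃ E : Subalgebra A S, (s : Set S) ⊆ (E : Set S) ∧ (E : Set S) ⊆ Set.range (algebraMap Dh S) ∧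
            ∃ _ : IsLocalRing E, EGA4loc.IsEssentiallyEtale A E) :
    {N : Ideal (normalization D) | N.IsMaximal}.Finite ∧ Function.Surjective (resNorm D) ∧
      RingHom.ker (resNorm D) = fibreIdeal A S D := by
  classical
  haveI := flat_strict (A := A) S
  haveI : IsLocalHom (algebraMap Dh S) := isLocalHom_of_tower (D := D)
  haveI : Module.Flat D Dh := flat_henselization
  have hDrange : ∀ d : D, (d : S) ∈ Set.range (algebraMap Dh S) := fun d =>
    ⟨_, (IsScalarTower.algebraMap_apply D Dh S d).symm⟩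
  -- flatness
  haveI : Module.Flat Dh S := by
    refine Module.Flat.of_forall_isTrivialRelation fun {l f x} h => ?_
    obtain ⟨E, hsE, hE', _, hE⟩ := hstage (Finset.univ.image fun i => algebraMap Dh S (f i)) (by
      intro y hy
      obtain ⟨i, -, rfl⟩ := Finset.mem_image.mp hy
      exact ⟨_, rfl⟩)
    haveI := isLocalHom_stage hE
    haveI := faithfullyFlat hE S
    let f' : Fin l → E := fun i =>
      ⟨algebraMap Dh S (f i), hsE (Finset.mem_image_of_mem _ (Finset.mem_univ i))⟩
    obtain ⟨k, a, y, hxy, hfa⟩ := Module.Flat.isTrivialRelation_of_sum_smul_eq_zero (R := E) (M := S)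
      (f := f') (x := x) (by
        simp only [Algebra.smul_def] at h ⊢
        exact h)
    choose b hb using fun i j => hE' (a i j).2
    refine ⟨k, b, y, fun i => (hxy i).trans (Finset.sum_congr rfl fun j _ => ?_), fun j => ?_⟩
    · rw [Algebra.smul_def, Algebra.smul_def, hb]
      rfl
    · refine hinjθ ?_
      rw [map_sum, map_zero]
      have h2 := congrArg (algebraMap E S) (hfa j)
      rw [map_sum, map_zero] at h2
      refine Eq.trans (Finset.sum_congr rfl fun i _ => ?_) h2
      rw [map_mul, map_mul, hb]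
      rfl
  haveI : Module.Flat D S := Module.Flat.trans D Dh S
  haveI : Module.FaithfullyFlat D S := Module.FaithfullyFlat.of_flat_of_isLocalHom
  let K := FractionRing S
  let D₁ := normalization D
  let S' := integralClosure S K
  -- inverses
  have hunit : ∀ z : D₁, ∀ w : S', (z : K) * (w : K) = 1 → (w : K) ∈ normalization D := by
    intro z w hzw
    obtain ⟨tz, -, htz⟩ := exists_preimage D z.2
    obtain ⟨tw, -, htw⟩ := exists_preimage (⊤ : Subalgebra A S) (z := (w : K))
      (by rw [normalization_top_strict]; exact w.2)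
    obtain ⟨E, hsE, _, -, hE⟩ := exists_subalgebra (A := A) S (tz ∪ tw)
    obtain ⟨Φ, hΦi, hΦ⟩ := exists_stage_fractions hE
    obtain ⟨z', hz', hzz⟩ := htz E hE (fun y hy => hsE (Finset.mem_union_left _ hy)) Φ hΦi hΦ
    obtain ⟨w', hw', hww⟩ := htw E hE (fun y hy => hsE (Finset.mem_union_right _ hy)) Φ hΦi hΦ
    have hzw' : z' * w' = 1 := hΦi (by rw [map_mul, hzz, hww, hzw, map_one])
    -- the inverse is in the saturation
    let L := saturation (D.comap E.val)
    haveI := (isArtinianRing_of_injective (minimalPrimes.finite_of_isNoetherianRing A) hE L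
      (isUnit_saturation hE _) L.val Subtype.val_injective).1
    let zl : L := ⟨z', hz'.1⟩
    have hreg : zl ∈ L⁰ := by
      rw [mem_nonZeroDivisors_iff_right]
      intro v hv
      have hv' : (v : FractionRing E) * z' = 0 := congrArg Subtype.val hv
      exact Subtype.ext ((IsUnit.of_mul_eq_one _ hzw').mul_left_eq_zero.mp hv')
    obtain ⟨v, hv⟩ := (IsArtinianRing.isUnit_of_mem_nonZeroDivisors hreg).exists_right_inv
    have hwv : w' = (v : FractionRing E) :=
      (IsUnit.of_mul_eq_one _ hzw').mul_left_cancel (hzw'.trans (congrArg Subtype.val hv).symm)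
    have hwsat : (w : K) ∈ saturation D := by
      obtain ⟨a, ha, d, hd, h⟩ := v.2
      refine ⟨a, ha, (d : S), hd, ?_⟩
      rw [← hww, hwv, ← Φ.commutes, ← map_mul, h]
      exact hΦ d
    refine ⟨hwsat, ?_⟩
    -- and integral
    obtain ⟨a, ha, d₁, hd₁, hzd⟩ := z.2.1
    obtain ⟨a₂, ha₂, d, hd, hwd⟩ := hwsat
    obtain ⟨p, hp, hpw⟩ := w.2
    let n := p.natDegree
    have hn : n ≠ 0 := fun h0 => by
      haveI : Nontrivial K := (IsFractionRing.injective S K).nontrivial
      rw [Polynomial.eq_one_of_monic_natDegree_zero hp h0, Polynomial.eval₂_one] at hpw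
      exact one_ne_zero hpw
    have hwsum : (w : K) = -∑ i ∈ Finset.range n, algebraMap S K (p.coeff i) * (z : K) ^ (n - 1 - i) := by
      have h0 : (w : K) ^ n + ∑ i ∈ Finset.range n, algebraMap S K (p.coeff i) * (w : K) ^ i = 0 := by
        rw [Polynomial.eval₂_eq_sum_range, Finset.sum_range_succ, hp.coeff_natDegree, map_one, one_mul,
          add_comm] at hpw
        exact hpw
      have h1 := congrArg (· * (z : K) ^ (n - 1)) h0
      simp only [add_mul, Finset.sum_mul, zero_mul] at h1
      have h2 : (w : K) ^ n * (z : K) ^ (n - 1) = (w : K) := by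
        conv_lhs => rw [show n = n - 1 + 1 by omega, pow_succ', Nat.add_sub_cancel, mul_assoc, ← mul_pow,
          mul_comm (w : K) (z : K), hzw, one_pow, mul_one]
      have h3 : ∀ i ∈ Finset.range n, algebraMap S K (p.coeff i) * (w : K) ^ i * (z : K) ^ (n - 1) =
          algebraMap S K (p.coeff i) * (z : K) ^ (n - 1 - i) := fun i hi => by
        have hi' := Finset.mem_range.mp hi
        have he : (z : K) ^ (n - 1) = (z : K) ^ i * (z : K) ^ (n - 1 - i) := by
          rw [← pow_add]; congr 1; omega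
        rw [he, mul_assoc (algebraMap S K (p.coeff i)), ← mul_assoc ((w : K) ^ i), ← mul_pow,
          mul_comm (w : K) (z : K), hzw, one_pow, one_mul]
      rw [h2, Finset.sum_congr rfl h3] at h1
      exact eq_neg_of_add_eq_zero_left h1
    let c : ℕ → D := fun k => algebraMap A D (a₂ * a ^ (n - k)) * ⟨d₁, hd₁⟩ ^ k
    have hc : ∀ k ≤ n, algebraMap A K (a₂ * a ^ n) * (z : K) ^ k = algebraMap S K (c k : S) := fun k hk => by
      simp only [c, MulMemClass.coe_mul, SubmonoidClass.coe_pow, Subalgebra.coe_algebraMap, map_mul,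
        map_pow, ← IsScalarTower.algebraMap_apply]
      rw [← hzd, mul_pow, ← Nat.sub_add_cancel hk, pow_add, Nat.add_sub_cancel]
      ring
    let dw : D := algebraMap A D (a ^ n) * ⟨d, hd⟩
    have hdw : algebraMap A K (a₂ * a ^ n) * (w : K) = algebraMap S K (dw : S) := by
      simp only [dw, MulMemClass.coe_mul, SubmonoidClass.coe_pow, Subalgebra.coe_algebraMap, map_mul,
        map_pow, ← IsScalarTower.algebraMap_apply]
      rw [← hwd]; ring
    let I : Ideal D := Ideal.span (c '' Set.Iio n)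
    have hI : dw ∈ I := by
      rw [← Ideal.comap_map_eq_self_of_faithfullyFlat (B := S) I, Ideal.mem_comap]
      have h1 : (dw : S) = -∑ i ∈ Finset.range n, p.coeff i * (c (n - 1 - i) : S) := by
        refine IsFractionRing.injective S K ?_
        rw [← hdw, map_neg, map_sum, hwsum, mul_neg, Finset.mul_sum]
        refine congrArg _ (Finset.sum_congr rfl fun i hi => ?_)
        rw [map_mul (algebraMap S K), ← hc (n - 1 - i) ((Nat.sub_le _ _).trans (Nat.sub_le _ _))]; ring
      show (dw : S) ∈ _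
      rw [h1]
      refine neg_mem (sum_mem fun i hi => Ideal.mul_mem_left _ _ ?_)
      exact Ideal.mem_map_of_mem (algebraMap D S) (Ideal.subset_span
        (Set.mem_image_of_mem c (Set.mem_Iio.mpr (by have := Finset.mem_range.mp hi; omega))))
    have key : ∀ y ∈ I, ∃ r : K, IsIntegral D r ∧ algebraMap A K (a₂ * a ^ n) * r = algebraMap S K (y : S) := by
      intro y hy
      induction hy using Submodule.span_induction with
      | mem y hy =>
        obtain ⟨k, hk, rfl⟩ := hy
        exact ⟨(z : K) ^ k, (show IsIntegral D (z : K) from z.2.2).pow k, hc k (le_of_lt hk)⟩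
      | zero => exact ⟨0, isIntegral_zero, by rw [mul_zero]; exact (map_zero _).symm⟩
      | add x y _ _ hx hy =>
        obtain ⟨r, hr, hrx⟩ := hx
        obtain ⟨s, hs, hsy⟩ := hy
        exact ⟨r + s, hr.add hs, by rw [mul_add, hrx, hsy, ← map_add]; rfl⟩
      | smul b y _ hy =>
        obtain ⟨r, hr, hry⟩ := hy
        refine ⟨algebraMap D K b * r, isIntegral_algebraMap.mul hr, ?_⟩
        rw [mul_left_comm, hry]
        exact (map_mul (algebraMap S K) (b : S) (y : S)).symm
    obtain ⟨r, hr, hrw⟩ := key dw hI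
    rwa [(isUnit_strict (mul_mem ha₂ (pow_mem ha n))).mul_left_cancel (hdw.trans hrw.symm)]
  have hfinQ := finite_maximal_strict (S := S) hA
  have hover : ∀ P : Ideal D₁, P.IsMaximal →
      ∃ Q : Ideal S', Q.IsMaximal ∧ Q.comap (toAmbient D) = P := by
    intro P hP
    by_contra hnot
    obtain ⟨z, hzP, hz⟩ := exists_mem_forall_notMem (toAmbient D) hfinQ P fun Q hQ hle => by
      haveI := hQ.isPrime
      exact hnot ⟨Q, hQ, (hP.eq_of_le (Ideal.IsPrime.ne_top inferInstance) hle).symm⟩
    have hu : IsUnit (toAmbient D z) := by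
      by_contra h
      obtain ⟨Q, hQ, hzQ⟩ := exists_max_ideal_of_mem_nonunits h
      exact hz Q hQ hzQ
    obtain ⟨w, hw⟩ := hu.exists_right_inv
    have hw' : (z : K) * (w : K) = 1 := congrArg Subtype.val hw
    exact hP.ne_top (Ideal.eq_top_of_isUnit_mem _ hzP
      (IsUnit.of_mul_eq_one (⟨(w : K), hunit z w hw'⟩ : D₁) (Subtype.ext hw')))
  have hjac : ∀ x : D₁, (∀ Q : Ideal S', Q.IsMaximal → toAmbient D x ∈ Q) →
      x ∈ Ideal.jacobson (⊥ : Ideal D₁) := fun x hx => mem_jacobson_bot_iff_forall.mpr fun P hP => by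
    obtain ⟨Q, hQ, rfl⟩ := hover P hP
    exact hx Q hQ
  refine ⟨?_, fun q => ?_, le_antisymm (fun ζ hζ => ?_) (sup_le ?_ ?_)⟩
  · refine (hfinQ.image (Ideal.comap (toAmbient D))).subset fun P hP => ?_
    obtain ⟨Q, hQ, hQP⟩ := hover P hP
    exact ⟨Q, hQ, hQP⟩
  · obtain ⟨z, rfl⟩ := Ideal.Quotient.mk_surjective q
    obtain ⟨t, htD, ht⟩ := exists_preimage D z.2
    obtain ⟨E, htE, hE', _, hE⟩ := hstage t fun y hy => hDrange ⟨y, htD hy⟩
    obtain ⟨Φ, hΦi, hΦ⟩ := exists_stage_fractions hE
    obtain ⟨x, hx, hxz⟩ := ht E hE htE Φ hΦi hΦ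
    obtain ⟨ζ, hζ⟩ := exists_tensorToFractions_eq (minimalPrimes.finite_of_isNoetherianRing A) hE
      (⊥ : Subalgebra A E) (isIntegral_ambient hx.2)
    have key : ∀ ζ : baseNorm A E ⊗[A] E, ∃ η : baseNorm A S ⊗[A] D, ∃ y : S',
        (y : K) = Φ (tensorToFractions (⊥ : Subalgebra A E) ζ) ∧
          ∀ Q : Ideal S', Q.IsMaximal → y - toAmbient D (prodNorm D η) ∈ Q := by
      intro ζ
      induction ζ using TensorProduct.induction_on with
      | zero => exact ⟨0, 0, by rw [map_zero, map_zero]; rfl, fun Q _ => by simp⟩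
      | tmul a e =>
        obtain ⟨u, hu⟩ := hE' e.2
        obtain ⟨d, hd⟩ := exists_residue_eq_henselization (D := D) u
        have hed : (e : S) - (d : S) ∈ maximalIdeal S := by
          rw [← hu, show (d : S) = algebraMap Dh S (algebraMap D Dh d) from
            IsScalarTower.algebraMap_apply D Dh S d, ← map_sub]
          have h4 : (maximalIdeal Dh).map (algebraMap Dh S) ≤ maximalIdeal S :=
            ((local_hom_TFAE (algebraMap Dh S)).out 0 2).mp ‹_›
          exact h4 (Ideal.mem_map_of_mem _ hd)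
        let a' : baseNorm A S := ⟨Φ (a : FractionRing E), map_mem_normalization hΦ (D := ⊥) (fun d hd => by
          obtain ⟨c, hc⟩ := Algebra.mem_bot.mp hd
          exact Algebra.mem_bot.mpr ⟨c, congrArg Subtype.val hc⟩) a.2⟩
        refine ⟨a' ⊗ₜ d, toAmbient (⊥ : Subalgebra A S) a' * algebraMap S S' (e : S), ?_, fun Q hQ => ?_⟩
        · rw [tensorToFractions_tmul, map_mul, hΦ]
          rfl
        · haveI := hQ
          rw [show toAmbient D (prodNorm D (a' ⊗ₜ d)) = toAmbient (⊥ : Subalgebra A S) a' *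
            algebraMap S S' (d : S) from Subtype.ext rfl, ← mul_sub, ← map_sub]
          refine Q.mul_mem_left _ ?_
          exact (IsLocalRing.eq_maximalIdeal
            (Ideal.isMaximal_comap_of_isIntegral_of_isMaximal (R := S) Q)).ge hed
      | add x y hx hy =>
        obtain ⟨η, u, hu, huQ⟩ := hx
        obtain ⟨η', v, hv, hvQ⟩ := hy
        refine ⟨η + η', u + v, by rw [map_add, map_add, ← hu, ← hv]; rfl, fun Q hQ => ?_⟩
        rw [map_add, map_add, add_sub_add_comm]
        exact add_mem (huQ Q hQ) (hvQ Q hQ)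
    obtain ⟨η, y, hy, hyQ⟩ := key ζ
    have hyz : y = toAmbient D z := Subtype.ext (hy.trans ((congrArg Φ hζ).trans hxz))
    refine ⟨η, (Ideal.Quotient.eq.mpr (hjac _ fun Q hQ => ?_) : _)⟩
    rw [map_sub, ← neg_sub, ← hyz]
    exact neg_mem (hyQ Q hQ)
  · have hζ' : prodNorm D ζ ∈ Ideal.jacobson (⊥ : Ideal D₁) := Ideal.Quotient.eq_zero_iff_mem.mp hζ
    refine fibreIdeal_le_comap_strict (mem_fibreIdeal_of_forall hA fun Q hQ => ?_)
    haveI := hQ
    rw [show (⟨_, (prodTop (Algebra.TensorProduct.map (AlgHom.id A (baseNorm A S)) D.val ζ)).2⟩ : S') =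
      toAmbient D (prodNorm D ζ) from Subtype.ext (prodNorm_val D ζ).symm]
    exact mem_jacobson_bot_iff_forall.mp hζ' _ (isMaximal_comap_toAmbient D Q)
  all_goals
    refine Ideal.map_le_iff_le_comap.mpr fun r hr => ?_
    refine Ideal.Quotient.eq_zero_iff_mem.mpr (hjac _ fun Q hQ => ?_)
    haveI := hQ
  · haveI : IsLocalHom (algebraMap (⊥ : Subalgebra A S) S) := ⟨fun x hx => by
      obtain ⟨a, ha⟩ := Algebra.mem_bot.mp x.2
      rw [show x = algebraMap A (⊥ : Subalgebra A S) a from Subtype.ext ha.symm]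
      exact (IsUnit.of_map (algebraMap A S) a (ha.symm ▸ hx)).map _⟩
    haveI : IsLocalRing (⊥ : Subalgebra A S) := isLocalRing_of_isLocalHom _
    show toAmbient D (prodNorm D (r ⊗ₜ 1)) ∈ Q
    rw [show toAmbient D (prodNorm D (r ⊗ₜ 1)) = toAmbient (⊥ : Subalgebra A S) r from Subtype.ext (by
      show ((prodNorm D (r ⊗ₜ 1) : D₁) : K) = (r : K)
      rw [prodNorm_val]
      show tensorToFractions (⊥ : Subalgebra A S) (r ⊗ₜ 1) = _
      rw [tensorToFractions_tmul, map_one, mul_one])]
    exact mem_jacobson_bot_iff_forall.mp hr _ (isMaximal_comap_toAmbient (⊥ : Subalgebra A S) Q)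
  · show toAmbient D (prodNorm D (1 ⊗ₜ r)) ∈ Q
    rw [show toAmbient D (prodNorm D (1 ⊗ₜ r)) = algebraMap S S' (r : S) from Subtype.ext (by
      show ((prodNorm D (1 ⊗ₜ r) : D₁) : K) = _
      rw [prodNorm_val]
      show tensorToFractions (⊥ : Subalgebra A S) (1 ⊗ₜ (r : S)) = _
      rw [tensorToFractions_tmul, OneMemClass.coe_one, one_mul]
      rfl)]
    refine (IsLocalRing.eq_maximalIdeal
      (Ideal.isMaximal_comap_of_isIntegral_of_isMaximal (R := S) Q)).ge ?_
    rw [mem_maximalIdeal, mem_nonunits_iff] at hr ⊢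
    exact fun h => hr (IsUnit.of_map (algebraMap D S) r h)

end Groth.Agent.EssEt6
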