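import Groth.Agent.EssEt6.Strict
import Mathlib.RingTheory.EssentialFiniteness
import Mathlib.RingTheory.Localization.Defs

/-!
# Local subalgebras: localizing a subalgebra at the units of the ambient ring
-/

set_option autoImplicit false
set_option linter.style.haveILetI false

universe u

open IsLocalRing

namespace Groth.Agent.EssEt6

variable {A S : Type u} [CommRing A] [CommRing S] [Algebra A S]

/-- A local inclusion detects units. -/
theorem isUnit_of_mem {D : Subalgebra A S} [IsLocalHom (algebraMap D S)] {d : S} (hd : d ∈ D)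
    (hu : IsUnit d) : IsUnit (⟨d, hd⟩ : D) :=
  IsUnit.of_map (algebraMap D S) _ hu

theorem exists_inv_mem {D : Subalgebra A S} [IsLocalHom (algebraMap D S)] {d : S} (hd : d ∈ D)
    (hu : IsUnit d) : ∃ e ∈ D, d * e = 1 := by
  obtain ⟨e, he⟩ := (isUnit_of_mem hd hu).exists_right_inv
  exact ⟨e, e.2, congrArg Subtype.val he⟩

theorem mem_of_mul_mem {D : Subalgebra A S} [IsLocalHom (algebraMap D S)] {d u : S} (hu : u ∈ D)
    (huu : IsUnit u) (h : d * u ∈ D) : d ∈ D := by
  obtain ⟨e, he, hue⟩ := exists_inv_mem hu huu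
  have := mul_mem h he
  rwa [mul_assoc, hue, mul_one] at this

/-- The elements which become members of `C` after multiplication by a unit of `S` in `C`. -/
def localSub (C : Subalgebra A S) : Subalgebra A S where
  carrier := {d | ∃ u ∈ C, IsUnit u ∧ d * u ∈ C}
  mul_mem' := by
    rintro a b ⟨u, hu, huu, ha⟩ ⟨v, hv, hvu, hb⟩
    exact ⟨u * v, mul_mem hu hv, huu.mul hvu,
      by rw [show a * b * (u * v) = a * u * (b * v) by ring]; exact mul_mem ha hb⟩
  one_mem' := ⟨1, one_mem _, isUnit_one, by rw [mul_one]; exact one_mem _⟩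
  add_mem' := by
    rintro a b ⟨u, hu, huu, ha⟩ ⟨v, hv, hvu, hb⟩
    exact ⟨u * v, mul_mem hu hv, huu.mul hvu, by
      rw [show (a + b) * (u * v) = a * u * v + b * v * u by ring]
      exact add_mem (mul_mem ha hv) (mul_mem hb hu)⟩
  zero_mem' := ⟨1, one_mem _, isUnit_one, by rw [zero_mul]; exact zero_mem _⟩
  algebraMap_mem' a := ⟨1, one_mem _, isUnit_one, by rw [mul_one]; exact C.algebraMap_mem a⟩

theorem le_localSub (C : Subalgebra A S) : C ≤ localSub C :=
  fun d hd => ⟨1, one_mem _, isUnit_one, by rwa [mul_one]⟩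

theorem localSub_le {C D : Subalgebra A S} [IsLocalHom (algebraMap D S)] (h : C ≤ D) :
    localSub C ≤ D := fun _ ⟨_, hu, huu, hd⟩ => mem_of_mul_mem (h hu) huu (h hd)

instance isLocalHom_localSub (C : Subalgebra A S) : IsLocalHom (algebraMap (localSub C) S) := by
  refine ⟨fun z hz => ?_⟩
  obtain ⟨u, hu, huu, hd⟩ := z.2
  obtain ⟨w, hw⟩ := hz.exists_right_inv
  have hw' : (z : S) * w = 1 := hw
  have hwm : w ∈ localSub C :=
    ⟨(z : S) * u, hd, hz.mul huu, by rw [← mul_assoc, mul_comm w, hw', one_mul]; exact hu⟩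
  exact IsUnit.of_mul_eq_one (⟨w, hwm⟩ : localSub C) (Subtype.ext hw')

theorem isLocalRing_of_isLocalHom [IsLocalRing S] (D : Subalgebra A S)
    [IsLocalHom (algebraMap D S)] : IsLocalRing D := by
  haveI : Nontrivial D := (algebraMap D S).domain_nontrivial
  exact IsLocalRing.of_isUnit_or_isUnit_one_sub_self fun z =>
    (IsLocalRing.isUnit_or_isUnit_one_sub_self (z : S)).imp (fun h => IsUnit.of_map (algebraMap D S) z h)
      fun h => IsUnit.of_map (algebraMap D S) (1 - z) h

instance isLocalRing_localSub [IsLocalRing S] (C : Subalgebra A S) : IsLocalRing (localSub C) :=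
  isLocalRing_of_isLocalHom _

theorem isLocalization_localSub (C : Subalgebra A S) :
    letI := (Subalgebra.inclusion (le_localSub C)).toRingHom.toAlgebra
    IsLocalization ((IsUnit.submonoid S).comap (algebraMap C S)) (localSub C) := by
  let := (Subalgebra.inclusion (le_localSub C)).toRingHom.toAlgebra
  refine ⟨?_, fun z => ?_, fun {x y} hxy => ⟨1, ?_⟩⟩
  · rintro ⟨c, hc⟩
    exact IsUnit.of_map (algebraMap (localSub C) S) _ hc
  · obtain ⟨u, hu, huu, hd⟩ := z.2
    exact ⟨(⟨(z : S) * u, hd⟩, ⟨⟨u, hu⟩, huu⟩), Subtype.ext rfl⟩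
  · exact congrArg _ (Subtype.ext (congrArg (fun w : localSub C => (w : S)) hxy))

theorem essFiniteType_localSub (C : Subalgebra A S) [Algebra.FiniteType A C] :
    Algebra.EssFiniteType A (localSub C) := by
  letI := (Subalgebra.inclusion (le_localSub C)).toRingHom.toAlgebra
  haveI : IsScalarTower A C (localSub C) := IsScalarTower.of_algebraMap_eq fun a => rfl
  haveI := isLocalization_localSub C
  haveI : Algebra.EssFiniteType C (localSub C) :=
    Algebra.EssFiniteType.of_isLocalization _ ((IsUnit.submonoid S).comap (algebraMap C S))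
  exact Algebra.EssFiniteType.comp A C _

/-- An essentially finite type subalgebra lies in every dominated subalgebra containing a suitable
finite set. -/
theorem exists_finset_forall_le (D : Subalgebra A S) [Algebra.EssFiniteType A D] :
    ∃ s : Finset S, (s : Set S) ⊆ D ∧ ∀ E : Subalgebra A S, IsLocalHom (algebraMap E S) →
      (s : Set S) ⊆ E → D ≤ E := by
  classical
  refine ⟨(Algebra.EssFiniteType.finset A D).image Subtype.val, fun x hx => ?_, ?_⟩
  · obtain ⟨y, -, rfl⟩ := Finset.mem_image.mp hx
    exact y.2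
  intro E hE hs d hd
  have hC : ∀ c ∈ Algebra.adjoin A (Algebra.EssFiniteType.finset A D : Set D), (c : S) ∈ E := by
    intro c hc
    induction hc using Algebra.adjoin_induction with
    | mem x hx => exact hs (Finset.mem_image_of_mem _ hx)
    | algebraMap r => exact E.algebraMap_mem r
    | add x y _ _ hx hy => exact add_mem hx hy
    | mul x y _ _ hx hy => exact mul_mem hx hy
  obtain ⟨⟨x, u⟩, h⟩ := IsLocalization.surj (Algebra.EssFiniteType.submonoid A D) (⟨d, hd⟩ : D)
  have huu : IsUnit (algebraMap (Algebra.EssFiniteType.subalgebra A D) D u) :=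
    IsLocalization.map_units D u
  refine mem_of_mul_mem (hC _ (u : Algebra.EssFiniteType.subalgebra A D).2) (huu.map (algebraMap D S)) ?_
  have := congrArg Subtype.val h
  rw [MulMemClass.coe_mul] at this
  exact this ▸ hC _ x.2

end Groth.Agent.EssEt6
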