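import Groth.Agent.EssEt6.Birational

/-!
# Normalization commutes with essentially etale extensions
-/

set_option autoImplicit false
set_option linter.style.haveILetI false

universe u

open nonZeroDivisors IsLocalRing
open scoped TensorProduct

namespace Groth.Agent.EssEt6

/-- Local structure of an unramified algebra with the same denominators over a ring integrally closed
in a reduced artinian ring. -/
theorem local_facts {R₀ L B F : Type u} [CommRing R₀] [CommRing L] [IsArtinianRing L] [IsReduced L]
    [CommRing B] [CommRing F] [Algebra R₀ L] [Algebra R₀ B] [Algebra R₀ F] [Algebra B F] [Algebra L F]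
    [IsScalarTower R₀ B F] [IsScalarTower R₀ L F]
    (hinjL : Function.Injective (algebraMap R₀ L))
    (hic : ∀ w : L, IsIntegral R₀ w → w ∈ Set.range (algebraMap R₀ L))
    (hinjB : Function.Injective (algebraMap B F))
    [Algebra.FormallyUnramified R₀ B] [Algebra.EssFiniteType R₀ B]
    (N : Submonoid R₀) [IsLocalization (N.map (algebraMap R₀ B)) F]
    (P : Ideal B) [P.IsPrime] :
    (∀ x : F, IsIntegral B x → ∃ u b : B, u ∉ P ∧ algebraMap B F u * x = algebraMap B F b) ∧
    (∀ (a : Ideal R₀) (z : R₀) (u : B), u ∉ P → u * algebraMap R₀ B z ∈ a.map (algebraMap R₀ B) →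
      ∃ s : R₀, algebraMap R₀ B s ∉ P ∧ s * z ∈ a) ∧
    (∀ b ∈ P, ∃ u ∉ P, u * b ∈ (P.comap (algebraMap R₀ B)).map (algebraMap R₀ B)) := by
  let n : Ideal R₀ := P.comap (algebraMap R₀ B)
  haveI : n.IsPrime := Ideal.comap_isPrime _ _
  let R := Localization.AtPrime n
  let T := Localization.AtPrime P
  haveI : IsDomain R := S7652.isDomain_atPrime (C := R₀) (F := L) (L := R) hinjL hic n
  haveI : IsIntegrallyClosed R :=
    S7652.isIntegrallyClosed_atPrime (C := R₀) (F := L) (L := R) (K := FractionRing R) hinjL hic n
  letI : Algebra R T := (Localization.localRingHom n P (algebraMap R₀ B) rfl).toAlgebra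
  haveI : IsScalarTower R₀ R T := IsScalarTower.of_algebraMap_eq fun r => by
    show _ = Localization.localRingHom n P (algebraMap R₀ B) rfl (algebraMap R₀ R r)
    rw [Localization.localRingHom_to_map, ← IsScalarTower.algebraMap_apply]
  haveI : IsLocalHom (algebraMap R T) := Localization.isLocalHom_localRingHom n P (algebraMap R₀ B) rfl
  haveI : Algebra.FormallyUnramified B T := Algebra.FormallyUnramified.of_isLocalization P.primeCompl
  haveI : Algebra.EssFiniteType B T := Algebra.EssFiniteType.of_isLocalization T P.primeCompl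
  haveI : Algebra.FormallyUnramified R₀ T := Algebra.FormallyUnramified.comp R₀ B T
  haveI : Algebra.EssFiniteType R₀ T := Algebra.EssFiniteType.comp R₀ B T
  haveI : Algebra.FormallyUnramified R T := Algebra.FormallyUnramified.of_restrictScalars R₀ R T
  haveI : Algebra.EssFiniteType R T := Algebra.EssFiniteType.of_comp R₀ R T
  have hinj : Function.Injective (algebraMap R T) := by
    rw [injective_iff_map_eq_zero]
    intro t ht
    obtain ⟨r, s, rfl⟩ := IsLocalization.exists_mk'_eq n.primeCompl t
    by_contra h0
    have hr : algebraMap R₀ R r ≠ 0 := fun h => h0 (by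
      rw [IsLocalization.mk'_eq_mul_mk'_one, h, zero_mul])
    obtain ⟨e, y, he, -, hey⟩ := S7652.exists_idem_inverse hinjL hic n r hr
    have h1 : algebraMap R₀ T r = 0 := by
      rw [IsScalarTower.algebraMap_apply R₀ R T, ← IsLocalization.mk'_spec R r s, map_mul, ht, zero_mul]
    rw [IsScalarTower.algebraMap_apply R₀ B T, IsLocalization.map_eq_zero_iff P.primeCompl] at h1
    obtain ⟨u, hu⟩ := h1
    have hue : (u : B) * algebraMap R₀ B e = 0 := hinjB (by
      have h2 := congrArg (algebraMap B F) hu
      rw [map_mul, map_zero, ← IsScalarTower.algebraMap_apply] at h2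
      rw [map_mul, map_zero, ← IsScalarTower.algebraMap_apply, IsScalarTower.algebraMap_apply R₀ L F,
        hey, map_mul, ← IsScalarTower.algebraMap_apply, ← mul_assoc, h2, zero_mul])
    exact ((Ideal.IsPrime.mem_or_mem ‹P.IsPrime› (hue.symm ▸ P.zero_mem)).elim u.2 he)
  haveI := faithfullyFlat_of_normal (D := R) (E := T) hinj
  have hT : EGA4loc.IsEssentiallyEtale R T := of_flat
  obtain ⟨C, _, _, _, _, q, _, hC, _, -⟩ := exists_localization hT
  haveI := hC
  let e := (IsLocalization.algEquiv q.primeCompl (Localization.AtPrime q) T).toRingEquiv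
  haveI := (Et18.normal_localization_of_etale R C q).1
  haveI := (Et18.normal_localization_of_etale R C q).2
  haveI : IsDomain T := e.symm.injective.isDomain e.symm.toRingHom
  haveI : IsIntegrallyClosed T := IsIntegrallyClosed.of_equiv e
  -- the generic fibre
  let K := FractionRing T
  have haT : ∀ c ∈ N, algebraMap R₀ T c ≠ 0 := fun c hc h => by
    rw [IsScalarTower.algebraMap_apply R₀ B T, IsLocalization.map_eq_zero_iff P.primeCompl] at h
    obtain ⟨u, hu⟩ := h
    have h2 : algebraMap B F u = 0 := by
      refine (IsLocalization.map_units F (⟨_, Submonoid.mem_map_of_mem _ hc⟩ : N.map (algebraMap R₀ B))).mul_left_eq_zero.mp ?_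
      rw [← map_mul]
      exact (congrArg (algebraMap B F) hu).trans (map_zero _)
    exact u.2 ((hinjB (h2.trans (map_zero _).symm)).symm ▸ P.zero_mem)
  let θ : F →+* K := IsLocalization.lift (M := N.map (algebraMap R₀ B))
    (g := (algebraMap T K).comp (algebraMap B T)) fun y => by
      obtain ⟨c, hc, h⟩ := y.2
      rw [← h, RingHom.comp_apply, ← IsScalarTower.algebraMap_apply R₀ B T]
      exact Ne.isUnit ((map_ne_zero_iff _ (IsFractionRing.injective T K)).mpr (haT c hc))
  have hθ : ∀ b : B, θ (algebraMap B F b) = algebraMap T K (algebraMap B T b) := fun b =>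
    IsLocalization.lift_eq _ b
  refine ⟨fun x hxi => ?_, fun a z u hu hz => ?_, fun b hb => ?_⟩
  · have hθi : IsIntegral T (θ x) :=
      hxi.map_of_comp_eq (S := F) (algebraMap B T) θ (RingHom.ext fun b => (hθ b).symm)
    obtain ⟨t, ht⟩ := IsIntegrallyClosed.isIntegral_iff.mp hθi
    obtain ⟨⟨β, m⟩, hβ⟩ := IsLocalization.surj (N.map (algebraMap R₀ B)) x
    obtain ⟨b, v, rfl⟩ := IsLocalization.exists_mk'_eq P.primeCompl t
    have h1 : algebraMap B T (β * (v : B)) = algebraMap B T (b * (m : B)) := by
      refine IsFractionRing.injective T K ?_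
      have hb' : algebraMap T K (algebraMap B T b) = θ x * algebraMap T K (algebraMap B T v) := by
        rw [← ht, ← map_mul, IsLocalization.mk'_spec]
      rw [map_mul, map_mul, map_mul, map_mul, ← hθ β, ← hβ, map_mul θ, hθ, hb']
      ring
    obtain ⟨w, hw⟩ := (IsLocalization.eq_iff_exists P.primeCompl T).mp h1
    refine ⟨(w : B) * v, (w : B) * b, (w * v : P.primeCompl).2,
      (IsLocalization.map_units F m).mul_right_cancel ?_⟩
    have h2 := congrArg (algebraMap B F) hw
    rw [map_mul, map_mul, map_mul, map_mul, ← hβ] at h2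
    rw [map_mul, map_mul]
    linear_combination h2
  · have h1 : algebraMap R₀ R z ∈ a.map (algebraMap R₀ R) := by
      rw [← Ideal.comap_map_eq_self_of_faithfullyFlat (B := T) (a.map (algebraMap R₀ R)), Ideal.mem_comap,
        Ideal.map_map, ← IsScalarTower.algebraMap_eq, ← IsScalarTower.algebraMap_apply,
        IsScalarTower.algebraMap_eq R₀ B T, ← Ideal.map_map, RingHom.comp_apply,
        IsLocalization.algebraMap_mem_map_algebraMap_iff P.primeCompl]
      exact ⟨u, hu, hz⟩
    rw [IsLocalization.algebraMap_mem_map_algebraMap_iff n.primeCompl] at h1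
    exact h1
  · have h1 : algebraMap B T b ∈ (n.map (algebraMap R₀ B)).map (algebraMap B T) := by
      rw [Ideal.map_map, ← IsScalarTower.algebraMap_eq, IsScalarTower.algebraMap_eq R₀ R T,
        ← Ideal.map_map, Localization.AtPrime.map_eq_maximalIdeal, map_maximalIdeal hT]
      exact (IsLocalization.AtPrime.to_map_mem_maximal_iff T P b).mpr hb
    rw [IsLocalization.algebraMap_mem_map_algebraMap_iff P.primeCompl] at h1
    exact h1

variable {A E : Type u} [CommRing A] [IsLocalRing A] [CommRing E] [Algebra A E]

/-- The canonical map from the tensor product to the total ring of fractions. -/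
noncomputable def tensorToFractions (D : Subalgebra A E) :
    normalization D ⊗[A] E →ₐ[A] FractionRing E :=
  Algebra.TensorProduct.productMap (normalization D).val (IsScalarTower.toAlgHom A E (FractionRing E))

theorem tensorToFractions_tmul (D : Subalgebra A E) (r : normalization D) (e : E) :
    tensorToFractions D (r ⊗ₜ e) = (r : FractionRing E) * algebraMap E _ e := rfl

theorem isIntegral_tensorToFractions (D : Subalgebra A E) (ζ : normalization D ⊗[A] E) :
    IsIntegral E (tensorToFractions D ζ) := by
  induction ζ using TensorProduct.induction_on with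
  | zero => rw [map_zero]; exact isIntegral_zero
  | tmul r e =>
    rw [tensorToFractions_tmul]
    exact (isIntegral_ambient r.2.2).mul isIntegral_algebraMap
  | add a b ha hb => rw [map_add]; exact ha.add hb

/-- An algebra between `E` and its normalization that is a quotient of the base change satisfies the
local facts. -/
theorem normalization_local_facts [IsReduced A] (hfin : (minimalPrimes A).Finite)
    (hE : EGA4loc.IsEssentiallyEtale A E) (D : Subalgebra A E)
    {B : Type u} [CommRing B] [Algebra (normalization D) B] [Algebra B (FractionRing E)]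
    [IsScalarTower (normalization D) B (FractionRing E)]
    (hinjB : Function.Injective (algebraMap B (FractionRing E)))
    (Φ : normalization D ⊗[A] E →ₐ[normalization D] B) (hΦ : Function.Surjective Φ)
    (hΦF : ∀ ζ, algebraMap B (FractionRing E) (Φ ζ) = tensorToFractions D ζ)
    (P : Ideal B) [P.IsPrime] :
    (∀ x : FractionRing E, IsIntegral B x → ∃ u b : B, u ∉ P ∧
      algebraMap B (FractionRing E) u * x = algebraMap B (FractionRing E) b) ∧
    (∀ (a : Ideal (normalization D)) (z : normalization D) (u : B), u ∉ P →
      u * algebraMap (normalization D) B z ∈ a.map (algebraMap (normalization D) B) →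
      ∃ s, algebraMap (normalization D) B s ∉ P ∧ s * z ∈ a) ∧
    (∀ b ∈ P, ∃ u ∉ P, u * b ∈
      (P.comap (algebraMap (normalization D) B)).map (algebraMap (normalization D) B)) := by
  let F := FractionRing E
  let R₀ := normalization D
  let L := saturation D
  haveI := isLocalization_fractionRing hfin hE
  haveI := isReduced hE
  haveI : IsReduced F := isReduced_localizationPreserves E⁰ F inferInstance
  haveI := (isArtinianRing_of_injective hfin hE L (isUnit_saturation hE D) L.val
    Subtype.val_injective).1
  haveI : IsReduced L := isReduced_of_injective L.val Subtype.val_injective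
  letI : Algebra R₀ L := (Subalgebra.inclusion (show R₀ ≤ L from inf_le_left)).toRingHom.toAlgebra
  haveI : IsScalarTower R₀ L F := IsScalarTower.of_algebraMap_eq fun _ => rfl
  have hic : ∀ w : L, IsIntegral R₀ w → w ∈ Set.range (algebraMap R₀ L) := fun w hw =>
    ⟨⟨(w : F), mem_normalization_of_isIntegral w.2 (hw.map (IsScalarTower.toAlgHom R₀ L F))⟩,
      Subtype.ext rfl⟩
  haveI : Algebra.FormallyUnramified A E := formallyUnramified hE
  haveI : Algebra.EssFiniteType A E := essFiniteType hE
  haveI : Algebra.FormallyUnramified R₀ B :=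
    Algebra.FormallyUnramified.of_surjective (R := R₀) (A := R₀ ⊗[A] E) (B := B) Φ hΦ
  haveI : Algebra.EssFiniteType R₀ B :=
    Algebra.EssFiniteType.of_surjective (R := R₀) (S := R₀ ⊗[A] E) (T := B) Φ hΦ
  haveI : IsLocalization ((A⁰.map (algebraMap A R₀)).map (algebraMap R₀ B)) F := by
    refine ⟨?_, fun z => ?_, fun {x y} h => ⟨1, by rw [hinjB h]⟩⟩
    · rintro ⟨_, _, ⟨a, ha, rfl⟩, rfl⟩
      rw [← IsScalarTower.algebraMap_apply R₀ B F]
      show IsUnit (algebraMap A F a)
      rw [IsScalarTower.algebraMap_apply A E F]
      exact IsLocalization.map_units F (⟨_, map_mem_nonZeroDivisors hE ha⟩ : E⁰)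
    · obtain ⟨⟨e', m⟩, hz⟩ := IsLocalization.surj (A⁰.map (algebraMap A E)) z
      obtain ⟨a, ha, ham⟩ := m.2
      refine ⟨(Φ (1 ⊗ₜ e'), ⟨_, Submonoid.mem_map_of_mem _ (Submonoid.mem_map_of_mem _ ha)⟩), ?_⟩
      show z * algebraMap B F (algebraMap R₀ B (algebraMap A R₀ a)) = algebraMap B F (Φ (1 ⊗ₜ e'))
      rw [← IsScalarTower.algebraMap_apply R₀ B F, hΦF, tensorToFractions_tmul]
      show z * algebraMap A F a = 1 * algebraMap E F e'
      rw [one_mul, IsScalarTower.algebraMap_apply A E F, ham]
      exact hz
  exact local_facts (R₀ := R₀) (L := L) (B := B) (F := F) (Subalgebra.inclusion_injective _) hic hinjB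
    (A⁰.map (algebraMap A R₀)) P

/-- Normalization commutes with essentially etale extensions. -/
theorem exists_tensorToFractions_eq [IsReduced A] (hfin : (minimalPrimes A).Finite)
    (hE : EGA4loc.IsEssentiallyEtale A E) (D : Subalgebra A E) {x : FractionRing E}
    (hx : IsIntegral E x) : ∃ ζ, tensorToFractions D ζ = x := by
  let F := FractionRing E
  let R₀ := normalization D
  let Φ : R₀ ⊗[A] E →ₐ[R₀] F :=
    { tensorToFractions D with
      commutes' := fun r => by
        show tensorToFractions D (r ⊗ₜ 1) = (r : F)
        rw [tensorToFractions_tmul, map_one, mul_one] }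
  let B := Φ.range
  have hEB : ∀ e : E, algebraMap E F e ∈ B := fun e => ⟨1 ⊗ₜ e, by
    show tensorToFractions D (1 ⊗ₜ e) = _
    rw [tensorToFractions_tmul]; exact one_mul _⟩
  have hxB : IsIntegral B x :=
    hx.map_of_comp_eq (S := F) ((algebraMap E F).codRestrict B hEB) (RingHom.id F) (RingHom.ext fun _ => rfl)
  let I : Ideal B :=
    { carrier := {u | (u : F) * x ∈ B}
      add_mem' := fun {u v} h h' => by
        show ((u : F) + (v : F)) * x ∈ B
        rw [add_mul]; exact add_mem h h'
      zero_mem' := by show (0 : F) * x ∈ B; rw [zero_mul]; exact zero_mem _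
      smul_mem' := fun r {u} h => by
        show (r : F) * (u : F) * x ∈ B
        rw [mul_assoc]; exact mul_mem r.2 h }
  have hI : I = ⊤ := by
    by_contra hne
    obtain ⟨P, hP, hIP⟩ := Ideal.exists_le_maximal I hne
    haveI := hP.isPrime
    obtain ⟨u, b, hu, hub⟩ := (normalization_local_facts hfin hE D (B := B) Subtype.val_injective
      Φ.rangeRestrict Φ.rangeRestrict_surjective (fun _ => rfl) P).1 x hxB
    exact hu (hIP (show (u : F) * x ∈ B from (show (u : F) * x = (b : F) from hub).symm ▸ b.2))
  obtain ⟨ζ, hζ⟩ : x ∈ B := by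
    have : (1 : B) ∈ I := hI ▸ Submodule.mem_top
    simpa [I] using this
  exact ⟨ζ, hζ⟩

/-- Ideals descend along the normalization of an essentially etale extension, and the fibres are
unramified. -/
theorem toAmbient_facts [IsReduced A] (hfin : (minimalPrimes A).Finite)
    (hE : EGA4loc.IsEssentiallyEtale A E) (D : Subalgebra A E)
    (M : Ideal (integralClosure E (FractionRing E))) [M.IsPrime] :
    (∀ (a : Ideal (normalization D)) (z : normalization D) (u : integralClosure E (FractionRing E)),
      u ∉ M → u * toAmbient D z ∈ a.map (toAmbient D) → ∃ s, toAmbient D s ∉ M ∧ s * z ∈ a) ∧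
    (∀ b ∈ M, ∃ u ∉ M, u * b ∈ (M.comap (toAmbient D)).map (toAmbient D)) := by
  let F := FractionRing E
  let R₀ := normalization D
  let E' := integralClosure E F
  letI : Algebra R₀ E' := (toAmbient D).toAlgebra
  haveI : IsScalarTower R₀ E' F := IsScalarTower.of_algebraMap_eq fun _ => rfl
  let g : R₀ ⊗[A] E →+* E' := (tensorToFractions D).toRingHom.codRestrict E'
    (isIntegral_tensorToFractions D)
  let Φ : R₀ ⊗[A] E →ₐ[R₀] E' :=
    { g with
      commutes' := fun r => Subtype.ext (by
        show tensorToFractions D (r ⊗ₜ 1) = (r : F)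
        rw [tensorToFractions_tmul, map_one, mul_one]) }
  have hΦ : Function.Surjective Φ := fun z => by
    obtain ⟨ζ, hζ⟩ := exists_tensorToFractions_eq hfin hE D (x := (z : F)) z.2
    exact ⟨ζ, Subtype.ext hζ⟩
  exact (normalization_local_facts hfin hE D (B := E') Subtype.val_injective Φ hΦ (fun _ => rfl) M).2

end Groth.Agent.EssEt6
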