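import Groth.Agent.EssEt6.StrictFix

/-!
# Artin-Rees for the stages of a dominated subalgebra
-/

set_option autoImplicit false
set_option linter.style.haveILetI false
set_option maxSynthPendingDepth 6

universe u

open nonZeroDivisors IsLocalRing
open scoped TensorProduct

namespace Groth.Agent.EssEt6

variable {A S : Type u} [CommRing A] [IsLocalRing A] [CommRing S] [IsLocalRing S] [Algebra A S]
  [IsLocalHom (algebraMap A S)] [Hensel.IsStrictHenselization A S]

omit [IsLocalRing A] [IsLocalRing S] [IsLocalHom (algebraMap A S)] [Hensel.IsStrictHenselization A S] in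
/-- An element of a normalization lives in a finite stage. -/
theorem exists_finset_mem_normalization {D : Subalgebra A S} {z : FractionRing S}
    (hz : z ∈ normalization D) :
    ∃ t : Finset S, (t : Set S) ⊆ D ∧ ∀ D₂ : Subalgebra A S, (t : Set S) ⊆ D₂ → z ∈ normalization D₂ := by
  classical
  obtain ⟨⟨a, ha, d, hd, hax⟩, hint⟩ := hz
  obtain ⟨p, hp, hpz⟩ := (show IsIntegral D z from hint)
  refine ⟨insert d (p.support.image fun i => ((p.coeff i : D) : S)), ?_, fun D₂ hs => ?_⟩
  · intro e he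
    rcases Finset.mem_insert.mp he with rfl | h
    · exact hd
    · obtain ⟨i, -, rfl⟩ := Finset.mem_image.mp h
      exact (p.coeff i).2
  refine ⟨⟨a, ha, d, hs (Finset.mem_insert_self _ _), hax⟩, ?_⟩
  have hp' : p.map (algebraMap D S) ∈ Polynomial.lifts (algebraMap D₂ S) := by
    rw [Polynomial.lifts_iff_coeff_lifts]
    intro i
    rw [Polynomial.coeff_map]
    by_cases h0 : p.coeff i = 0
    · exact ⟨0, by rw [h0, map_zero, map_zero]⟩
    · exact ⟨⟨_, hs (Finset.mem_insert_of_mem (Finset.mem_image_of_mem _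
        (Polynomial.mem_support_iff.mpr h0)))⟩, rfl⟩
  obtain ⟨q, hq, -, hqm⟩ := Polynomial.lifts_and_natDegree_eq_and_monic hp' (hp.map _)
  refine ⟨q, hqm, ?_⟩
  rw [IsScalarTower.algebraMap_eq D₂ S (FractionRing S), ← Polynomial.eval₂_map, hq, Polynomial.eval₂_map,
    ← IsScalarTower.algebraMap_eq]
  exact hpz

variable [IsReduced A] [IsNoetherianRing A]

/-- The normalization of an essentially finite type subalgebra is finite. -/
theorem finite_toNormalization_strict (hA : CAlg.IsNagata A) (D₀ : Subalgebra A S)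
    [Algebra.EssFiniteType A D₀] : (toNormalization D₀).Finite := by
  obtain ⟨g, -, hg⟩ := exists_finset_forall_le D₀
  obtain ⟨E, hgE, _, hlE, hE⟩ := exists_subalgebra (A := A) S g
  have hDE : D₀ ≤ E := hg E hlE hgE
  obtain ⟨Φ, hΦi, hΦ⟩ := exists_stage_fractions hE
  let eD : D₀ ≃ₐ[A] (Subalgebra.inclusion hDE).range :=
    AlgEquiv.ofInjective _ (Subalgebra.inclusion_injective hDE)
  let D' : Subalgebra A E := (Subalgebra.inclusion hDE).range
  haveI : Algebra.EssFiniteType A D' :=
    Algebra.EssFiniteType.of_surjective eD.toAlgHom eD.surjective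
  obtain ⟨ψ, hψ⟩ := exists_normalization_equiv hE D' Φ hΦi eD.symm.toRingEquiv
    (fun d => by
      obtain ⟨d, rfl⟩ := eD.surjective d
      show Φ _ = algebraMap D₀ _ (eD.symm (eD d))
      rw [eD.symm_apply_apply]
      exact hΦ _) (normalization D₀) fun x =>
      ⟨fun ⟨⟨a, ha, d, hd, h⟩, hi⟩ => ⟨hi, a, ha, ⟨d, hd⟩, h⟩,
        fun ⟨hi, a, ha, r, h⟩ => ⟨⟨a, ha, r, r.2, h⟩, hi⟩⟩
  have h1 : toNormalization D₀ =
      ψ.toRingEquiv.toRingHom.comp ((toNormalization D').comp eD.toRingEquiv.toRingHom) :=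
    RingHom.ext fun d => Subtype.ext ((hΦ (eD d : D')).symm.trans (hψ (toNormalization D' (eD d))).symm)
  rw [h1]
  exact (RingHom.Finite.of_surjective _ ψ.surjective).comp
    ((finite_toNormalization hA hE D').comp (RingHom.Finite.of_surjective _ eD.surjective))

omit [IsReduced A] [IsNoetherianRing A] in
theorem finite_maximal_of_finite (D₀ : Subalgebra A S) [IsLocalRing D₀]
    (h : (toNormalization D₀).Finite) : {N : Ideal (normalization D₀) | N.IsMaximal}.Finite := by
  letI : Algebra D₀ (normalization D₀) := (toNormalization D₀).toAlgebra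
  haveI : Module.Finite D₀ (normalization D₀) := h
  refine (Algebra.QuasiFinite.finite_primesOver (S := normalization D₀)
    (maximalIdeal D₀)).subset fun N hN => ?_
  haveI : N.IsMaximal := hN
  exact ⟨inferInstance, ⟨(IsLocalRing.eq_maximalIdeal
    (Ideal.isMaximal_comap_of_isIntegral_of_isMaximal (R := D₀) N)).symm⟩⟩

/-- Powers of the maximal ideal descend locally into the normalization of a subalgebra. -/
theorem exists_mul_mem_pow (D₀ : Subalgebra A S)
    (Q : Ideal (integralClosure S (FractionRing S))) [Q.IsPrime] {δ : S} (hδ : δ ∈ D₀) {j : ℕ}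
    (hj : δ ∈ (maximalIdeal A ^ j).map (algebraMap A S)) :
    ∃ r, toAmbient D₀ r ∉ Q ∧
      r * toNormalization D₀ ⟨δ, hδ⟩ ∈ (maximalIdeal A ^ j).map (algebraMap A (normalization D₀)) := by
  classical
  obtain ⟨E, hδE, _, hlE, hE⟩ := exists_subalgebra (A := A) S {δ}
  haveI := flat_strict (A := A) S
  haveI := faithfullyFlat hE S
  obtain ⟨Φ, hΦi, hΦ⟩ := exists_stage_fractions hE
  let D' : Subalgebra A E := D₀.comap E.val
  let δ' : E := ⟨δ, hδE (by simp)⟩
  have hδ' : δ' ∈ (maximalIdeal A ^ j).map (algebraMap A E) := by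
    rw [← Ideal.comap_map_eq_self_of_faithfullyFlat (B := S) ((maximalIdeal A ^ j).map (algebraMap A E)),
      Ideal.mem_comap, Ideal.map_map, ← IsScalarTower.algebraMap_eq]
    exact hj
  let U : integralClosure E (FractionRing E) →+* integralClosure S (FractionRing S) :=
    (Φ.toRingHom.comp (integralClosure E (FractionRing E)).val.toRingHom).codRestrict _
      fun y => (y.2 : IsIntegral E (y : FractionRing E)).map_of_comp_eq (S := FractionRing E)
        (algebraMap E S) Φ.toRingHom (RingHom.ext fun e => (hΦ e).symm)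
  let χ : normalization D' →+* normalization D₀ :=
    (Φ.toRingHom.comp (normalization D').val.toRingHom).codRestrict _
      fun y => map_mem_normalization hΦ (D := D₀) (fun _ hd => hd) y.2
  let a : Ideal (normalization D') := (maximalIdeal A ^ j).map (algebraMap A (normalization D'))
  have h1 : (1 : integralClosure E (FractionRing E)) * toAmbient D' (toNormalization D' ⟨δ', hδ⟩) ∈
      a.map (toAmbient D') := by
    rw [one_mul, show toAmbient D' (toNormalization D' ⟨δ', hδ⟩) =
        algebraMap E (integralClosure E (FractionRing E)) δ' from Subtype.ext rfl,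
      show a.map (toAmbient D') = ((maximalIdeal A ^ j).map (algebraMap A E)).map
        (algebraMap E (integralClosure E (FractionRing E))) by
        rw [Ideal.map_map, Ideal.map_map]
        refine congrArg (fun f : A →+* integralClosure E (FractionRing E) =>
          Ideal.map f (maximalIdeal A ^ j)) ?_
        exact RingHom.ext fun r => Subtype.ext (IsScalarTower.algebraMap_apply A E (FractionRing E) r)]
    exact Ideal.mem_map_of_mem _ hδ'
  obtain ⟨s, hs, hsx⟩ := (toAmbient_facts (minimalPrimes.finite_of_isNoetherianRing A) hE D'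
    (Q.comap U)).1 a _ 1 ((Ideal.ne_top_iff_one _).mp (Ideal.IsPrime.ne_top inferInstance)) h1
  refine ⟨χ s, fun h => hs h, ?_⟩
  rw [show toNormalization D₀ ⟨δ, hδ⟩ = χ (toNormalization D' ⟨δ', hδ⟩) from Subtype.ext (hΦ δ').symm,
    ← map_mul]
  have h2 := Ideal.mem_map_of_mem χ hsx
  rw [Ideal.map_map, show χ.comp (algebraMap A (normalization D')) = algebraMap A (normalization D₀) from
    RingHom.ext fun r => Subtype.ext (Φ.commutes r)] at h2
  exact h2

/-- Stages satisfy Artin-Rees inequalities for the topology of the strict henselization. -/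
theorem exists_stage_rees (hA : CAlg.IsNagata A) (D : Subalgebra A S) [IsLocalRing D]
    [IsLocalHom (algebraMap D S)]
    (hover : ∀ P : Ideal (normalization D), P.IsMaximal →
      ∃ Q : Ideal (integralClosure S (FractionRing S)), Q.IsMaximal ∧ Q.comap (toAmbient D) = P)
    (D₀ : Subalgebra A S) (h0 : D₀ ≤ D) [IsLocalRing D₀] [IsLocalHom (algebraMap D₀ S)]
    [Algebra.EssFiniteType A D₀] :
    ∃ D₂ : Subalgebra A S, ∃ h02 : D₀ ≤ D₂, D₂ ≤ D ∧ IsLocalHom (algebraMap D₂ S) ∧
      Algebra.EssFiniteType A D₂ ∧ ∃ c : ℕ, ∀ (n : ℕ) (δ : D₀),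
        (δ : S) ∈ (maximalIdeal A ^ (n + c)).map (algebraMap A S) →
        Subalgebra.inclusion h02 δ ∈ (maximalIdeal A ^ n).map (algebraMap A D₂) := by
  classical
  let N₀ := normalization D₀
  let j₀ := toAmbient D₀
  -- the maximal ideals not under the normalization of the strict henselization
  let bad : Set (Ideal N₀) :=
    {N | N.IsMaximal ∧ ∀ Q : Ideal (integralClosure S (FractionRing S)), Q.IsMaximal → Q.comap j₀ ≠ N}
  have hbad : bad.Finite :=
    (finite_maximal_of_finite D₀ (finite_toNormalization_strict hA D₀)).subset fun N hN => hN.1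
  let ι₀ := Subalgebra.inclusion (normalization_mono h0)
  have hone : ∀ N ∈ bad, (1 : normalization D) ∈ N.map ι₀.toRingHom := by
    intro N hN
    by_contra h1
    obtain ⟨P, hP, hNP⟩ := Ideal.exists_le_maximal _ ((Ideal.ne_top_iff_one _).mpr h1)
    obtain ⟨Q, hQ, hQP⟩ := hover P hP
    haveI := hQ
    refine hN.2 Q hQ (hN.1.eq_of_le (isMaximal_comap_toAmbient D₀ Q).ne_top fun x hx => ?_).symm
    have h2 : ι₀ x ∈ Q.comap (toAmbient D) := hQP.symm ▸ hNP (Ideal.mem_map_of_mem ι₀.toRingHom hx)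
    exact h2
  have hwit : ∀ N ∈ bad, ∃ t : Finset S, (t : Set S) ⊆ D ∧ ∀ (D₂ : Subalgebra A S) (h02 : D₀ ≤ D₂),
      (t : Set S) ⊆ D₂ → (N.map (Subalgebra.inclusion (normalization_mono h02)).toRingHom) = ⊤ := by
    intro N hN
    have key : ∀ x : normalization D, x ∈ N.map ι₀.toRingHom → ∃ t : Finset S, (t : Set S) ⊆ D ∧
        ∀ (D₂ : Subalgebra A S) (h02 : D₀ ≤ D₂), (t : Set S) ⊆ D₂ →
          ∃ x' ∈ N.map (Subalgebra.inclusion (normalization_mono h02)).toRingHom,
            (x' : FractionRing S) = x := by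
      intro x hx
      refine Submodule.span_induction ?_ ?_ ?_ ?_ hx
      · rintro _ ⟨y, hy, rfl⟩
        exact ⟨∅, by simp, fun D₂ h02 _ => ⟨_, Ideal.mem_map_of_mem _ hy, rfl⟩⟩
      · exact ⟨∅, by simp, fun D₂ h02 _ => ⟨0, zero_mem _, rfl⟩⟩
      · rintro x y _ _ ⟨t, htD, ht⟩ ⟨t', htD', ht'⟩
        refine ⟨t ∪ t', by rw [Finset.coe_union]; exact Set.union_subset htD htD', fun D₂ h02 h => ?_⟩
        rw [Finset.coe_union, Set.union_subset_iff] at h
        obtain ⟨x', hx', hxx⟩ := ht D₂ h02 h.1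
        obtain ⟨y', hy', hyy⟩ := ht' D₂ h02 h.2
        exact ⟨x' + y', add_mem hx' hy', congrArg₂ (· + ·) hxx hyy⟩
      · rintro r x _ ⟨t, htD, ht⟩
        obtain ⟨t', htD', ht'⟩ := exists_finset_mem_normalization r.2
        refine ⟨t ∪ t', by rw [Finset.coe_union]; exact Set.union_subset htD htD', fun D₂ h02 h => ?_⟩
        rw [Finset.coe_union, Set.union_subset_iff] at h
        obtain ⟨x', hx', hxx⟩ := ht D₂ h02 h.1
        exact ⟨⟨_, ht' D₂ h.2⟩ * x', Ideal.mul_mem_left _ _ hx', congrArg₂ (· * ·) rfl hxx⟩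
    obtain ⟨t, htD, ht⟩ := key 1 (hone N hN)
    refine ⟨t, htD, fun D₂ h02 h => (Ideal.eq_top_iff_one _).mpr ?_⟩
    obtain ⟨x', hx', hxx⟩ := ht D₂ h02 h
    rwa [show x' = 1 from Subtype.ext hxx] at hx'
  choose tw htwD htw using hwit
  obtain ⟨g, hgD₀, hg⟩ := exists_finset_forall_le D₀
  let t : Finset S := g ∪ hbad.toFinset.attach.biUnion fun N => tw N.1 (hbad.mem_toFinset.mp N.2)
  have htD : (t : Set S) ⊆ D := fun x hx => by
    rcases Finset.mem_union.mp hx with h | h
    · exact h0 (hgD₀ h)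
    · obtain ⟨N, -, hN⟩ := Finset.mem_biUnion.mp h
      exact htwD _ _ hN
  let C₂ := Algebra.adjoin A (t : Set S)
  let D₂ := localSub C₂
  haveI : Algebra.FiniteType A C₂ := (Subalgebra.fg_iff_finiteType C₂).mp ⟨t, rfl⟩
  haveI := essFiniteType_localSub C₂
  have htD₂ : (t : Set S) ⊆ D₂ := Algebra.subset_adjoin.trans (le_localSub C₂)
  have h02 : D₀ ≤ D₂ := hg D₂ inferInstance fun x hx => htD₂ (Finset.mem_union_left _ hx)
  refine ⟨D₂, h02, localSub_le (Algebra.adjoin_le htD), inferInstance, inferInstance, ?_⟩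
  let N₂ := normalization D₂
  haveI : IsNoetherianRing D₂ := Algebra.EssFiniteType.isNoetherianRing A D₂
  letI : Algebra D₂ N₂ := (toNormalization D₂).toAlgebra
  haveI : Module.Finite D₂ N₂ := finite_toNormalization_strict hA D₂
  haveI : IsScalarTower A D₂ N₂ := IsScalarTower.of_algebraMap_eq fun a => Subtype.ext
    (IsScalarTower.algebraMap_apply A S (FractionRing S) a)
  let I : Ideal D₂ := (maximalIdeal A).map (algebraMap A D₂)
  let Im : Submodule D₂ N₂ := LinearMap.range (Algebra.linearMap D₂ N₂)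
  obtain ⟨c, hc⟩ := Ideal.exists_pow_inf_eq_pow_smul I Im
  refine ⟨c, fun n δ hδ => ?_⟩
  let ι₂ := (Subalgebra.inclusion (normalization_mono h02)).toRingHom
  let a₀ : Ideal N₀ := (maximalIdeal A ^ (n + c)).map (algebraMap A N₀)
  let x₀ : N₀ := toNormalization D₀ δ
  let x₂ : N₂ := toNormalization D₂ (Subalgebra.inclusion h02 δ)
  have hcond : (Submodule.colon a₀ (Ideal.span {x₀} : Ideal N₀)).map ι₂ = ⊤ := by
    by_contra hne
    obtain ⟨P, hP, hle⟩ := Ideal.exists_le_maximal _ hne
    haveI := hP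
    haveI : IsLocalRing D₂ := inferInstance
    have hN : (P.comap ι₂).IsMaximal := isMaximal_comap_normalization h02 P
    by_cases hb : P.comap ι₂ ∈ bad
    · have htop := htw _ hb D₂ h02 fun x hx => htD₂ (Finset.mem_union_right _
        (Finset.mem_biUnion.mpr ⟨⟨_, hbad.mem_toFinset.mpr hb⟩, Finset.mem_attach _ _, hx⟩))
      exact hP.ne_top (top_le_iff.mp (htop.symm.le.trans (Ideal.map_comap_le)))
    · obtain ⟨Q, hQ, hQN⟩ : ∃ Q : Ideal (integralClosure S (FractionRing S)), Q.IsMaximal ∧
          Q.comap j₀ = P.comap ι₂ := by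
        by_contra h
        exact hb ⟨hN, fun Q hQ e => h ⟨Q, hQ, e⟩⟩
      haveI := hQ.isPrime
      obtain ⟨r, hr, hrx⟩ := exists_mul_mem_pow D₀ Q δ.2 hδ
      refine hr ?_
      have h2 : r ∈ Q.comap j₀ := hQN.symm ▸ Ideal.map_le_iff_le_comap.mp hle
        (Ideal.mem_colon_span_singleton.mpr hrx)
      exact h2
  have hx₂ : x₂ ∈ (maximalIdeal A ^ (n + c)).map (algebraMap A N₂) := by
    have h1 : (1 : N₂) * x₂ ∈ (maximalIdeal A ^ (n + c)).map (algebraMap A N₂) := by
      refine (show Submodule.colon a₀ (Ideal.span {x₀} : Ideal N₀) ≤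
        (Submodule.colon ((maximalIdeal A ^ (n + c)).map (algebraMap A N₂))
          (Ideal.span {x₂} : Ideal N₂)).comap ι₂ from fun r hr => ?_) |> fun h =>
        Ideal.mem_colon_span_singleton.mp ((Ideal.map_le_iff_le_comap.mpr h) (hcond ▸ Submodule.mem_top))
      rw [Ideal.mem_comap, Ideal.mem_colon_span_singleton]
      have h2 := Ideal.mem_map_of_mem ι₂ (Ideal.mem_colon_span_singleton.mp hr)
      rw [map_mul, Ideal.map_map, show ι₂.comp (algebraMap A N₀) = algebraMap A N₂ from
        RingHom.ext fun _ => rfl] at h2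
      exact h2
    rwa [one_mul] at h1
  have h3 : x₂ ∈ I ^ (n + c) • (⊤ : Submodule D₂ N₂) ⊓ Im := by
    refine ⟨?_, _, rfl⟩
    rw [Ideal.smul_top_eq_map, ← Ideal.map_pow, Ideal.map_map, ← IsScalarTower.algebraMap_eq]
    exact hx₂
  rw [hc (n + c) (Nat.le_add_left c n), Nat.add_sub_cancel] at h3
  have h4 : x₂ ∈ I ^ n • Im := Submodule.smul_mono le_rfl inf_le_right h3
  rw [show Im = (⊤ : Submodule D₂ D₂).map (Algebra.linearMap D₂ N₂) from (Submodule.map_top _).symm,
    ← Submodule.map_smul''] at h4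
  obtain ⟨d', hd', he⟩ := h4
  have hdd : d' = Subalgebra.inclusion h02 δ :=
    Subtype.ext (IsFractionRing.injective S (FractionRing S) (congrArg Subtype.val he))
  rw [← hdd, Ideal.map_pow]
  simpa [Ideal.mul_top] using hd'

end Groth.Agent.EssEt6
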