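import Groth.Agent.EssEt6.StrictTop
import Groth.Agent.EssEt6.GaloisStage
import Mathlib.RingTheory.Adjoin.Tower

/-!
# The fixed subalgebra of a dominated subalgebra with the residual product property
-/

set_option autoImplicit false
set_option linter.style.haveILetI false
set_option maxSynthPendingDepth 6

universe u

open nonZeroDivisors IsLocalRing
open scoped TensorProduct

namespace Groth.Agent.EssEt6

variable {A S : Type u} [CommRing A] [IsLocalRing A] [CommRing S] [IsLocalRing S] [Algebra A S]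
  [IsLocalHom (algebraMap A S)] [Hensel.IsStrictHenselization A S]

/-- The elements fixed by the automorphisms fixing a subalgebra. -/
def fixSub (D : Subalgebra A S) : Subalgebra A S where
  carrier := {x | ∀ σ : S ≃ₐ[A] S, (∀ d ∈ D, σ d = d) → σ x = x}
  mul_mem' hx hy σ hσ := by rw [map_mul, hx σ hσ, hy σ hσ]
  one_mem' σ _ := map_one σ
  add_mem' hx hy σ hσ := by rw [map_add, hx σ hσ, hy σ hσ]
  zero_mem' σ _ := map_zero σ
  algebraMap_mem' a σ _ := σ.commutes a

omit [IsLocalRing A] [IsLocalRing S] [IsLocalHom (algebraMap A S)] [Hensel.IsStrictHenselization A S] in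
theorem le_fixSub (D : Subalgebra A S) : D ≤ fixSub D := fun _ hd _ hσ => hσ _ hd

omit [IsLocalRing A] [IsLocalHom (algebraMap A S)] [Hensel.IsStrictHenselization A S] in
theorem isLocalHom_fixSub (D : Subalgebra A S) : IsLocalHom (algebraMap (fixSub D) S) := by
  refine ⟨fun z hz => ?_⟩
  obtain ⟨w, hw⟩ := hz.exists_right_inv
  refine IsUnit.of_mul_eq_one (⟨w, fun σ hσ => ?_⟩ : fixSub D) (Subtype.ext hw)
  refine hz.mul_left_cancel ?_
  show (z : S) * σ w = (z : S) * w
  have hw' : (z : S) * w = 1 := hw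
  conv_lhs => rw [← z.2 σ hσ]
  rw [← map_mul, hw', map_one]

/-- An algebra map between residue fields lifts to an automorphism. -/
theorem exists_algEquiv_residue (τ : ResidueField S →ₐ[ResidueField A] ResidueField S) :
    ∃ σ : S ≃ₐ[A] S, ∀ x, residue S (σ x) = τ (residue S x) := by
  haveI : HenselianLocalRing S := Hensel.IsStrictHenselization.henselian (R := A)
  haveI : IsSepClosure (ResidueField A) (ResidueField S) :=
    Hensel.IsStrictHenselization.isSepClosure (R := A) (S := S)
  haveI : Algebra.IsSeparable (ResidueField A) (ResidueField S) := IsSepClosure.separable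
  let e := AlgEquiv.ofBijective τ (Algebra.IsAlgebraic.algHom_bijective τ)
  have huniv : ∀ ρ : ResidueField S →ₐ[ResidueField A] ResidueField S,
      ∃! g : S →+* S, g.comp (algebraMap A S) = algebraMap A S ∧
        ∀ x : S, residue S (g x) = ρ.toRingHom (residue S x) := fun ρ =>
    Hensel.IsStrictHenselization.universal (R := A) (S := S) S (algebraMap A S) ρ.toRingHom
      (RingHom.ext fun x => by
        obtain ⟨a, rfl⟩ := IsLocalRing.residue_surjective x
        exact ρ.commutes (residue A a))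
  obtain ⟨g, ⟨hgA, hg⟩, -⟩ := huniv τ
  obtain ⟨g', ⟨hgA', hg'⟩, -⟩ := huniv e.symm.toAlgHom
  obtain ⟨i, -, hi⟩ := huniv (AlgHom.id _ _)
  have hid : RingHom.id S = i := hi _ ⟨rfl, fun _ => rfl⟩
  have h1 : g.comp g' = i := hi _ ⟨by rw [RingHom.comp_assoc, hgA', hgA], fun x => by
    rw [RingHom.comp_apply, hg, hg']
    exact e.apply_symm_apply _⟩
  have h2 : g'.comp g = i := hi _ ⟨by rw [RingHom.comp_assoc, hgA, hgA'], fun x => by
    rw [RingHom.comp_apply, hg', hg]
    exact e.symm_apply_apply _⟩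
  exact ⟨AlgEquiv.ofAlgHom { g with commutes' := fun a => RingHom.congr_fun hgA a }
    { g' with commutes' := fun a => RingHom.congr_fun hgA' a }
    (AlgHom.ext fun x => RingHom.congr_fun (h1.trans hid.symm) x)
    (AlgHom.ext fun x => RingHom.congr_fun (h2.trans hid.symm) x), hg⟩

/-- An essentially etale stage has finitely many maps into the strict henselization. -/
theorem finite_algHom_stage {E : Subalgebra A S} [IsLocalRing E] (hE : EGA4loc.IsEssentiallyEtale A E) :
    Finite (E →ₐ[A] S) := by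
  haveI := isLocalHom hE
  haveI := formallyUnramified hE
  haveI := essFiniteType hE
  have hloc : ∀ φ : E →ₐ[A] S, IsLocalHom φ.toRingHom := fun φ =>
    ((local_hom_TFAE φ.toRingHom).out 2 0).mp (by
      rw [← map_maximalIdeal hE, Ideal.map_map, show φ.toRingHom.comp (algebraMap A E) = algebraMap A S from φ.comp_algebraMap]
      exact ((local_hom_TFAE (algebraMap A S)).out 0 2).mp ‹_›)
  let res : (E →ₐ[A] S) → (ResidueField E →ₐ[ResidueField A] ResidueField S) := fun φ =>
    haveI := hloc φ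
    { ResidueField.map φ.toRingHom with
      commutes' := fun r => by
        obtain ⟨a, rfl⟩ := IsLocalRing.residue_surjective r
        exact congrArg (residue S) (φ.commutes a) }
  refine Finite.of_injective res fun φ ψ h => eq_of_residue_eq hE φ ψ fun x => ?_
  exact DFunLike.congr_fun h (residue E x)

variable [IsReduced A] [IsNoetherianRing A]

/-- Locally at a maximal ideal of the normalization of the strict henselization, the maximal ideal of
the normalization of a subalgebra comes from the base. -/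
theorem exists_mul_mem_map_strict (D : Subalgebra A S)
    (Q : Ideal (integralClosure S (FractionRing S))) [Q.IsPrime] {z : normalization D}
    (hz : toAmbient D z ∈ Q) :
    ∃ s, toAmbient D s ∉ Q ∧ s * z ∈
      (Q.comap (toAmbient (⊥ : Subalgebra A S))).map
        (Subalgebra.inclusion (normalization_mono (bot_le (a := D)))) := by
  classical
  obtain ⟨t, -, ht⟩ := exists_preimage D z.2
  obtain ⟨E, htE, _, -, hE⟩ := exists_subalgebra (A := A) S t
  obtain ⟨Φ, hΦi, hΦ⟩ := exists_stage_fractions hE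
  obtain ⟨x, hx, hxz⟩ := ht E hE htE Φ hΦi hΦ
  let D₀ : Subalgebra A E := D.comap E.val
  let U : integralClosure E (FractionRing E) →+* integralClosure S (FractionRing S) :=
    (Φ.toRingHom.comp (integralClosure E (FractionRing E)).val.toRingHom).codRestrict _
      fun y => (y.2 : IsIntegral E (y : FractionRing E)).map_of_comp_eq (S := FractionRing E)
        (algebraMap E S) Φ.toRingHom (RingHom.ext fun e => (hΦ e).symm)
  let M := Q.comap U
  let χ : normalization D₀ →+* normalization D :=
    (Φ.toRingHom.comp (normalization D₀).val.toRingHom).codRestrict _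
      fun y => map_mem_normalization hΦ (D := D) (fun _ hd => hd) y.2
  let χ₀ : baseNorm A E →+* baseNorm A S :=
    (Φ.toRingHom.comp (baseNorm A E).val.toRingHom).codRestrict _
      fun y => map_mem_normalization hΦ (D := ⊥) (fun d hd => by
        obtain ⟨c, hc⟩ := Algebra.mem_bot.mp hd
        exact Algebra.mem_bot.mpr ⟨c, congrArg Subtype.val hc⟩) y.2
  have hzM : toAmbient D₀ ⟨x, hx⟩ ∈ M := by
    show U (toAmbient D₀ ⟨x, hx⟩) ∈ Q
    rw [show U (toAmbient D₀ ⟨x, hx⟩) = toAmbient D z from Subtype.ext hxz]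
    exact hz
  obtain ⟨s, hs, hsx⟩ := exists_mul_mem_map hE D₀ M hzM
  refine ⟨χ s, fun h => hs h, ?_⟩
  rw [show z = χ ⟨x, hx⟩ from Subtype.ext hxz.symm, ← map_mul]
  have hle : ((M.comap (toAmbient (⊥ : Subalgebra A E))).map
      (Subalgebra.inclusion (normalization_mono (bot_le (a := D₀))))).map χ ≤
      (Q.comap (toAmbient (⊥ : Subalgebra A S))).map
        (Subalgebra.inclusion (normalization_mono (bot_le (a := D)))) := by
    refine Ideal.map_le_iff_le_comap.mpr (Ideal.map_le_iff_le_comap.mpr fun a ha => ?_)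
    exact Ideal.mem_map_of_mem (Subalgebra.inclusion (normalization_mono (bot_le (a := D))))
      (show χ₀ a ∈ Q.comap (toAmbient (⊥ : Subalgebra A S)) from ha)
  exact hle (Ideal.mem_map_of_mem χ hsx)

/-- Automorphisms fixing the residue field of a subalgebra with the residual product property fix
it. -/
theorem eq_on_strict (hA : CAlg.IsNagata A) (D : Subalgebra A S) [IsLocalRing D]
    [IsLocalHom (algebraMap D S)] (hsurj : Function.Surjective (resNorm D)) (σ : S ≃ₐ[A] S)
    (hres : ∀ d ∈ D, σ d - d ∈ maximalIdeal S) : ∀ d ∈ D, σ d = d := by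
  classical
  let K := FractionRing S
  let D₁ := normalization D
  let S' := integralClosure S K
  have hu : ∀ n : S⁰, IsUnit ((IsScalarTower.toAlgHom A S K).comp σ.toAlgHom n) := fun n => by
    refine IsLocalization.map_units (M := S⁰) K (⟨σ n, ?_⟩ : S⁰)
    rw [mem_nonZeroDivisors_iff_right]
    intro x hx
    obtain ⟨y, rfl⟩ := σ.surjective x
    rw [← map_mul, map_eq_zero_iff σ σ.injective] at hx
    rw [(mem_nonZeroDivisors_iff_right.mp n.2) _ hx, map_zero]
  let Φ : K →ₐ[A] K := IsLocalization.liftAlgHom (M := S⁰) hu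
  have hΦ : ∀ e, Φ (algebraMap S K e) = algebraMap S K (σ e) := fun e => IsLocalization.lift_eq _ e
  let V : S' →+* S' := (Φ.toRingHom.comp S'.val.toRingHom).codRestrict S'
    fun x => (x.2 : IsIntegral S (x : K)).map_of_comp_eq (S := K) σ.toRingEquiv.toRingHom Φ.toRingHom
      (RingHom.ext fun e => (hΦ e).symm)
  let u : D₁ →+* S' := toAmbient D
  let v : D₁ →+* S' := V.comp (toAmbient D)
  have huD : ∀ d : D, u (toNormalization D d) = algebraMap S S' d := fun d => Subtype.ext rfl
  have hvD : ∀ d : D, v (toNormalization D d) = algebraMap S S' (σ d) := fun d => Subtype.ext (hΦ _)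
  let incl := Subalgebra.inclusion (normalization_mono (bot_le (a := D)))
  have hbase : ∀ a : baseNorm A S, u (incl a) = v (incl a) := fun a => by
    refine Subtype.ext ?_
    show (a : K) = Φ (a : K)
    obtain ⟨c, hc, b, hb, hcb⟩ := a.2.1
    obtain ⟨r, rfl⟩ := Algebra.mem_bot.mp hb
    rw [← IsScalarTower.algebraMap_apply] at hcb
    refine (isUnit_strict hc).mul_left_cancel ?_
    have h2 := congrArg Φ hcb
    rw [map_mul, Φ.commutes, Φ.commutes] at h2
    rw [hcb, h2]
  let J : Ideal S' := Ideal.span (Set.range fun z => u z - v z)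
  have hall : ∀ z, u z - v z ∈ J := fun z => Ideal.subset_span ⟨z, rfl⟩
  haveI := finite_integralClosure_strict (S := S) hA
  haveI := isNoetherianRing_strict (A := A) (S := S) ‹_›
  haveI : IsNoetherianRing S' := IsNoetherianRing.of_finite S S'
  have hJfg : J.FG := IsNoetherian.noetherian J
  suffices hJ : J = ⊥ by
    intro d hd
    have h0 : u (toNormalization D ⟨d, hd⟩) - v (toNormalization D ⟨d, hd⟩) = 0 :=
      (Submodule.mem_bot S').mp (hJ ▸ hall _)
    rw [huD, hvD, sub_eq_zero] at h0
    exact (IsFractionRing.injective S K (congrArg Subtype.val h0)).symm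
  by_contra hne
  obtain ⟨Q, hQ, hAnn⟩ := Ideal.exists_le_maximal J.annihilator (fun h => hne
    (Submodule.annihilator_eq_top_iff.mp h))
  haveI := hQ
  have hQS : Q.comap (algebraMap S S') = maximalIdeal S :=
    IsLocalRing.eq_maximalIdeal (Ideal.isMaximal_comap_of_isIntegral_of_isMaximal (R := S) Q)
  haveI hMV : (Q.comap V).IsMaximal := by
    haveI : (Q.comap V).IsPrime := Ideal.comap_isPrime _ _
    refine Ideal.isMaximal_of_isIntegral_of_isMaximal_comap (R := S) _ ?_
    have h1 : (Q.comap V).comap (algebraMap S _) = (Q.comap (algebraMap S S')).comap σ.toRingEquiv.toRingHom := by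
      rw [Ideal.comap_comap, Ideal.comap_comap]
      exact congrArg (fun f : S →+* S' => Ideal.comap f Q) (RingHom.ext fun e => Subtype.ext (hΦ e))
    rw [h1, hQS]
    exact Ideal.comap_isMaximal_of_surjective σ.toRingEquiv.toRingHom σ.surjective
  have hNU := isMaximal_comap_toAmbient D Q
  have hNV := isMaximal_comap_toAmbient D (Q.comap V)
  have hmemQ : ∀ z, u z - v z ∈ Q := by
    intro z
    obtain ⟨ζ, hζ⟩ := hsurj (Ideal.Quotient.mkₐ A _ z)
    have hr : z - prodNorm D ζ ∈ Ideal.jacobson (⊥ : Ideal D₁) := Ideal.Quotient.eq.mp hζ.symm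
    have h1 : u (z - prodNorm D ζ) ∈ Q := mem_jacobson_bot_iff_forall.mp hr _ hNU
    have h2 : v (z - prodNorm D ζ) ∈ Q := mem_jacobson_bot_iff_forall.mp hr _ hNV
    have h3 : ∀ ζ, u (prodNorm D ζ) - v (prodNorm D ζ) ∈ Q := by
      intro ζ
      induction ζ using TensorProduct.induction_on with
      | zero => simp
      | tmul a d =>
        have he : prodNorm D (a ⊗ₜ d) = incl a * toNormalization D d := rfl
        rw [he, map_mul, map_mul, hbase, ← mul_sub, huD, hvD, ← map_sub]
        refine Q.mul_mem_left _ (hQS.ge ?_ : (d : S) - σ d ∈ Q.comap (algebraMap S S'))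
        rw [← neg_sub]
        exact neg_mem (hres d d.2)
      | add x y hx hy =>
        rw [map_add, map_add, map_add, add_sub_add_comm]
        exact add_mem hx hy
    rw [show u z - v z = u (z - prodNorm D ζ) - v (z - prodNorm D ζ) +
      (u (prodNorm D ζ) - v (prodNorm D ζ)) by rw [map_sub, map_sub]; ring]
    exact add_mem (sub_mem h1 h2) (h3 ζ)
  have hJQ : J ≤ Q := Ideal.span_le.mpr (by rintro _ ⟨z, rfl⟩; exact hmemQ z)
  let Good : D₁ → Prop := fun z => ∃ t, t ∉ Q ∧ t * (u z - v z) ∈ Q * J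
  have hadd : ∀ x y, Good x → Good y → Good (x + y) := by
    rintro x y ⟨s, hs, hsx⟩ ⟨t, ht, hty⟩
    refine ⟨s * t, fun h => (hQ.isPrime.mem_or_mem h).elim hs ht, ?_⟩
    rw [map_add, map_add, show s * t * (u x + u y - (v x + v y)) =
      t * (s * (u x - v x)) + s * (t * (u y - v y)) by ring]
    exact add_mem (Ideal.mul_mem_left _ _ hsx) (Ideal.mul_mem_left _ _ hty)
  have hmul : ∀ x y, Good x → Good y → Good (x * y) := by
    rintro x y ⟨s, hs, hsx⟩ ⟨t, ht, hty⟩
    refine ⟨s * t, fun h => (hQ.isPrime.mem_or_mem h).elim hs ht, ?_⟩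
    rw [map_mul, map_mul, show s * t * (u x * u y - v x * v y) =
      t * u y * (s * (u x - v x)) + s * v x * (t * (u y - v y)) by ring]
    exact add_mem (Ideal.mul_mem_left _ _ hsx) (Ideal.mul_mem_left _ _ hty)
  have hgoodN : ∀ z, u z ∈ Q → Good z := by
    intro z hz
    obtain ⟨s, hs, hsz⟩ := exists_mul_mem_map_strict D Q hz
    have key : ∀ x ∈ (Q.comap (toAmbient (⊥ : Subalgebra A S))).map incl, u x - v x ∈ Q * J := by
      intro x hx
      refine Submodule.span_induction ?_ ?_ ?_ ?_ hx
      · rintro _ ⟨a, -, rfl⟩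
        rw [hbase, sub_self]; exact zero_mem _
      · simp
      · intro x y _ _ hx hy
        rw [map_add, map_add, add_sub_add_comm]; exact add_mem hx hy
      · intro y x hx' hx
        rw [smul_eq_mul, map_mul, map_mul, show u y * u x - v y * v x =
          u x * (u y - v y) + v y * (u x - v x) by ring]
        refine add_mem (Ideal.mul_mem_mul ?_ (hall y)) (Ideal.mul_mem_left _ _ hx)
        have hN : x ∈ Q.comap u := by
          refine (Ideal.map_le_iff_le_comap.mpr fun a ha => ?_ :
            (Q.comap (toAmbient (⊥ : Subalgebra A S))).map incl ≤ Q.comap u) hx'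
          exact ha
        exact hN
    refine ⟨u s, hs, ?_⟩
    have h1 := key _ hsz
    rw [map_mul, map_mul] at h1
    rw [show u s * (u z - v z) = (u s * u z - v s * v z) - v z * (u s - v s) by ring]
    refine sub_mem h1 (Ideal.mul_mem_mul ?_ (hall s))
    have := sub_mem hz (hmemQ z)
    rwa [sub_sub_cancel] at this
  have hgoodD : ∀ d : D, Good (toNormalization D d) := by
    intro d
    haveI : IsLocalHom (algebraMap A D) :=
      ⟨fun a ha => IsUnit.of_map (algebraMap A S) a (ha.map (algebraMap D S))⟩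
    haveI : IsSepClosure (ResidueField A) (ResidueField S) :=
      Hensel.IsStrictHenselization.isSepClosure (R := A) (S := S)
    haveI : Algebra.IsSeparable (ResidueField A) (ResidueField S) := IsSepClosure.separable
    let f : ResidueField D →ₐ[ResidueField A] ResidueField S :=
      { ResidueField.map (algebraMap D S) with
        commutes' := fun x => by
          obtain ⟨a, rfl⟩ := IsLocalRing.residue_surjective x
          rfl }
    haveI : Algebra.IsSeparable (ResidueField A) (ResidueField D) :=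
      Algebra.IsSeparable.of_algHom (ResidueField A) (ResidueField S) f
    let c := residue D d
    have hint : IsIntegral (ResidueField A) c := Algebra.IsSeparable.isIntegral _ c
    obtain ⟨P, hP, -, hPm⟩ := Polynomial.lifts_and_degree_eq_and_monic
      (Polynomial.map_surjective (residue A) residue_surjective (minpoly (ResidueField A) c) |>.elim
        fun g hg => (⟨g, hg⟩ : minpoly (ResidueField A) c ∈ Polynomial.lifts (residue A)))
      (minpoly.monic hint)
    have hPd : ∀ p : Polynomial A, residue D (Polynomial.aeval d p) =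
        Polynomial.aeval c (p.map (residue A)) := fun p => by
      have h1 := Polynomial.aeval_algHom_apply (IsScalarTower.toAlgHom A D (ResidueField D)) d p
      rw [show Polynomial.map (residue A) p = p.map (algebraMap A (ResidueField A)) from rfl,
        Polynomial.aeval_map_algebraMap]
      exact h1.symm
    have hPm' : Polynomial.aeval d P ∈ maximalIdeal D := by
      rw [← residue_eq_zero_iff, hPd, hP, minpoly.aeval]
    have hP' : IsUnit (Polynomial.aeval d P.derivative) := by
      rw [← residue_ne_zero_iff_isUnit, hPd, ← Polynomial.derivative_map, hP]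
      exact (Algebra.IsSeparable.isSeparable (ResidueField A) c).aeval_derivative_ne_zero (minpoly.aeval _ c)
    obtain ⟨t, ht, htd⟩ := hgoodN (toNormalization D (Polynomial.aeval d P)) (by
      rw [huD]
      refine (hQS.ge ?_ : ((Polynomial.aeval d P : D) : S) ∈ Q.comap (algebraMap S S'))
      rw [mem_maximalIdeal, mem_nonunits_iff] at hPm' ⊢
      exact fun h => hPm' (IsUnit.of_map (algebraMap D S) _ h))
    have hcomm : ∀ (φ : S →ₐ[A] S) (p : Polynomial A),
        algebraMap S S' (φ ((Polynomial.aeval d p : D) : S)) =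
          (p.map (algebraMap A S')).eval (algebraMap S S' (φ d)) := fun φ p => by
      have h1 := Polynomial.aeval_algHom_apply (((IsScalarTower.toAlgHom A S S').comp φ).comp D.val) d p
      rw [Polynomial.eval_map, ← Polynomial.aeval_def]
      exact h1.symm
    have hcommσ := hcomm σ.toAlgHom
    have hcommid := hcomm (AlgHom.id A S)
    simp only [AlgHom.id_apply] at hcommid
    rw [huD, hvD] at htd
    rw [hcommid, show σ ((Polynomial.aeval d P : D) : S) = σ.toAlgHom _ from rfl, hcommσ] at htd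
    let x := algebraMap S S' (d : S)
    let y := algebraMap S S' (σ d)
    obtain ⟨k, hk⟩ := (P.map (algebraMap A S')).binomExpansion y (x - y)
    have hxy : x - y ∈ J := by simpa only [huD, hvD] using hall (toNormalization D d)
    refine ⟨t * algebraMap S S' (σ.toAlgHom (Polynomial.aeval d P.derivative : D)), ?_, ?_⟩
    · intro h
      rcases hQ.isPrime.mem_or_mem h with h | h
      · exact ht h
      · exact hQ.ne_top (Ideal.eq_top_of_isUnit_mem _ h
          (((hP'.map (algebraMap D S)).map σ.toAlgHom).map (algebraMap S S')))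
    · rw [huD, hvD, hcommσ, ← Polynomial.derivative_map]
      show t * (Polynomial.derivative (P.map (algebraMap A S'))).eval y * (x - y) ∈ _
      rw [add_sub_cancel] at hk
      rw [show t * (Polynomial.derivative (P.map (algebraMap A S'))).eval y * (x - y) =
        t * ((P.map (algebraMap A S')).eval x - (P.map (algebraMap A S')).eval y) -
          t * k * ((x - y) * (x - y)) by rw [hk]; ring]
      exact sub_mem htd (Ideal.mul_mem_left _ _ (Ideal.mul_mem_mul (hJQ hxy) hxy))
  have hgood : ∀ z, Good z := by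
    intro z
    obtain ⟨ζ, hζ⟩ := hsurj (Ideal.Quotient.mkₐ A _ z)
    have hr : z - prodNorm D ζ ∈ Ideal.jacobson (⊥ : Ideal D₁) := Ideal.Quotient.eq.mp hζ.symm
    rw [show z = (z - prodNorm D ζ) + prodNorm D ζ from (sub_add_cancel z _).symm]
    refine hadd _ _ (hgoodN _ (mem_jacobson_bot_iff_forall.mp hr _ hNU)) ?_
    clear hr hζ
    induction ζ using TensorProduct.induction_on with
    | zero => exact ⟨1, (Ideal.ne_top_iff_one Q).mp hQ.ne_top, by simp⟩
    | tmul a d =>
      exact hmul _ _ ⟨1, (Ideal.ne_top_iff_one Q).mp hQ.ne_top, by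
        show 1 * (u (incl a) - v (incl a)) ∈ _
        rw [hbase, sub_self, mul_zero]; exact zero_mem _⟩ (hgoodD d)
    | add x y hx hy => rw [map_add]; exact hadd _ _ hx hy
  -- Nakayama
  obtain ⟨G, hG⟩ := hJfg
  have hkill : ∀ x ∈ J, ∃ t, t ∉ Q ∧ t * x ∈ Q * J := by
    intro x hx
    refine Submodule.span_induction ?_ ?_ ?_ ?_ hx
    · rintro _ ⟨z, rfl⟩
      exact hgood z
    · exact ⟨1, (Ideal.ne_top_iff_one Q).mp hQ.ne_top, by simp⟩
    · rintro x y _ _ ⟨s, hs, hsx⟩ ⟨t, ht, hty⟩
      refine ⟨s * t, fun h => (hQ.isPrime.mem_or_mem h).elim hs ht, ?_⟩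
      rw [mul_add, mul_right_comm, mul_assoc s t y]
      exact add_mem (Ideal.mul_mem_right _ _ hsx) (Ideal.mul_mem_left _ _ hty)
    · rintro c x _ ⟨s, hs, hsx⟩
      exact ⟨s, hs, by rw [smul_eq_mul, mul_left_comm]; exact Ideal.mul_mem_left _ _ hsx⟩
  choose tg htg htgJ using fun g : G => hkill g.1 (hG.le (Submodule.subset_span g.2))
  let t := ∏ g : G, tg g
  have ht : t ∉ Q := fun h => by
    obtain ⟨g, -, hgQ⟩ := (hQ.isPrime.prod_mem_iff).mp h
    exact htg g hgQ
  have htJ : ∀ x ∈ J, t * x ∈ Q * J := by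
    intro x hx
    refine Submodule.span_induction ?_ ?_ ?_ ?_ (hG.ge hx)
    · intro g hg
      show (∏ g : G, tg g) * _ ∈ _
      rw [← Finset.prod_erase_mul Finset.univ tg (Finset.mem_univ ⟨g, hg⟩), mul_assoc]
      exact Ideal.mul_mem_left _ _ (htgJ ⟨g, hg⟩)
    · simp
    · intro x y _ _ hx hy
      rw [mul_add]; exact add_mem hx hy
    · intro c x _ hx
      rw [smul_eq_mul, mul_left_comm]; exact Ideal.mul_mem_left _ _ hx
  have hle : J ≤ Q • J := fun x hx => by
    rw [smul_eq_mul]
    have h1 : (1 : S') ∈ Q ⊔ Ideal.span {t} := by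
      have : Q ⊔ Ideal.span {t} = ⊤ := by
        by_contra hne'
        exact ht ((hQ.eq_of_le hne' le_sup_left).ge
          ((le_sup_right (a := Q)) (Ideal.subset_span (Set.mem_singleton t))))
      rw [this]; trivial
    obtain ⟨q, hq, r, hr, hqr⟩ := Submodule.mem_sup.mp h1
    obtain ⟨c, rfl⟩ := Ideal.mem_span_singleton'.mp hr
    rw [← one_mul x, ← hqr, add_mul, mul_assoc]
    exact add_mem (Ideal.mul_mem_mul hq hx) (Ideal.mul_mem_left _ _ (htJ x hx))
  obtain ⟨r, hr1, hr0⟩ :=
    Submodule.exists_sub_one_mem_and_smul_eq_zero_of_fg_of_le_smul Q J ⟨G, hG⟩ hle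
  have hrQ : r ∈ Q := hAnn (Submodule.mem_annihilator.mpr hr0)
  exact hQ.ne_top ((Ideal.eq_top_iff_one Q).mpr (by simpa using sub_mem hrQ hr1))

/-- Residues of fixed elements come from the subalgebra. -/
theorem residue_mem_of_fixSub (hA : CAlg.IsNagata A) (D : Subalgebra A S) [IsLocalRing D]
    [IsLocalHom (algebraMap D S)] (hsurj : Function.Surjective (resNorm D))
    {x : S} (hx : x ∈ fixSub D) : ∃ d ∈ D, x - d ∈ maximalIdeal S := by
  haveI : IsLocalHom (algebraMap A D) :=
    ⟨fun a ha => IsUnit.of_map (algebraMap A S) a (ha.map (algebraMap D S))⟩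
  haveI : IsSepClosure (ResidueField A) (ResidueField S) :=
    Hensel.IsStrictHenselization.isSepClosure (R := A) (S := S)
  haveI : Algebra.IsSeparable (ResidueField A) (ResidueField S) := IsSepClosure.separable
  haveI : IsSepClosed (ResidueField S) := IsSepClosure.sep_closed (ResidueField A)
  haveI : IsScalarTower (ResidueField A) (ResidueField D) (ResidueField S) :=
    IsScalarTower.of_algebraMap_eq fun x => by
      obtain ⟨a, rfl⟩ := IsLocalRing.residue_surjective x
      rfl
  haveI : Algebra.IsSeparable (ResidueField D) (ResidueField S) :=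
    Algebra.isSeparable_tower_top_of_isSeparable (ResidueField A) _ _
  by_contra hnot
  have hc : residue S x ∉ (algebraMap (ResidueField D) (ResidueField S)).range := by
    rintro ⟨y, hy⟩
    obtain ⟨d, rfl⟩ := IsLocalRing.residue_surjective y
    exact hnot ⟨d, d.2, (residue_eq_zero_iff _).mp (by rw [map_sub, ← hy]; exact sub_self _)⟩
  obtain ⟨τ, hτ⟩ := exists_algHom_ne (AlgHom.id (ResidueField D) (ResidueField S)) hc
  obtain ⟨σ, hσ⟩ := exists_algEquiv_residue (τ.restrictScalars (ResidueField A))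
  have hres : ∀ d ∈ D, σ d - d ∈ maximalIdeal S := fun d hd => by
    rw [← residue_eq_zero_iff, map_sub, sub_eq_zero, hσ]
    exact τ.commutes (residue D ⟨d, hd⟩)
  apply hτ
  rw [AlgHom.id_apply]
  exact ((hσ x).symm.trans (congrArg (residue S) (hx σ (eq_on_strict hA D hsurj σ hres))))

/-- Finite subsets of the fixed subalgebra lie in essentially etale stages inside it. -/
theorem exists_stage_fixSub (D : Subalgebra A S) (T : Finset S) (hT : (T : Set S) ⊆ fixSub D) :
    ∃ E : Subalgebra A S, (T : Set S) ⊆ E ∧ E ≤ fixSub D ∧ ∃ _ : IsLocalRing E,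
      EGA4loc.IsEssentiallyEtale A E := by
  classical
  haveI := flat_strict (A := A) S
  obtain ⟨E, hTE, _, hlE, hE⟩ := exists_subalgebra (A := A) S T
  haveI := formallyUnramified hE
  haveI := essFiniteType hE
  haveI := finite_algHom_stage hE
  let gens := Algebra.EssFiniteType.finset A E
  let O : Set S := (⋃ φ : E →ₐ[A] S, φ '' (gens : Set E)) ∪ (T : Set S)
  have hO : O.Finite := (Set.finite_iUnion fun φ => gens.finite_toSet.image _).union T.finite_toSet
  let U₀ := Algebra.adjoin A O
  let E₂ := localSub U₀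
  haveI : IsLocalRing E₂ := isLocalRing_localSub U₀
  haveI : Algebra.FiniteType A U₀ :=
    (Subalgebra.fg_iff_finiteType U₀).mp ⟨hO.toFinset, by rw [hO.coe_toFinset]⟩
  haveI := essFiniteType_localSub U₀
  -- each conjugate of the stage lies in the new stage
  have hφ : ∀ (φ : E →ₐ[A] S) (e : E), φ e ∈ E₂ := by
    intro φ e
    have hC : ∀ c ∈ Algebra.adjoin A (gens : Set E), φ c ∈ U₀ := fun c hc => by
      have h1 : (Algebra.adjoin A (gens : Set E)).map φ ≤ U₀ := by
        rw [AlgHom.map_adjoin]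
        exact Algebra.adjoin_le fun y hy => Algebra.subset_adjoin (Or.inl (Set.mem_iUnion.mpr ⟨φ, hy⟩))
      exact h1 ⟨c, hc, rfl⟩
    obtain ⟨⟨c, u⟩, h⟩ := IsLocalization.surj (Algebra.EssFiniteType.submonoid A E) e
    have huu : IsUnit (algebraMap (Algebra.EssFiniteType.subalgebra A E) E u) :=
      IsLocalization.map_units E u
    refine mem_of_mul_mem (le_localSub _ (hC _ (u : Algebra.EssFiniteType.subalgebra A E).2))
      (huu.map φ) ?_
    show φ e * φ (algebraMap (Algebra.EssFiniteType.subalgebra A E) E u) ∈ E₂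
    rw [← map_mul, h]
    exact le_localSub _ (hC _ c.2)
  haveI : Algebra.FormallyUnramified A E₂ := by
    refine ⟨subsingleton_of_forall_eq 0 fun ω => ?_⟩
    have hd0 : ∀ x, (hx : x ∈ U₀) → KaehlerDifferential.D A E₂ ⟨x, le_localSub _ hx⟩ = 0 := by
      intro x hx
      induction hx using Algebra.adjoin_induction with
      | mem x hx =>
        obtain ⟨φ, e, hxe⟩ : ∃ (φ : E →ₐ[A] S) (e : E), φ e = x := by
          rcases hx with hx | hx
          · obtain ⟨φ, e, -, rfl⟩ := Set.mem_iUnion.mp hx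
            exact ⟨φ, e, rfl⟩
          · exact ⟨E.val, ⟨x, hTE hx⟩, rfl⟩
        let g : E →ₐ[A] E₂ := φ.codRestrict E₂ fun e' => hφ φ e'
        letI : Algebra E E₂ := g.toRingHom.toAlgebra
        haveI : IsScalarTower A E E₂ := IsScalarTower.of_algebraMap_eq fun a => (g.commutes a).symm
        have h0 : KaehlerDifferential.map A A E E₂ (KaehlerDifferential.D A E e) =
            KaehlerDifferential.D A E₂ (g e) := KaehlerDifferential.map_D A A E E₂ e
        rw [Subsingleton.elim (KaehlerDifferential.D A E e) 0, map_zero] at h0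
        exact (congrArg _ (Subtype.ext hxe.symm)).trans h0.symm
      | algebraMap r => exact Derivation.map_algebraMap _ r
      | add x y hx hy ihx ihy =>
        rw [show (⟨x + y, _⟩ : E₂) = ⟨x, le_localSub _ hx⟩ + ⟨y, le_localSub _ hy⟩ from rfl, map_add, ihx,
          ihy, add_zero]
      | mul x y hx hy ihx ihy =>
        rw [show (⟨x * y, _⟩ : E₂) = ⟨x, le_localSub _ hx⟩ * ⟨y, le_localSub _ hy⟩ from rfl,
          Derivation.leibniz, ihx, ihy, smul_zero, smul_zero, add_zero]
    have hd : ∀ x : E₂, KaehlerDifferential.D A E₂ x = 0 := by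
      intro x
      obtain ⟨u, hu, huu, hxu⟩ := x.2
      have h1 := hd0 _ hxu
      rw [show (⟨(x : S) * u, le_localSub _ hxu⟩ : E₂) = x * ⟨u, le_localSub _ hu⟩ from rfl,
        Derivation.leibniz, hd0 u hu, smul_zero, zero_add] at h1
      exact ((IsUnit.of_map (algebraMap E₂ S) ⟨u, le_localSub _ hu⟩ huu).smul_eq_zero).mp h1
    have hω : ω ∈ Submodule.span E₂ (Set.range (KaehlerDifferential.D A E₂)) :=
      (KaehlerDifferential.span_range_derivation A E₂).symm ▸ Submodule.mem_top
    induction hω using Submodule.span_induction with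
    | mem x hx => obtain ⟨y, rfl⟩ := hx; exact hd y
    | zero => rfl
    | add x y _ _ hx hy => rw [hx, hy, add_zero]
    | smul a x _ hx => rw [hx, smul_zero]
  haveI : IsLocalHom (algebraMap A E₂) := isLocalHom_algebraMap E₂
  haveI : IsLocalHom E₂.val.toRingHom := isLocalHom_localSub U₀
  have hE₂ : EGA4loc.IsEssentiallyEtale A E₂ := of_unramified E₂.val Subtype.val_injective
  haveI := finite_algHom_stage hE₂
  -- stability under the automorphisms fixing the subalgebra
  have hU₀ : ∀ σ : S ≃ₐ[A] S, (∀ d ∈ D, σ d = d) → ∀ x ∈ U₀, σ x ∈ U₀ := fun σ hσ x hx => by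
    have h1 : U₀.map σ.toAlgHom ≤ U₀ := by
      rw [AlgHom.map_adjoin]
      refine Algebra.adjoin_mono ?_
      rintro _ ⟨y, hy, rfl⟩
      rcases hy with hy | hy
      · obtain ⟨φ, e, he, rfl⟩ := Set.mem_iUnion.mp hy
        exact Or.inl (Set.mem_iUnion.mpr ⟨σ.toAlgHom.comp φ, e, he, rfl⟩)
      · exact Or.inr (by rw [show σ.toAlgHom y = y from hT hy σ hσ]; exact hy)
    exact h1 ⟨x, hx, rfl⟩
  have hE₂σ : ∀ σ : S ≃ₐ[A] S, (∀ d ∈ D, σ d = d) → ∀ x ∈ E₂, σ x ∈ E₂ := fun σ hσ x hx => by
    obtain ⟨u, hu, huu, hxu⟩ := hx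
    exact ⟨σ u, hU₀ σ hσ u hu, huu.map σ, by rw [← map_mul]; exact hU₀ σ hσ _ hxu⟩
  let Hs : Set (E₂ →ₐ[A] E₂) := {h | ∃ σ : S ≃ₐ[A] S, (∀ d ∈ D, σ d = d) ∧ ∀ x, (h x : S) = σ x}
  have hHfin : Hs.Finite := by
    haveI : Finite (E₂ →ₐ[A] E₂) := Finite.of_injective (fun h => E₂.val.comp h) fun g h e =>
      AlgHom.ext fun x => Subtype.ext (DFunLike.congr_fun e x)
    exact Set.toFinite _
  let H := hHfin.toFinset
  have hH : ∀ h, h ∈ H ↔ ∃ σ : S ≃ₐ[A] S, (∀ d ∈ D, σ d = d) ∧ ∀ x, (h x : S) = σ x := fun h =>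
    hHfin.mem_toFinset
  have hid : AlgHom.id A E₂ ∈ H := (hH _).mpr ⟨AlgEquiv.refl, fun _ _ => rfl, fun _ => rfl⟩
  have hcomp : ∀ g ∈ H, ∀ h ∈ H, g.comp h ∈ H := fun g hg h hh => by
    obtain ⟨σ, hσD, hσ⟩ := (hH g).mp hg
    obtain ⟨τ, hτD, hτ⟩ := (hH h).mp hh
    exact (hH _).mpr ⟨τ.trans σ, fun d hd => by rw [AlgEquiv.trans_apply, hτD d hd, hσD d hd],
      fun x => (hσ (h x)).trans (congrArg σ (hτ x))⟩
  have hinj : ∀ g ∈ H, Function.Injective g := fun g hg => by
    obtain ⟨σ, -, hσ⟩ := (hH g).mp hg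
    intro x y e
    exact Subtype.ext (σ.injective (((hσ x).symm.trans (congrArg Subtype.val e)).trans (hσ y)))
  let E₃ : Subalgebra A S := fixSub D ⊓ E₂
  let D₂ : Subalgebra A E₂ := (fixSub D).comap E₂.val
  have hfix : ∀ x : E₂, x ∈ D₂ ↔ ∀ h ∈ H, h x = x := by
    intro x
    refine ⟨fun hx h hh => ?_, fun hx σ hσ => ?_⟩
    · obtain ⟨σ, hσD, hσ⟩ := (hH h).mp hh
      exact Subtype.ext ((hσ x).trans (hx σ hσD))
    · let h : E₂ →ₐ[A] E₂ := (σ.toAlgHom.comp E₂.val).codRestrict E₂ fun y => hE₂σ σ hσ y y.2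
      exact congrArg Subtype.val (hx h ((hH h).mpr ⟨σ, hσ, fun _ => rfl⟩))
  haveI hl3 : IsLocalHom (algebraMap E₃ S) := ⟨fun z hz => by
    obtain ⟨⟨w, hwF⟩, hw⟩ := ((isLocalHom_fixSub D).1 (⟨z, z.2.1⟩ : fixSub D) hz).exists_right_inv
    have hw' : (z : S) * w = 1 := congrArg Subtype.val hw
    obtain ⟨v, hvE, hv⟩ := exists_inv_mem (D := E₂) z.2.2 hz
    have hwv : w = v := hz.mul_left_cancel (hw'.trans hv.symm)
    exact IsUnit.of_mul_eq_one (⟨w, hwF, hwv ▸ hvE⟩ : E₃) (Subtype.ext hw')⟩
  haveI : IsLocalRing E₃ := isLocalRing_of_isLocalHom E₃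
  let eD : D₂ ≃ₐ[A] E₃ := AlgEquiv.ofAlgHom
    ((E₂.val.comp D₂.val).codRestrict E₃ fun y => ⟨y.2, y.1.2⟩)
    (((Subalgebra.inclusion inf_le_right : E₃ →ₐ[A] E₂)).codRestrict D₂ fun y => y.2.1)
    (AlgHom.ext fun _ => rfl) (AlgHom.ext fun _ => rfl)
  haveI hl2 : IsLocalHom (algebraMap D₂ E₂) := ⟨fun z hz => by
    have h1 : IsUnit (eD z) := IsUnit.of_map (algebraMap E₃ S) _ (hz.map (algebraMap E₂ S))
    simpa using h1.map eD.symm⟩
  have hm : (maximalIdeal A).map (algebraMap A E₃) = maximalIdeal E₃ := by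
    refine le_antisymm ?_ fun z hz => ?_
    · haveI : IsLocalHom (algebraMap A E₃) := isLocalHom_algebraMap E₃
      exact ((local_hom_TFAE (algebraMap A E₃)).out 0 2).mp ‹_›
    · have hzE : ((eD.symm z : D₂) : E₂) ∈ maximalIdeal E₂ := by
        rw [mem_maximalIdeal, mem_nonunits_iff] at hz ⊢
        exact fun h => hz (IsUnit.of_map (algebraMap E₃ S) z (h.map (algebraMap E₂ S)))
      have h1 := Ideal.mem_map_of_mem eD.toAlgHom
        (mem_map_of_fixed hE₂ H hid hcomp hinj D₂ hfix hzE)
      rw [← Ideal.map_coe, Ideal.map_map, eD.toAlgHom.comp_algebraMap] at h1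
      simpa using h1
  -- Artin-Tate
  let B := fixSub D ⊓ U₀
  letI : Algebra B U₀ := (Subalgebra.inclusion (inf_le_right : B ≤ U₀)).toRingHom.toAlgebra
  haveI : IsScalarTower A B U₀ := IsScalarTower.of_algebraMap_eq fun _ => rfl
  have hperm : ∀ g ∈ H, H.image (fun h => g.comp h) = H := fun g hg =>
    Finset.eq_of_subset_of_card_le
      (fun k hk => by
        obtain ⟨h, hh, rfl⟩ := Finset.mem_image.mp hk
        exact hcomp g hg h hh)
      (le_of_eq (Finset.card_image_of_injective H fun h h' e => AlgHom.ext fun z =>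
        hinj g hg (DFunLike.congr_fun e z)).symm)
  have hprod : ∀ (σ : S ≃ₐ[A] S) (_ : ∀ d ∈ D, σ d = d) (y : E₂) {R : Type u} [CommRing R]
      (F : E₂ → R), ∀ g : E₂ →ₐ[A] E₂, g ∈ H → ∏ h ∈ H, F (g (h y)) = ∏ h ∈ H, F (h y) := by
    intro σ _ y R _ F g hg
    conv_rhs => rw [← hperm g hg, Finset.prod_image (fun h _ h' _ e => AlgHom.ext fun w =>
      hinj g hg (DFunLike.congr_fun e w))]
    rfl
  haveI : Algebra.IsIntegral B U₀ := ⟨fun y => by
    let y' : E₂ := ⟨y, le_localSub _ y.2⟩
    have hyU : ∀ h ∈ H, (h y' : S) ∈ U₀ := fun h hh => by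
      obtain ⟨σ, hσD, hσ⟩ := (hH h).mp hh
      rw [hσ]; exact hU₀ σ hσD y y.2
    let P : Polynomial U₀ := ∏ h ∈ H.attach, (Polynomial.X - Polynomial.C ⟨_, hyU h.1 h.2⟩)
    have hPm : P.Monic := Polynomial.monic_prod_of_monic _ _ fun h _ => Polynomial.monic_X_sub_C _
    have hPS : P.map U₀.val.toRingHom = ∏ h ∈ H, (Polynomial.X - Polynomial.C (h y' : S)) := by
      rw [Polynomial.map_prod, ← Finset.prod_attach H]
      refine Finset.prod_congr rfl fun h _ => ?_
      rw [Polynomial.map_sub, Polynomial.map_X, Polynomial.map_C]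
      rfl
    have hcoef : P ∈ Polynomial.lifts (algebraMap B U₀) := by
      rw [Polynomial.lifts_iff_coeff_lifts]
      intro i
      refine ⟨⟨(P.coeff i : S), ⟨fun σ hσ => ?_, (P.coeff i).2⟩⟩, rfl⟩
      let g : E₂ →ₐ[A] E₂ := (σ.toAlgHom.comp E₂.val).codRestrict E₂ fun y => hE₂σ σ hσ y y.2
      have hg : g ∈ H := (hH g).mpr ⟨σ, hσ, fun _ => rfl⟩
      have h1 := congrArg (fun p => Polynomial.coeff p i) hPS
      rw [Polynomial.coeff_map] at h1
      show σ (U₀.val.toRingHom (P.coeff i)) = U₀.val.toRingHom (P.coeff i)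
      rw [h1]
      have h2 : (∏ h ∈ H, (Polynomial.X - Polynomial.C (h y' : S))).map σ.toAlgHom.toRingHom =
          ∏ h ∈ H, (Polynomial.X - Polynomial.C (g (h y') : S)) := by
        rw [Polynomial.map_prod]
        refine Finset.prod_congr rfl fun h _ => ?_
        rw [Polynomial.map_sub, Polynomial.map_X, Polynomial.map_C]
        rfl
      have h3 := h2.trans (hprod σ hσ y' (fun w => Polynomial.X - Polynomial.C (w : S)) g hg)
      exact (Polynomial.coeff_map _ _).symm.trans (congrArg (fun p => Polynomial.coeff p i) h3)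
    obtain ⟨q, hq, -, hqm⟩ := Polynomial.lifts_and_natDegree_eq_and_monic hcoef hPm
    refine ⟨q, hqm, ?_⟩
    rw [← Polynomial.eval_map, hq]
    show P.eval y = 0
    rw [Polynomial.eval_prod]
    refine Finset.prod_eq_zero (Finset.mem_attach H ⟨AlgHom.id A E₂, hid⟩) ?_
    rw [Polynomial.eval_sub, Polynomial.eval_X, Polynomial.eval_C, sub_eq_zero]
    exact Subtype.ext rfl⟩
  haveI : Algebra.FiniteType B U₀ := Algebra.FiniteType.of_restrictScalars_finiteType A B U₀
  haveI : Module.Finite B U₀ := Algebra.IsIntegral.finite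
  haveI : Algebra.FiniteType A B := ⟨fg_of_fg_of_fg A B U₀ Algebra.FiniteType.out Module.Finite.fg_top
    (Subalgebra.inclusion_injective _)⟩
  have hE₃ : E₃ = localSub B := by
    refine le_antisymm ?_ (localSub_le (le_inf inf_le_left (inf_le_right.trans (le_localSub _))))
    rintro x ⟨hxF, u, hu, huu, hxu⟩
    let u' : E₂ := ⟨u, le_localSub _ hu⟩
    let N : S := ∏ h ∈ H, (h u' : S)
    have hNU : N ∈ U₀ := prod_mem fun h hh => by
      obtain ⟨σ, hσD, hσ⟩ := (hH h).mp hh
      rw [hσ]; exact hU₀ σ hσD u hu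
    have hNF : N ∈ fixSub D := fun σ hσ => by
      let g : E₂ →ₐ[A] E₂ := (σ.toAlgHom.comp E₂.val).codRestrict E₂ fun y => hE₂σ σ hσ y y.2
      rw [map_prod]
      exact hprod σ hσ u' (fun w => (w : S)) g ((hH g).mpr ⟨σ, hσ, fun _ => rfl⟩)
    have hNu : IsUnit N := Finset.prod_induction _ IsUnit (fun _ _ => IsUnit.mul) isUnit_one fun h hh => by
      obtain ⟨σ, -, hσ⟩ := (hH h).mp hh
      rw [hσ]; exact huu.map σ
    refine ⟨N, ⟨hNF, hNU⟩, hNu, mul_mem hxF hNF, ?_⟩
    show x * ∏ h ∈ H, (h u' : S) ∈ U₀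
    rw [← Finset.mul_prod_erase H _ hid, ← mul_assoc]
    refine mul_mem hxu (prod_mem fun h hh => ?_)
    obtain ⟨σ, hσD, hσ⟩ := (hH h).mp (Finset.mem_of_mem_erase hh)
    rw [hσ]; exact hU₀ σ hσD u hu
  haveI : Algebra.EssFiniteType A E₃ := hE₃ ▸ essFiniteType_localSub B
  refine ⟨E₃, fun x hx => ⟨hT hx, le_localSub _ (Algebra.subset_adjoin (Or.inr hx))⟩, inf_le_left,
    ‹_›, isEssentiallyEtale_of_map_eq E₃ hm⟩

end Groth.Agent.EssEt6
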